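import Cfsg.Agent.Cam.Spor.Tools

/-!
# S3689, S3690: first consequences of `Pair` and `Core` (helper67)
-/

set_option autoImplicit false

namespace Cfsg.Agent.Cam.Spor

open Subgroup Cfsg.Agent.TwoFusion.PerfCore
open scoped commutatorElement

variable {L U : Type} [Group L] [Group U] {τ α β : U →* L} {R R' : Subgroup L}

theorem range_simple (hs : IsSimpleGroup U) {f : U →* L} (hf : Function.Injective f) : IsSimpleGroup f.range :=
  (MonoidHom.ofInjective hf).symm.isSimpleGroup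

theorem range_noncomm (hn : ¬ IsMulCommutative U) {f : U →* L} (hf : Function.Injective f) : ¬ IsMulCommutative f.range := fun h =>
  hn ⟨⟨fun a b => (MonoidHom.ofInjective hf).injective (by rw [map_mul, map_mul, h.is_comm.comm])⟩⟩

theorem Pair.tau_mem_cent (p : Pair τ R) (u : U) : τ u ∈ centralizer (R : Set L) :=
  mem_centralizer_iff.2 fun r hr => (p.comm u r hr).symm

/-- a perfect subgroup of `⟨x⟩ R` lies in `R` -/
theorem Pair.le_of_le_sup [Finite L] (p : Pair τ R) (u : U) {P : Subgroup L} (hP : ⁅P, P⁆ = P)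
    (h : P ≤ R ⊔ zpowers (τ u)) : P ≤ R := by
  have hc : ∀ r ∈ R, ∀ a ∈ zpowers (τ u), r * a = a * r := by
    rintro r hr _ ⟨k, rfl⟩
    have : Commute (τ u) r := p.comm u r hr
    exact (this.zpow_left k).symm.eq
  have h1 := le_sup_perf hc hP h
  have h2 : perf (zpowers (τ u)) = ⊥ := by
    refine eq_bot_of_perfect_comm (perf_perfect _) fun a ha b hb => ?_
    obtain ⟨i, rfl⟩ := perf_le _ ha
    obtain ⟨j, rfl⟩ := perf_le _ hb
    exact (Commute.zpow_zpow_self _ i j).eq
  rwa [h2, sup_bot_eq] at h1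

theorem Pair.le_cent (p : Pair τ R) (u : U) : R ≤ centralizer ({τ u} : Set L) := fun r hr =>
  mem_centralizer_iff.2 fun y hy => by
    rw [Set.mem_singleton_iff.1 hy]
    exact p.comm u r hr

theorem Pair.le_perf_cent [Finite L] (p : Pair τ R) (u : U) : R ≤ perf (centralizer ({τ u} : Set L)) :=
  le_perf (p.le_cent u) p.perfect

theorem Pair.card_dvd_R (p : Pair τ R) : Nat.card U ∣ Nat.card R := by
  obtain ⟨φ, hφ, hm⟩ := p.copy
  exact card_dvd_of_injective (φ.codRestrict R hm) fun a b h => hφ (congrArg Subtype.val h)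

section simple
variable (hs : IsSimpleGroup U) (hn : ¬ IsMulCommutative U)
include hs hn

theorem Pair.eq_one_of_mem (p : Pair τ R) {u : U} (h : τ u ∈ R) : u = 1 :=
  eq_one_of_comm hs hn fun v => p.inj (by rw [map_mul, map_mul]; exact (p.comm v _ h).symm)

/-- `N(R) ≤ N(T)` -/
theorem Pair.norm_le [Finite L] (p : Pair τ R) : normalizer (R : Set L) ≤ normalizer (τ.range : Set L) := by
  intro n hn'
  have hnC := normalizer_le_normalizer_cent R hn'
  -- the conjugate homomorphism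
  let τ' : U →* L := (MulAut.conj n).toMonoidHom.comp τ
  have hτ' : ∀ u, τ' u = n * τ u * n⁻¹ := fun u => rfl
  have hC' : ∀ u, τ' u ∈ centralizer (R : Set L) := fun u => conj_mem_of_norm hnC (p.tau_mem_cent u)
  -- `τ' U ⊓ T` is normal in `T`
  have hN : ∀ t ∈ τ.range, ∀ y ∈ τ'.range ⊓ τ.range, t * y * t⁻¹ ∈ τ'.range ⊓ τ.range := by
    rintro _ ⟨v, rfl⟩ y hy0
    obtain ⟨⟨w, rfl⟩, hy⟩ := mem_inf.1 hy0
    refine mem_inf.2 ⟨?_, mul_mem (mul_mem ⟨v, rfl⟩ hy) (inv_mem ⟨v, rfl⟩)⟩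
    have h1 : n⁻¹ * τ v * n⁻¹⁻¹ ∈ centralizer (R : Set L) := conj_mem_of_norm (inv_mem hnC) (p.tau_mem_cent v)
    obtain ⟨w', hw'⟩ := conj_mem_of_norm (p.cnorm h1) (⟨w, rfl⟩ : τ w ∈ τ.range)
    refine ⟨w', ?_⟩
    rw [hτ', hτ', hw']
    group
  rcases eq_bot_or_eq (range_simple hs p.inj) inf_le_right hN with h | h
  · -- the two groups commute
    exfalso
    have hc : ∀ w u, τ' w * τ u = τ u * τ' w := by
      intro w u
      have h1 : τ' w * τ u * (τ' w)⁻¹ * (τ u)⁻¹ ∈ τ.range :=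
        mul_mem (conj_mem_of_norm (p.cnorm (hC' w)) ⟨u, rfl⟩) (inv_mem ⟨u, rfl⟩)
      have h2 : τ u * (τ' w)⁻¹ * (τ u)⁻¹ ∈ τ'.range := by
        have h3 : n⁻¹ * τ u * n⁻¹⁻¹ ∈ centralizer (R : Set L) :=
          conj_mem_of_norm (inv_mem hnC) (p.tau_mem_cent u)
        obtain ⟨w', hw'⟩ := conj_mem_of_norm (p.cnorm h3) (⟨w⁻¹, rfl⟩ : τ w⁻¹ ∈ τ.range)
        refine ⟨w', ?_⟩
        rw [hτ', hτ', hw', map_inv]
        group
      have h4 : τ' w * τ u * (τ' w)⁻¹ * (τ u)⁻¹ ∈ τ'.range ⊓ τ.range := by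
        refine mem_inf.2 ⟨?_, h1⟩
        have := mul_mem (⟨w, rfl⟩ : τ' w ∈ τ'.range) h2
        simpa only [mul_assoc] using this
      rw [h, mem_bot] at h4
      calc τ' w * τ u = τ' w * τ u * (τ' w)⁻¹ * (τ u)⁻¹ * (τ u * τ' w) := by group
        _ = _ := by rw [h4, one_mul]
    apply hn
    refine ⟨⟨fun a b => ?_⟩⟩
    have h1 : τ' a = 1 := p.cfaith _ (hC' a) (hc a)
    have h2 : τ a = 1 := by
      rw [hτ'] at h1
      calc τ a = n⁻¹ * (n * τ a * n⁻¹) * n := by group
        _ = 1 := by rw [h1]; group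
    have h3 : a = 1 := p.inj (by rw [h2, map_one])
    rw [h3, one_mul, mul_one]
  · have hle : τ.range ≤ τ'.range := h ▸ inf_le_left
    refine (normalizer (τ.range : Set L)).inv_mem_iff.1 (mem_normalizer_of ?_)
    intro y hy
    obtain ⟨w, hw⟩ := hle hy
    refine ⟨w, ?_⟩
    rw [← hw, hτ']
    group

/-- the product of a subgroup of `T` and `R` -/
theorem Pair.card_mul_dvd (p : Pair τ R) (A : Subgroup U) {Y : Subgroup L} (hA : ∀ a ∈ A, τ a ∈ Y) (hR : R ≤ Y) :
    Nat.card A * Nat.card R ∣ Nat.card Y := by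
  let f : A →* Y := (τ.comp A.subtype).codRestrict Y fun a => hA a a.2
  let g : R →* Y := inclusion hR
  have hc : ∀ a r, Commute (f a) (g r) := fun a r => Subtype.ext (p.comm a r r.2)
  rw [← Nat.card_prod]
  refine card_dvd_of_injective (MonoidHom.noncommCoprod f g hc) ?_
  rw [injective_iff_map_eq_one]
  rintro ⟨a, r⟩ h
  have h1 : τ a * r = 1 := congrArg Subtype.val h
  have h2 : τ a ∈ R := by
    rw [eq_inv_of_mul_eq_one_left h1]
    exact inv_mem r.2
  have h3 : (a : U) = 1 := p.eq_one_of_mem hs hn h2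
  rw [h3, map_one, one_mul] at h1
  exact Prod.ext (Subtype.ext h3) (Subtype.ext h1)

theorem Pair.card_sq_dvd (p : Pair τ R) : Nat.card U ^ 2 ∣ Nat.card L := by
  have h := p.card_mul_dvd hs hn ⊤ (Y := ⊤) (fun _ _ => mem_top _) le_top
  rw [card_top, card_top] at h
  rw [pow_two]
  exact (Nat.mul_dvd_mul_left _ p.card_dvd_R).trans h

theorem Pair.order_mul_dvd (p : Pair τ R) (u : U) :
    orderOf u * Nat.card R ∣ Nat.card (centralizer ({τ u} : Set L)) := by
  rw [← Nat.card_zpowers]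
  refine p.card_mul_dvd hs hn _ ?_ (p.le_cent u)
  rintro _ ⟨k, rfl⟩
  refine mem_centralizer_iff.2 fun y hy => ?_
  rw [Set.mem_singleton_iff.1 hy, ← map_mul, ← map_mul]
  exact congrArg τ (Commute.zpow_right (Commute.refl u) k).eq

theorem Pair.order_mul_dvd' (p : Pair τ R) (u : U) :
    orderOf u * Nat.card U ∣ Nat.card (centralizer ({τ u} : Set L)) :=
  (Nat.mul_dvd_mul_left _ p.card_dvd_R).trans (p.order_mul_dvd hs hn u)

end simple

theorem Pair.orderOf_eq (p : Pair τ R) (u : U) : orderOf (τ u) = orderOf u := orderOf_injective τ p.inj u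

theorem Core.ab (c : Core τ α β R R') (u v : U) : α u * β v = β v * α u := c.pair'.comm u _ (c.bmem v)

theorem Core.conj_alpha (c : Core τ α β R R') (u v : U) : τ v * α u * (τ v)⁻¹ = α (v * u * v⁻¹) := by
  rw [c.eq, map_mul, map_mul, map_inv]
  calc α v * β v * α u * (α v * β v)⁻¹ = α v * (β v * α u) * (β v)⁻¹ * (α v)⁻¹ := by group
    _ = _ := by rw [← c.ab]; group

theorem Core.conj_beta (c : Core τ α β R R') (u v : U) : τ v * β u * (τ v)⁻¹ = β (v * u * v⁻¹) := by
  rw [c.eq, map_mul, map_mul, map_inv, c.ab]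
  calc β v * α v * β u * (β v * α v)⁻¹ = β v * (α v * β u) * (α v)⁻¹ * (β v)⁻¹ := by group
    _ = _ := by rw [c.ab]; group

theorem Core.alpha_mem_cent (c : Core τ α β R R') {u v : U} (h : u * v = v * u) :
    α v ∈ centralizer ({τ u} : Set L) := mem_centralizer_iff.2 fun y hy => by
  rw [Set.mem_singleton_iff.1 hy]
  have := c.conj_alpha v u
  rw [h, mul_inv_cancel_right] at this
  calc τ u * α v = τ u * α v * (τ u)⁻¹ * τ u := by group
    _ = _ := by rw [this]

theorem Core.beta_mem_cent (c : Core τ α β R R') {u v : U} (h : u * v = v * u) :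
    β v ∈ centralizer ({τ u} : Set L) := mem_centralizer_iff.2 fun y hy => by
  rw [Set.mem_singleton_iff.1 hy]
  have := c.conj_beta v u
  rw [h, mul_inv_cancel_right] at this
  calc τ u * β v = τ u * β v * (τ u)⁻¹ * τ u := by group
    _ = _ := by rw [this]

/-- no non-trivial element of `α U` normalizes `R` -/
theorem Core.anorm' [Finite L] (c : Core τ α β R R') {u : U} (h : α u ∈ normalizer (R : Set L)) : u = 1 :=
  c.anorm u (norm_sup (c.pair.norm_le c.simple c.noncomm h) h)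

/-- `β` is injective -/
theorem Core.binj (c : Core τ α β R R') : Function.Injective β := by
  rw [← MonoidHom.ker_eq_bot_iff]
  rcases c.simple.eq_bot_or_eq_top_of_normal β.ker inferInstance with h | h
  · exact h
  · exfalso
    apply c.noncomm
    have h1 : ∀ u : U, u = 1 := fun u => by
      refine c.anorm u ?_
      have h2 : β u = 1 := MonoidHom.mem_ker.1 (h ▸ mem_top u)
      have h3 : α u = τ u := by rw [c.eq, h2, mul_one]
      rw [h3]
      exact le_normalizer (mem_sup_left ⟨u, rfl⟩)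
    exact ⟨⟨fun a b => by rw [h1 a, one_mul, mul_one]⟩⟩

/-- no non-trivial element of `β U` normalizes `R` -/
theorem Core.bnorm' [Finite L] (c : Core τ α β R R') {u : U} (h : β u ∈ normalizer (R : Set L)) : u = 1 := by
  refine c.anorm' ?_
  have h1 : α u = τ u * (β u)⁻¹ := by rw [c.eq]; group
  rw [h1]
  exact mul_mem (centralizer_le_normalizer _ (c.pair.tau_mem_cent u)) (inv_mem h)

theorem Core.alpha_not_mem [Finite L] (c : Core τ α β R R') {u : U} (hu : u ≠ 1) {y : L} (hy : y ∈ τ.range ⊔ R) :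
    α u ≠ y := fun h => hu (c.anorm u (h ▸ le_normalizer hy))

/-- **`R` is not normal in any subgroup containing `α u`**: `R` is not the perfect core of `Y ∋ α u` -/
theorem Core.not_perf_le' [Finite L] (c : Core τ α β R R') {u : U} (hu : u ≠ 1) {Y : Subgroup L} (hR : R ≤ Y)
    (hY : α u ∈ Y) : ¬ perf Y ≤ R := fun h => by
  have h1 : perf Y = R := le_antisymm h (le_perf hR c.pair.perfect)
  exact hu (c.anorm' (h1 ▸ normalizer_le_normalizer_perf Y (le_normalizer hY)))

theorem Core.not_perf_le [Finite L] (c : Core τ α β R R') {u : U} (hu : u ≠ 1) :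
    ¬ perf (centralizer ({τ u} : Set L)) ≤ R :=
  c.not_perf_le' hu (c.pair.le_cent u) (c.alpha_mem_cent rfl)

/-- if the commutator of `τ v` and `α u` normalizes `R`, then `v` commutes with `u` -/
theorem Core.sp [Finite L] (c : Core τ α β R R') {u v : U}
    (h : τ v * α u * (τ v)⁻¹ * (α u)⁻¹ ∈ normalizer (R : Set L)) : v * u = u * v := by
  rw [c.conj_alpha, ← map_inv, ← map_mul] at h
  have h1 : v * u * v⁻¹ * u⁻¹ = 1 := c.anorm' h
  calc v * u = v * u * v⁻¹ * u⁻¹ * (u * v) := by group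
    _ = _ := by rw [h1, one_mul]

theorem Core.exists_orderOf [Finite U] {r : ℕ} (hr : r.Prime) (h : r ∣ Nat.card U) : ∃ u : U, orderOf u = r ∧ u ≠ 1 := by
  haveI : Fact r.Prime := ⟨hr⟩
  obtain ⟨u, hu⟩ := exists_prime_orderOf_dvd_card' r h
  refine ⟨u, hu, fun h1 => ?_⟩
  rw [h1, orderOf_one] at hu
  exact hr.one_lt.ne hu

end Cfsg.Agent.Cam.Spor
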