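import Cfsg.Agent.Cam.Spor.SD
import Cfsg.Agent.TAB.M5.A
import Cfsg.Agent.S2082
import Cfsg.Agent.S1701

/-!
# S3689, S3690: an involution of the Monster inverting a `5A`-element and centralizing `HN` (helper66)
-/

set_option autoImplicit false

namespace Cfsg.Agent.Cam.Spor

open Cfsg Subgroup Cfsg.Agent.BpSpor.MBigModel Cfsg.Agent.TAB.M5
open Cfsg.Agent.H136.M23.BWords (xu xu_rat)

theorem xu_pow : (xu : MG) ^ 5 = 1 := by rw [← orderOf_xu', pow_orderOf_eq_one]

theorem xu_split {c : MG} (hc : c * xu = xu * c) : ∃ (i : ℤ) (h : Spor.HN), c = (xu : MG) ^ i * emb h := by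
  obtain ⟨i, t, ht, rfl⟩ := dp.split c (mem_centralizer_singleton_iff.2 hc)
  obtain ⟨h, rfl⟩ := exists_emb ht
  exact ⟨i, h, by rw [zpow_natCast]⟩

theorem xu_disj {i : ℤ} {h : Spor.HN} (e : (xu : MG) ^ i = emb h) : h = 1 :=
  emb_inj ((disjoint_def.1 dp.disj (e ▸ (⟨i, rfl⟩ : (xu : MG) ^ i ∈ zpowers (xu : MG))) (emb_mem h)).trans
    (map_one emb).symm)

theorem hn_center {h : Spor.HN} (e : ∀ k, h * k = k * h) : h = 1 := by
  refine eq_one_of_comm S1701.result.1 (fun hc => ?_) e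
  have : IsSimpleGroup Spor.HN := S1701.result.1
  have h1 := (Group.is_simple_iff_prime_card (α := Spor.HN)).1 this
  rw [S1701.result.2] at h1
  norm_num at h1

/-- `C(xu) = ⟨xu⟩ × HN`, with an involution inverting `xu` and centralizing `HN` -/
theorem exists_delta : ∃ δ : MG, SD (xu : MG) δ TH := by
  have := finite
  obtain ⟨g, hg⟩ := xu_rat 2 (by norm_num)
  have hgC : g ∈ normalizer ((centralizer ({(xu : MG)} : Set MG) : Subgroup MG) : Set MG) := by
    refine mem_normalizer_of fun y hy => mem_centralizer_singleton_iff.2 ?_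
    have h1 : (xu : MG) = g * (xu : MG) ^ 3 * g⁻¹ := by
      rw [← conj_pow, hg, ← pow_mul, show 2 * 3 = 5 + 1 from rfl, pow_succ, xu_pow, one_mul]
    have h2 : Commute y ((xu : MG) ^ 3) := (show Commute y xu from mem_centralizer_singleton_iff.1 hy).pow_right 3
    rw [h1]
    calc g * y * g⁻¹ * (g * (xu : MG) ^ 3 * g⁻¹) = g * (y * (xu : MG) ^ 3) * g⁻¹ := by group
      _ = _ := by rw [h2.eq]; group
  have hgT : g ∈ normalizer (TH : Set MG) := by
    refine mem_normalizer_of fun y hy => ?_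
    have h1 : (centralizer ({(xu : MG)} : Set MG)).map (MulAut.conj g).toMonoidHom ≤ centralizer ({(xu : MG)} : Set MG) := by
      rintro _ ⟨y, hy, rfl⟩
      exact conj_mem_of_norm hgC hy
    have h2 : TH.map (MulAut.conj g).toMonoidHom ≤ TH := by
      rw [dp.comm, map_commutator]
      exact commutator_mono h1 h1
    exact h2 ⟨y, hy, rfl⟩
  let θ : MulAut Spor.HN := MulAut.congr eH.symm (TH.normalizerMonoidHom ⟨g, hgT⟩)
  have hθ : ∀ k, emb (θ k) = g * emb k * g⁻¹ := fun k => by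
    rw [emb_apply]
    change ((eH (eH.symm _) : TH) : MG) = _
    rw [eH.apply_symm_apply]
    rfl
  obtain ⟨h, hh⟩ := mul_self_mem_of_index_two (H := Inn Spor.HN) S2082.result θ
  have h1 : ∀ k, g * g * (emb h)⁻¹ * emb k = emb k * (g * g * (emb h)⁻¹) := fun k => by
    have h2 : emb (θ (θ (h⁻¹ * k * h))) = emb k := by
      change emb ((θ * θ) _) = _
      rw [← hh, MulAut.conj_apply]
      congr 1
      group
    rw [hθ, hθ, map_mul, map_mul, map_inv] at h2
    nth_rewrite 2 [← h2]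
    group
  have h2 : g * g * (emb h)⁻¹ * xu * (g * g * (emb h)⁻¹)⁻¹ = (xu : MG)⁻¹ := by
    calc g * g * (emb h)⁻¹ * xu * (g * g * (emb h)⁻¹)⁻¹ = g * (g * ((emb h)⁻¹ * (xu * emb h)) * g⁻¹) * g⁻¹ := by group
      _ = _ := by
        rw [(comm_emb h).eq, inv_mul_cancel_left, hg, ← conj_pow, hg, ← pow_mul]
        exact eq_inv_of_mul_eq_one_left (by rw [← pow_succ, xu_pow])
  generalize g * g * (emb h)⁻¹ = δ at h1 h2
  refine ⟨δ, fun c hc => ?_, dp.le, ?_, h2, fun k hk => ?_⟩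
  · obtain ⟨i, k, rfl⟩ := xu_split hc
    exact ⟨i, _, emb_mem k, rfl⟩
  · obtain ⟨i, k, hk⟩ := xu_split (c := δ * δ) (by
      calc δ * δ * xu = δ * (δ * xu * δ⁻¹) * δ⁻¹ * (δ * δ) := by group
        _ = (δ * xu * δ⁻¹)⁻¹ * (δ * δ) := by nth_rewrite 1 [h2]; group
        _ = _ := by rw [h2, inv_inv])
    have h3 : k = 1 := hn_center fun m => emb_inj (by
      have h4 : Commute ((xu : MG) ^ i) (emb m) := (comm_emb m).zpow_left i
      have h5 : Commute (δ * δ) (emb m) := (show Commute δ (emb m) from h1 m).mul_left (h1 m)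
      rw [map_mul, map_mul, show emb k = ((xu : MG) ^ i)⁻¹ * (δ * δ) by rw [hk, inv_mul_cancel_left]]
      exact (h4.inv_left.mul_left h5).eq)
    rw [h3, map_one, mul_one] at hk
    have h4 : (xu : MG) ^ i = ((xu : MG) ^ i)⁻¹ := by
      calc (xu : MG) ^ i = δ * (δ * δ) * δ⁻¹ := by rw [← hk]; group
        _ = _ := by rw [hk, ← conj_zpow, h2, inv_zpow]
    have h5 : ((xu : MG) ^ i) ^ 5 = 1 := by
      rw [← zpow_natCast, ← zpow_mul, mul_comm, zpow_mul, zpow_natCast, xu_pow, one_zpow]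
    have h6 : ((xu : MG) ^ i) ^ 2 = 1 := by
      rw [pow_two]
      exact mul_eq_one_iff_eq_inv.2 h4
    rw [hk, ← pow_one ((xu : MG) ^ i), ← show Nat.gcd 2 5 = 1 from rfl, pow_gcd_eq_one]
    exact ⟨h6, h5⟩
  · obtain ⟨m, rfl⟩ := exists_emb hk
    exact (h1 m).symm

end Cfsg.Agent.Cam.Spor
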