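import Cfsg.Agent.Cam.Spor.BFa
import Cfsg.Agent.Cam.Spor.BDel
import Cfsg.Agent.TAB.M4.Box
import Cfsg.Agent.TAB.M7.Tool
import Cfsg.Agent.SP.Mon.NL.TwoA
import Cfsg.Agent.SigZeroHN.Main
import Cfsg.Agent.H981.M23.HNTwoA
import Cfsg.Agent.HN.FusOne
import Cfsg.Agent.HN.WordEq

/-!
# S3689, S3690: the class `5A` of the Baby Monster, inside the Monster (helper66)
-/

set_option autoImplicit false

namespace Cfsg.Agent.Cam.Spor

open Cfsg Subgroup

section gen
variable {M L : Type} [Group M] [Group L] {t : M} {π : centralizer ({t} : Set M) →* L}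

theorem card_prod {E H : Type} [Group E] [Group H] {x : E} {j : H →* E}
    (hd : ∀ (i : ℤ) (h : H), x ^ i = j h → h = 1) {B : Subgroup H} {A : Subgroup E}
    (hA : ∀ g, g ∈ A ↔ ∃ i : ℤ, ∃ h ∈ B, g = x ^ i * j h) : Nat.card A = orderOf x * Nat.card B := by
  rw [← Nat.card_zpowers, ← Nat.card_prod]
  refine (Nat.card_congr (Equiv.ofBijective (fun p : zpowers x × B => (⟨p.1 * j p.2, ?_⟩ : A)) ⟨?_, ?_⟩)).symm
  · obtain ⟨i, hi⟩ := p.1.2
    exact (hA _).2 ⟨i, p.2, p.2.2, by rw [← hi]⟩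
  · rintro ⟨⟨_, i, rfl⟩, p⟩ ⟨⟨_, k, rfl⟩, q⟩ h
    have h1 : x ^ i * j p = x ^ k * j q := congrArg Subtype.val h
    have h2 : (q : H) * (p : H)⁻¹ = 1 := hd (-k + i) _ (by
      rw [zpow_add, zpow_neg, map_mul, map_inv, inv_mul_eq_iff_eq_mul, ← mul_assoc, ← h1, mul_inv_cancel_right])
    have h3 : p = q := Subtype.ext (mul_inv_eq_one.1 h2).symm
    subst h3
    exact Prod.ext (Subtype.ext (mul_right_cancel h1)) rfl
  · rintro ⟨g, hg⟩
    obtain ⟨i, h, hh, rfl⟩ := (hA g).1 hg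
    exact ⟨⟨⟨_, i, rfl⟩, ⟨h, hh⟩⟩, rfl⟩

theorem Cov.card_pair [Finite M] (c : Cov t π) {a k : centralizer ({t} : Set M)} {n : ℕ} (hn : Odd n)
    (ha : (a : M) ^ n = 1) :
    Nat.card (centralizer ({π a} : Set L) ⊓ centralizer ({π k} : Set L) : Subgroup L) ∣
      Nat.card (centralizer {a} ⊓ centralizer {k} : Subgroup (centralizer ({t} : Set M))) ∧
    ((∃ g : centralizer ({t} : Set M), g * a = a * g ∧ (g : M) * k * (g : M)⁻¹ = k * t) →
      Nat.card (centralizer ({π a} : Set L) ⊓ centralizer ({π k} : Set L) : Subgroup L) =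
      Nat.card (centralizer {a} ⊓ centralizer {k} : Subgroup (centralizer ({t} : Set M)))) := by
  have h1 := c.card_comap (centralizer ({π a} : Set L) ⊓ centralizer ({π k} : Set L))
  have hY : ∀ g, g ∈ (centralizer ({π a} : Set L) ⊓ centralizer ({π k} : Set L)).comap π ↔
      g * a = a * g ∧ ((g : M) * k * (g : M)⁻¹ = k ∨ (g : M) * k * (g : M)⁻¹ = k * t) := fun g => by
    rw [mem_comap, mem_inf, mem_centralizer_singleton_iff, mem_centralizer_singleton_iff]
    refine and_congr ⟨fun h => Subtype.ext (c.comm hn ha h), fun h => by rw [← map_mul, ← map_mul, h]⟩ ?_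
    rw [← mul_inv_eq_iff_eq_mul, ← map_inv, ← map_mul, ← map_mul, c.eq_iff]
    rfl
  have hA : ∀ g, g ∈ (centralizer {a} ⊓ centralizer {k} : Subgroup (centralizer ({t} : Set M))) ↔
      g * a = a * g ∧ (g : M) * k * (g : M)⁻¹ = k := fun g => by
    rw [mem_inf, mem_centralizer_singleton_iff, mem_centralizer_singleton_iff, mul_inv_eq_iff_eq_mul]
    exact and_congr Iff.rfl Subtype.ext_iff
  generalize (centralizer ({π a} : Set L) ⊓ centralizer ({π k} : Set L)).comap π = Y at h1 hY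
  generalize (centralizer {a} ⊓ centralizer {k} : Subgroup (centralizer ({t} : Set M))) = A at hA
  have hle : A ≤ Y := fun g hg => (hY g).2 ⟨((hA g).1 hg).1, Or.inl ((hA g).1 hg).2⟩
  have h2 := (A.subgroupOf Y).card_mul_index
  rw [Nat.card_congr (subgroupOfEquivOfLe hle).toEquiv, h1] at h2
  have h3 : (A.subgroupOf Y).index ∣ 2 := by
    rw [index_dvd_two_iff]
    by_cases h : ∃ g : Y, (g : centralizer ({t} : Set M)) ∉ A
    · obtain ⟨g, hg⟩ := h
      refine ⟨g, fun b => or_iff_not_imp_right.2 fun hb => (hA _).2 ⟨((hY _).1 (b * g).2).1, ?_⟩⟩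
      have h4 := ((hY _).1 g.2).2.resolve_left fun h => hg ((hA _).2 ⟨((hY _).1 g.2).1, h⟩)
      have h5 := ((hY _).1 b.2).2.resolve_left fun h => hb ((hA _).2 ⟨((hY _).1 b.2).1, h⟩)
      change ((b : centralizer ({t} : Set M)) : M) * (g : centralizer ({t} : Set M)) * k *
        (((b : centralizer ({t} : Set M)) : M) * (g : centralizer ({t} : Set M)))⁻¹ = k
      generalize (b : centralizer ({t} : Set M)) = b' at h5
      generalize (g : centralizer ({t} : Set M)) = g' at h4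
      calc (b' : M) * g' * k * ((b' : M) * g')⁻¹ = b' * (g' * k * (g' : M)⁻¹) * (b' : M)⁻¹ := by group
        _ = b' * k * (b' : M)⁻¹ * (b' * t) * (b' : M)⁻¹ := by rw [h4]; group
        _ = k * (t * t) := by rw [h5, comm_t b']; group
        _ = k := by rw [c.tt, mul_one]
    · exact ⟨1, fun b => Or.inr (by_contra fun hb => h ⟨b, hb⟩)⟩
  rcases (Nat.dvd_prime Nat.prime_two).1 h3 with h4 | h4
  · refine ⟨⟨2, by rw [h4] at h2; omega⟩, ?_⟩
    rintro ⟨g, hg, hg'⟩
    have h5 := ((hA g).1 (subgroupOf_eq_top.1 (index_eq_one.1 h4) ((hY g).2 ⟨hg, Or.inr hg'⟩))).2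
    exact absurd (mul_eq_left.1 (hg'.symm.trans h5)) c.t_ne
  · rw [h4] at h2
    exact ⟨⟨1, by omega⟩, fun _ => by omega⟩

end gen

open Cfsg.Agent.BpSpor.MBigModel Cfsg.Agent.TAB.M5
open Cfsg.Agent.H136.M23.BWords (xu)
open Cfsg.Agent.LThreeB.Row (TA)
open Cfsg.Agent.HN.Pres Cfsg.Agent.HN.H0Basic Cfsg.Agent.HN.Syl
open Cfsg.Agent.HN.NormalH (ψ)

/-- a `2A`-involution commuting with `xu` comes from the class `2A` of `HN` -/
theorem ta_emb {t : MG} (ht : TA t) (h : (xu : MG) * t = t * xu) : ∃ g : Spor.HN, emb g * t * (emb g)⁻¹ = emb (ψ τ) := by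
  have ho := SP.Mon.NL.ta_order ht
  obtain ⟨m, rfl⟩ := mem_emb h (by rw [ho]; norm_num)
  rw [orderOf_emb] at ho
  have hs := ne_sing (h := m) (by rw [ho]; norm_num)
  have h1 := TAB.M7.ch_pow_prime ((xu : MG) * emb m) Nat.prime_five
  have h2 : ((xu : MG) * emb m) ^ 5 = emb m := by
    rw [(comm_emb m).mul_pow, xu_pow, one_mul, ← map_pow, show 5 = 2 * 2 + 1 from rfl, pow_succ, pow_mul, ← ho,
      pow_orderOf_eq_one, one_pow, one_mul]
  rw [h2, TAB.M7.ch_of_chr (a := (H651.HNF.tyH m).b + 1) (by rw [chr_emb hs]; push_cast; rfl),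
    TAB.M7.ch_of_chr (a := 4372) (by rw [TAB.M4.chr_ta ht]; norm_num)] at h1
  have h3 := H651.HNF.table.ord m hs
  have h4 := H651.HNF.table.cent m hs
  rcases SigZeroHN.card_centralizer_cases ho with ⟨h5, -⟩ | ⟨-, h5⟩
  · obtain ⟨g, hg⟩ := isConj_iff.1 h5
    exact ⟨g, by rw [← map_inv, ← map_mul, ← map_mul, hg]⟩
  · exfalso
    rw [h5] at h4
    revert h1 h4
    generalize H651.HNF.tyH m = y
    revert y
    decide +kernel

theorem comm_t0 (h : H0) : emb (ψ h) * emb (ψ τ) = emb (ψ τ) * emb (ψ h) := by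
  rw [← map_mul, ← map_mul, τ_comm, map_mul, map_mul]

/-- `2.HS.2` inside `C(t)` -/
noncomputable def jE : H0 →* centralizer ({emb (ψ τ)} : Set MG) :=
  (emb.comp ψ).codRestrict _ fun h => mem_centralizer_singleton_iff.2 (comm_t0 h)

theorem jE_coe (h : H0) : (jE h : MG) = emb (ψ h) := rfl

theorem jE_inj : Function.Injective jE := fun _ _ h =>
  KFacts.HN.emb.inj (emb_inj (congrArg (fun z : centralizer ({emb (ψ τ)} : Set MG) => (z : MG)) h))

/-- the element `xu` of `C(t)` -/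
noncomputable def xE : centralizer ({emb (ψ τ)} : Set MG) := ⟨xu, mem_centralizer_singleton_iff.2 (comm_emb _)⟩

theorem xE_comm (h : H0) : jE h * xE = xE * jE h := Subtype.ext (comm_emb _).symm

theorem xE_split {g : centralizer ({emb (ψ τ)} : Set MG)} (hg : g * xE = xE * g) :
    ∃ (i : ℤ) (h : H0), g = xE ^ i * jE h := by
  obtain ⟨i, m, hm⟩ := xu_split (c := g) (congrArg Subtype.val hg)
  obtain ⟨h, rfl⟩ := KFacts.HN.emb.cent m (emb_inj (by
    have h1 : Commute ((xu : MG) ^ i) (emb (ψ τ)) := (comm_emb _).zpow_left i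
    rw [map_mul, map_mul, show emb m = ((xu : MG) ^ i)⁻¹ * g by rw [hm, inv_mul_cancel_left]]
    exact (h1.inv_left.mul_left (comm_t g)).eq))
  exact ⟨i, h, Subtype.ext hm⟩

theorem card_xE (k : H0) : Nat.card (centralizer {xE} ⊓ centralizer {jE k} : Subgroup (centralizer ({emb (ψ τ)} : Set MG))) =
    5 * Nat.card (centralizer ({k} : Set H0)) := by
  rw [← orderOf_xu', ← show orderOf xE = orderOf (xu : MG) from (Subgroup.orderOf_coe xE).symm]
  refine card_prod (j := jE) (fun i h e => KFacts.HN.emb.inj ((xu_disj (congrArg Subtype.val e)).trans (map_one ψ).symm))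
    fun g => ?_
  rw [mem_inf, mem_centralizer_singleton_iff, mem_centralizer_singleton_iff]
  have h1 : ∀ (i : ℤ) (h : H0), Commute (xE ^ i) (jE h) := fun i h => (show Commute xE (jE h) from (xE_comm h).symm).zpow_left i
  constructor
  · rintro ⟨hg, hk⟩
    obtain ⟨i, h, rfl⟩ := xE_split hg
    refine ⟨i, h, mem_centralizer_singleton_iff.2 (jE_inj ?_), rfl⟩
    rw [mul_assoc, ← mul_assoc (jE k), ← (h1 i k).eq, mul_assoc] at hk
    rw [map_mul, map_mul, mul_left_cancel hk]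
  · rintro ⟨i, h, hh, rfl⟩
    refine ⟨(((Commute.refl xE).zpow_left i).mul_left (xE_comm h)).eq, ((h1 i k).mul_left ?_).eq⟩
    change jE h * jE k = jE k * jE h
    rw [← map_mul, ← map_mul, mem_centralizer_singleton_iff.1 hh]

theorem ta_jE (ht : TA (emb (ψ τ))) {k : H0} (h : IsConj gz k) : TA (emb (ψ k)) :=
  (show IsConj _ _ from ht).trans (emb.map_isConj (HN.InvHN.isConj_z.symm.trans (ψ.map_isConj h)))

variable {L : Type} [Group L] {π : centralizer ({emb (ψ τ)} : Set MG) →* L}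

/-- **the class `5A` of `B`** -/
theorem f5A (ht : TA (emb (ψ τ))) (c : Cov (emb (ψ τ)) π) : ∃ (s : L) (K : Subgroup L), F5A (π xE) s K := by
  have := finite
  obtain ⟨δ, d⟩ := exists_delta
  have h5 : Odd 5 := by decide
  have hx5 : (xE : MG) ^ 5 = 1 := xu_pow
  let s : centralizer ({emb (ψ τ)} : Set MG) := ⟨δ, mem_centralizer_singleton_iff.2 (d.cent _ (emb_mem _)).symm⟩
  refine ⟨π s, (π.comp jE).range, ⟨fun g hg => ?_, ?_, ?_, ?_, ?_⟩, ?_, ?_⟩
  · obtain ⟨g, rfl⟩ := c.surj g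
    obtain ⟨i, h, rfl⟩ := xE_split (Subtype.ext (c.comm h5 hx5 hg))
    exact ⟨i, _, ⟨h, rfl⟩, by rw [map_mul, map_zpow]; rfl⟩
  · rintro _ ⟨h, rfl⟩
    rw [mem_centralizer_singleton_iff, MonoidHom.comp_apply, ← map_mul, ← map_mul, xE_comm]
  · rw [← map_mul, show s * s = 1 from Subtype.ext d.sq, map_one]
  · rw [← map_inv, ← map_mul, ← map_mul, ← map_inv]
    exact congrArg π (Subtype.ext d.inv)
  · rintro _ ⟨h, rfl⟩
    rw [MonoidHom.comp_apply, ← map_mul, ← map_mul]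
    exact congrArg π (Subtype.ext (d.cent _ (emb_mem _)))
  · have h1 := c.card_comap (centralizer ({π xE} : Set L))
    have h2 := card_xE 1
    have h3 : (centralizer ({π xE} : Set L)).comap π = centralizer {xE} ⊓ centralizer {jE 1} := by
      ext g
      rw [mem_comap, mem_inf, mem_centralizer_singleton_iff, mem_centralizer_singleton_iff,
        mem_centralizer_singleton_iff, map_one, mul_one, one_mul, and_iff_left rfl]
      exact ⟨fun h => Subtype.ext (c.comm h5 hx5 h), fun h => by rw [← map_mul, ← map_mul, h]⟩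
    have h4 : centralizer ({1} : Set H0) = ⊤ :=
      eq_top_iff.2 fun g _ => mem_centralizer_singleton_iff.2 (by rw [mul_one, one_mul])
    rw [h4, card_top, HN.WordEq.card_H0] at h2
    rw [h3, h2] at h1
    omega
  rintro _ ⟨k, rfl⟩ hk
  rw [MonoidHom.comp_apply] at hk ⊢
  obtain ⟨h1, h2⟩ := c.card_pair (a := xE) (k := jE k) h5 hx5
  rw [card_xE] at h1 h2
  have h3 : k ^ 2 = 1 ∨ k ^ 2 = τ := by
    have h4 := (c.ker (jE (k ^ 2))).1 (by rw [map_pow, map_pow, ← hk, pow_orderOf_eq_one])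
    exact h4.imp (fun h => jE_inj ((Subtype.ext h).trans (map_one jE).symm)) fun h => jE_inj (Subtype.ext h)
  have hne : π (jE k) ≠ 1 := fun h => by
    rw [h, orderOf_one] at hk
    omega
  have h9 : ∀ {m : H0} {n : ℕ}, IsConj m k → Nat.card (centralizer ({m} : Set H0)) = n → ¬ 9 ∣ 5 * n →
      ¬ 9 ∣ Nat.card (centralizer ({π xE} : Set L) ⊓ centralizer ({π (jE k)} : Set L) : Subgroup L) :=
    fun h4 h5 h6 h7 => h6 (by rw [← h5, ← card_cent_conj h4]; exact h7.trans h1)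
  rcases sq_cases h3 with h | h | h | h | h | h | h
  · exact absurd (by rw [h, map_one, map_one]) hne
  · exact absurd ((c.ker _).2 (Or.inr (by rw [h]; rfl))) hne
  · exact Or.inl (h9 h HN.CentUp.card_centralizer_a (by norm_num))
  · exact Or.inl (h9 h HN.CentUp.card_centralizer_aτ (by norm_num))
  · have h4 : k ^ 2 = τ := by
      obtain ⟨g, rfl⟩ := isConj_iff.1 h
      rw [conj_pow, show gx ^ 2 = τ from rfl, τ_comm, mul_inv_cancel_right]
    have h6 : (k * τ) ^ 2 = τ := by rw [(show Commute k τ from τ_comm k).mul_pow, h4, τ_sq, mul_one]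
    obtain ⟨g, hg⟩ := isConj_iff.1 (h.symm.trans (isConj_of_sq_eq_τ h6))
    refine Or.inr (Or.inl ?_)
    rw [h2 ⟨jE g, xE_comm g, ?_⟩, H981.M23.HNTwoA.card_of_sq h4]
    rw [jE_coe, jE_coe, ← map_inv, ← map_inv, ← map_mul, ← map_mul, ← map_mul, ← map_mul, ← map_mul, ← map_mul, hg]
  · refine Or.inr (Or.inr fun w hw hkw => by_contra fun hw1 => ?_)
    have : Fact (Nat.Prime 5) := ⟨Nat.prime_five⟩
    obtain ⟨y, hy, rfl⟩ := c.lift Nat.prime_five h5 (orderOf_eq_prime hw hw1)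
    have hy5 : (y : MG) ^ 5 = 1 := by rw [← hy, pow_orderOf_eq_one]
    have h4 : emb (ψ k) * y * (emb (ψ k))⁻¹ = (y : MG)⁻¹ := c.eq_of_odd (a := jE k * y * (jE k)⁻¹) (b := y⁻¹) h5
      (by rw [Subgroup.coe_mul, Subgroup.coe_mul, Subgroup.coe_inv, conj_pow, hy5, mul_one, mul_inv_cancel])
      (by rw [Subgroup.coe_inv, inv_pow, hy5, inv_one]) (by rw [map_mul, map_mul, map_inv, map_inv, hkw])
    have h6 : IsConj gz (k * τ) := by
      obtain ⟨g, rfl⟩ := isConj_iff.1 h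
      refine HN.FusOne.isConj_z_zτ.trans (isConj_iff.2 ⟨g, ?_⟩)
      rw [mul_assoc (g * gz) g⁻¹, τ_comm g⁻¹]
      group
    have h7 := SP.Mon.NL.ta_mul_order (ta_jE ht h) (SP.Mon.NL.ta_conj (ta_jE ht h6) y)
    have hkk : emb (ψ k) * emb (ψ k) = 1 := by
      rw [← pow_two, ← SP.Mon.NL.ta_order (ta_jE ht h), pow_orderOf_eq_one]
    have h8 : emb (ψ k) * (y * emb (ψ (k * τ)) * (y : MG)⁻¹) = ((y : MG) ^ 2)⁻¹ * emb (ψ τ) := by
      rw [map_mul, map_mul]
      calc emb (ψ k) * (y * (emb (ψ k) * emb (ψ τ)) * (y : MG)⁻¹) = emb (ψ k) * y * (emb (ψ k))⁻¹ *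
          (emb (ψ k) * emb (ψ k)) * (y : MG)⁻¹ * (y * emb (ψ τ)) * (y : MG)⁻¹ := by group
        _ = _ := by rw [h4, hkk, comm_t y]; group
    have h10 : orderOf ((y : MG) ^ 2)⁻¹ = 5 := by
      rw [orderOf_inv, Nat.Coprime.orderOf_pow (by rw [hy]; norm_num), hy]
    rw [h8, (((show Commute (y : MG) _ from comm_t y).pow_left 2).inv_left).orderOf_mul_eq_mul_orderOf_of_coprime
      (by rw [h10, c.ord]; norm_num), h10, c.ord] at h7
    norm_num at h7
  · exact Or.inl (h9 h HN.FactF3.card_centralizer_d (by norm_num))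

end Cfsg.Agent.Cam.Spor
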