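import Cfsg.Agent.Cam.Spor.BCov

/-!
# S3689, S3690: the class `5B` of the Baby Monster, the local argument (helper66)
-/

set_option autoImplicit false

namespace Cfsg.Agent.Cam.Spor

open Cfsg Subgroup Cfsg.Agent.TwoFusion.PerfCore

section five
variable {G : Type} [Group G]

theorem five_mul_le [Finite G] {H K : Subgroup G} (hK : IsPGroup 5 K) (h : H < K) : 5 * Nat.card H ≤ Nat.card K := by
  have : Fact (Nat.Prime 5) := ⟨Nat.prime_five⟩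
  obtain ⟨m, hm⟩ := IsPGroup.iff_card.1 (hK.to_le h.le)
  obtain ⟨n, hn⟩ := IsPGroup.iff_card.1 hK
  have h1 : m < n := by
    by_contra h2
    exact h.ne (eq_of_le_of_card_ge h.le (by rw [hm, hn]; exact Nat.pow_le_pow_right (by norm_num) (by omega)))
  rw [hm, hn, ← pow_succ']
  exact Nat.pow_le_pow_right (by norm_num) h1

theorem eq_one_of_inv {A : Subgroup G} (hA : IsPGroup 5 A) {w : G} (hw : w ∈ A) (h : w⁻¹ = w) : w = 1 := by
  obtain ⟨k, hk⟩ := hA ⟨w, hw⟩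
  rw [← pow_one w, ← (show Nat.Coprime 2 (5 ^ k) from Nat.Coprime.pow_right _ (by norm_num)), pow_gcd_eq_one]
  exact ⟨by rw [pow_two]; nth_rewrite 1 [← h]; exact inv_mul_cancel w, congrArg Subtype.val hk⟩

/-- an abelian `5`-group with a faithful action of `A₄` and a fixed point -/
theorem card_ge_of_four [Finite G] {A : Subgroup G} (hA : IsPGroup 5 A) (hc : ∀ p ∈ A, ∀ q ∈ A, p * q = q * p)
    {a b r x : G} (ha : ∀ w ∈ A, a * w * a⁻¹ ∈ A) (hb : ∀ w ∈ A, b * w * b⁻¹ ∈ A) (hr : ∀ w ∈ A, r * w * r⁻¹ ∈ A)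
    (haa : a * a = 1) (hbb : b * b = 1) (hab : a * b = b * a) (ra : r * a * r⁻¹ = b) (rb : r * b * r⁻¹ = a * b)
    (hx : x ∈ A) (hx1 : x ≠ 1) (hxa : x * a = a * x) (hxb : x * b = b * x) {w : G} (hw : w ∈ A)
    (hne : a * w * a⁻¹ ≠ w) : 5 ^ 4 ≤ Nat.card A := by
  have rab : r * (a * b) * r⁻¹ = a := by
    calc r * (a * b) * r⁻¹ = (r * a * r⁻¹) * (r * b * r⁻¹) := by group
      _ = a := by rw [ra, rb, ← mul_assoc, ← hab, mul_assoc, hbb, mul_one]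
  have h1 : ∀ y, a * (r * y * r⁻¹) * a⁻¹ = r * (a * (b * y * b⁻¹) * a⁻¹) * r⁻¹ := fun y => by
    nth_rewrite 1 2 [← rab]
    group
  have h2 : ∀ y, b * (r * y * r⁻¹) * b⁻¹ = r * (a * y * a⁻¹) * r⁻¹ := fun y => by
    rw [← ra]
    group
  have h3 : ∀ {g y : G}, g * g = 1 → y ∈ A → g * y * g⁻¹ ∈ A →
      g * (g * y * g⁻¹ * y⁻¹) * g⁻¹ = (g * y * g⁻¹ * y⁻¹)⁻¹ := fun {g y} hg _ _ => by
    calc g * (g * y * g⁻¹ * y⁻¹) * g⁻¹ = g * g * y * (g * g)⁻¹ * (g * y * g⁻¹)⁻¹ := by group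
      _ = _ := by rw [hg]; group
  have h4 : ∀ {g y : G}, g * y * g⁻¹ = y⁻¹ → g * y⁻¹ * g⁻¹ = y := fun {g y} h => by
    rw [← conj_inv, h, inv_inv]
  have hr1 : ∀ {y : G}, y ≠ 1 → r * y * r⁻¹ ≠ 1 := fun h h' => h (conj_eq_one_iff.1 h')
  have e12 : (∃ y ∈ A, y ≠ 1 ∧ a * y * a⁻¹ = y⁻¹ ∧ b * y * b⁻¹ = y) →
      ∃ y ∈ A, y ≠ 1 ∧ a * y * a⁻¹ = y⁻¹ ∧ b * y * b⁻¹ = y⁻¹ := by
    rintro ⟨y, hy, hy1, e1, e2⟩
    exact ⟨_, hr y hy, hr1 hy1, by rw [h1, e2, e1, conj_inv], by rw [h2, e1, conj_inv]⟩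
  have e23 : (∃ y ∈ A, y ≠ 1 ∧ a * y * a⁻¹ = y⁻¹ ∧ b * y * b⁻¹ = y⁻¹) →
      ∃ y ∈ A, y ≠ 1 ∧ a * y * a⁻¹ = y ∧ b * y * b⁻¹ = y⁻¹ := by
    rintro ⟨y, hy, hy1, e1, e2⟩
    exact ⟨_, hr y hy, hr1 hy1, by rw [h1, e2, h4 e1], by rw [h2, e1, conj_inv]⟩
  have e31 : (∃ y ∈ A, y ≠ 1 ∧ a * y * a⁻¹ = y ∧ b * y * b⁻¹ = y⁻¹) →
      ∃ y ∈ A, y ≠ 1 ∧ a * y * a⁻¹ = y⁻¹ ∧ b * y * b⁻¹ = y := by
    rintro ⟨y, hy, hy1, e1, e2⟩
    exact ⟨_, hr y hy, hr1 hy1, by rw [h1, e2, conj_inv, ← conj_inv (b := a), e1], by rw [h2, e1]⟩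
  have e2 : ∃ y ∈ A, y ≠ 1 ∧ a * y * a⁻¹ = y⁻¹ ∧ b * y * b⁻¹ = y⁻¹ := by
    have hy := mul_mem (ha w hw) (inv_mem hw)
    have hy1 : a * w * a⁻¹ * w⁻¹ ≠ 1 := fun h => hne (mul_inv_eq_one.1 h)
    have hya := h3 haa hw (ha w hw)
    generalize a * w * a⁻¹ * w⁻¹ = y at hy hy1 hya
    by_cases h : b * y * b⁻¹ = y
    · exact e12 ⟨y, hy, hy1, hya, h⟩
    refine ⟨_, mul_mem (hb y hy) (inv_mem hy), fun h' => h (mul_inv_eq_one.1 h'), ?_, h3 hbb hy (hb y hy)⟩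
    calc a * (b * y * b⁻¹ * y⁻¹) * a⁻¹ = a * b * y * (a * b)⁻¹ * (a * y⁻¹ * a⁻¹) := by group
      _ = b * (a * y * a⁻¹) * b⁻¹ * y := by rw [hab, h4 hya]; group
      _ = (b * y * b⁻¹)⁻¹ * y := by rw [hya, conj_inv]
      _ = _ := by rw [hc _ (inv_mem (hb y hy)) _ hy, mul_inv_rev (b * y * b⁻¹), inv_inv]
  obtain ⟨w1, m1, n1, a1, b1⟩ := e31 (e23 e2)
  obtain ⟨w3, m3, n3, a3, b3⟩ := e23 e2
  obtain ⟨w2, m2, n2, a2, b2⟩ := e2
  let ψ : A →* G :=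
    { toFun := fun y => a * y * a⁻¹ * (y : G)⁻¹
      map_one' := by simp
      map_mul' := fun p q => by
        have h5 := hc _ (inv_mem p.2) _ (mul_mem (ha q q.2) (inv_mem q.2))
        calc a * ((p : G) * q) * a⁻¹ * ((p : G) * q)⁻¹ =
            a * p * a⁻¹ * (a * q * a⁻¹ * (q : G)⁻¹ * (p : G)⁻¹) := by group
          _ = _ := by rw [← h5]; group }
  have hψ : ∀ y : A, ψ y = a * y * a⁻¹ * (y : G)⁻¹ := fun y => rfl
  have l1 : (⊥ : Subgroup A) < (centralizer ({a} : Set G) ⊓ centralizer ({b} : Set G)).subgroupOf A :=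
    SetLike.lt_iff_le_and_exists.2 ⟨bot_le, ⟨x, hx⟩, mem_subgroupOf.2 (mem_inf.2 ⟨mem_centralizer_singleton_iff.2 hxa,
      mem_centralizer_singleton_iff.2 hxb⟩), fun h => hx1 (congrArg Subtype.val (mem_bot.1 h))⟩
  have l2 : (centralizer ({a} : Set G) ⊓ centralizer ({b} : Set G)).subgroupOf A <
      (centralizer ({a} : Set G)).subgroupOf A :=
    SetLike.lt_iff_le_and_exists.2 ⟨fun y hy => hy.1, ⟨w3, m3⟩,
      mem_centralizer_singleton_iff.2 (mul_inv_eq_iff_eq_mul.1 a3).symm, fun h => n3 (eq_one_of_inv hA m3 (by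
        have h5 : w3 * b = b * w3 := mem_centralizer_singleton_iff.1 h.2
        rw [← b3, ← h5, mul_inv_cancel_right]))⟩
  have l3 : (centralizer ({a} : Set G)).subgroupOf A < (centralizer ({b} : Set G)).comap ψ :=
    SetLike.lt_iff_le_and_exists.2 ⟨fun y hy => by
      have h5 : (y : G) * a = a * y := mem_centralizer_singleton_iff.1 hy
      rw [mem_comap, hψ, ← h5, mul_inv_cancel_right, mul_inv_cancel]
      exact one_mem _, ⟨w1, m1⟩, by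
      have h5 : w1 ∈ centralizer ({b} : Set G) := mem_centralizer_singleton_iff.2 (mul_inv_eq_iff_eq_mul.1 b1).symm
      rw [mem_comap, hψ, a1]
      exact mul_mem (inv_mem h5) (inv_mem h5), fun h => n1 (eq_one_of_inv hA m1 (by
        have h5 : w1 * a = a * w1 := mem_centralizer_singleton_iff.1 h
        rw [← a1, ← h5, mul_inv_cancel_right]))⟩
  have l4 : (centralizer ({b} : Set G)).comap ψ < ⊤ :=
    SetLike.lt_iff_le_and_exists.2 ⟨le_top, ⟨w2, m2⟩, mem_top _, fun h => by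
      rw [mem_comap, hψ, a2, mem_centralizer_singleton_iff] at h
      have h5 : w2 * w2 = 1 := eq_one_of_inv hA (mul_mem m2 m2) (by
        calc (w2 * w2)⁻¹ = b * (w2⁻¹ * w2⁻¹) * b⁻¹ := by rw [← h]; group
          _ = b * w2⁻¹ * b⁻¹ * (b * w2⁻¹ * b⁻¹) := by group
          _ = _ := by rw [h4 b2])
      exact n2 (eq_one_of_inv hA m2 (inv_eq_of_mul_eq_one_left h5))⟩
  have c1 := five_mul_le (hA.to_subgroup _) l1
  have c2 := five_mul_le (hA.to_subgroup _) l2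
  have c3 := five_mul_le (hA.to_subgroup _) l3
  have c4 := five_mul_le (hA.to_subgroup _) l4
  rw [card_bot] at c1
  rw [card_top] at c4
  omega

/-- large abelian subgroups of a group of extraspecial type -/
theorem false_of_abelian [Finite G] {A Q : Subgroup G} {x : G} (hx : orderOf x = 5) (hQ : IsPGroup 5 Q) (hAQ : A ≤ Q)
    (hc : ∀ p ∈ A, ∀ q ∈ A, p * q = q * p) (hxQ : ∀ q ∈ Q, q * x = x * q)
    (hcm : ∀ p ∈ Q, ∀ q ∈ Q, p * q * p⁻¹ * q⁻¹ ∈ zpowers x) (hz : ∀ w ∈ Q, (∀ q ∈ Q, q * w = w * q) → w ∈ zpowers x)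
    (hA : 5 ^ 4 ≤ Nat.card A) (h5 : Nat.card Q ≤ 5 ^ 5) : False := by
  obtain ⟨q, hq, h⟩ : ∃ q ∈ Q, ∀ w ∈ A, q * w = w * q → w ∈ zpowers x := by
    by_cases h : Q ≤ A
    · exact ⟨1, one_mem _, fun w hw _ => hz w (hAQ hw) fun q hq => hc q (h hq) w hw⟩
    obtain ⟨q, hq, hqA⟩ := SetLike.not_le_iff_exists.1 h
    refine ⟨q, hq, fun w hw hqw => hz w (hAQ hw) fun p hp => ?_⟩
    have h1 : A < Q ⊓ centralizer ({w} : Set G) := SetLike.lt_iff_le_and_exists.2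
      ⟨fun y hy => ⟨hAQ hy, mem_centralizer_singleton_iff.2 (hc y hy w hw)⟩, q,
        mem_inf.2 ⟨hq, mem_centralizer_singleton_iff.2 hqw⟩, hqA⟩
    have h2 := five_mul_le (hQ.to_le inf_le_left) h1
    have h3 : Q ⊓ centralizer ({w} : Set G) = Q := eq_of_le_of_card_ge inf_le_left (by omega)
    exact mem_centralizer_singleton_iff.1 (h3.ge hp).2
  let χ : A →* zpowers x :=
    { toFun := fun y => ⟨q * y * q⁻¹ * (y : G)⁻¹, hcm q hq y (hAQ y.2)⟩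
      map_one' := Subtype.ext (by simp)
      map_mul' := fun a b => Subtype.ext (by
        have h1 := zpowers_comm _ (hcm q hq b (hAQ b.2)) _
          (mem_centralizer_singleton_iff.2 (hxQ _ (inv_mem (hAQ a.2))))
        change q * ((a : G) * b) * q⁻¹ * ((a : G) * b)⁻¹ = q * a * q⁻¹ * (a : G)⁻¹ * (q * b * q⁻¹ * (b : G)⁻¹)
        calc q * ((a : G) * b) * q⁻¹ * ((a : G) * b)⁻¹ = q * a * q⁻¹ * (q * b * q⁻¹ * (b : G)⁻¹ * (a : G)⁻¹) := by group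
          _ = _ := by rw [← h1]; group) }
  have h1 := χ.ker.card_mul_index
  have h2 : χ.ker.index ≤ 5 := by
    rw [index_ker, ← hx, ← Nat.card_zpowers]
    exact card_le_card_group _
  have h3 : Nat.card χ.ker ≤ 5 := by
    rw [← hx, ← Nat.card_zpowers]
    refine Nat.card_le_card_of_injective (fun y => (⟨((y : A) : G), h _ (y : A).2 ?_⟩ : zpowers x))
      fun a b e => Subtype.ext (Subtype.ext (congrArg (fun z : zpowers x => (z : G)) e))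
    have h4 : q * (y : A) * q⁻¹ * ((y : A) : G)⁻¹ = 1 := congrArg Subtype.val (show χ y = 1 from y.2)
    exact mul_inv_eq_iff_eq_mul.1 (mul_inv_eq_one.1 h4)
  have h4 := Nat.mul_le_mul h3 h2
  omega

end five

variable {L U : Type} [Group L] [Group U] {τ α β : U →* L} {R R' : Subgroup L}

/-- the situation of an element of the class `5B` of `B` -/
structure Rad5 (x : L) (Q0 Q : Subgroup L) : Prop where
  n0 : (Q0.subgroupOf (centralizer ({x} : Set L))).Normal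
  s0 : Group.IsSolvable Q0
  idx : Q0.relIndex (centralizer ({x} : Set L)) ∣ 1920
  mem : ∀ y ∈ Q0, y ^ 5 = 1 → y ∈ Q
  pg : IsPGroup 5 Q
  xm : x ∈ Q
  le : ∀ q ∈ Q, q * x = x * q
  nrm : ∀ g, g * x = x * g → ∀ q ∈ Q, g * q * g⁻¹ ∈ Q
  comm : ∀ a ∈ Q, ∀ b ∈ Q, a * b * a⁻¹ * b⁻¹ ∈ zpowers x
  cen : ∀ w ∈ Q, (∀ q ∈ Q, q * w = w * q) → w ∈ zpowers x

theorem Core.dvd_of_rad5 (c : Core τ α β R R') {u : U} {Q0 Q : Subgroup L} (F : Rad5 (τ u) Q0 Q) :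
    Nat.card U ∣ 1920 := by
  obtain ⟨φ, hφ, hφR⟩ := c.pair.copy
  exact (card_dvd_relIndex c.simple c.noncomm F.n0 F.s0 hφ fun w => c.pair.le_cent u (hφR w)).trans F.idx

/-- **the class `5B`** -/
theorem Core.false_5B [Finite L] [Finite U] (big : Big) (c : Core τ α β R R') (hL : ¬ 5 ^ 7 ∣ Nat.card L)
    {u v a b r : U} (d : A5Dat u v a b r) {Q0 Q : Subgroup L} (F : Rad5 (τ u) Q0 Q) : False := by
  have : Fact (Nat.Prime 5) := ⟨Nat.prime_five⟩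
  have hu1 : u ≠ 1 := fun h => by
    have := d.hu
    rw [h, orderOf_one] at this
    omega
  have hu5 : u ^ 5 = 1 := by rw [← d.hu, pow_orderOf_eq_one]
  have hx : orderOf (τ u) = 5 := (c.pair.orderOf_eq u).trans d.hu
  obtain ⟨φ, hφ, hφR⟩ := c.pair.copy
  obtain ⟨hy0, M, hM, hcov⟩ := c.alpha_mem big Nat.prime_five d.hu (d.hvu ▸ inv_mem (mem_zpowers u))
    (not_comm_of_inv d.hu d.hvu) F.n0 F.s0 (l := [(2, 7), (3, 1), (5, 1)]) (N := 1920) (by decide +kernel) F.idx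
    (m := 60) (by decide +kernel) (by decide +kernel) (by norm_num) hφ hφR
  have hy := F.mem _ hy0 (by rw [← map_pow, hu5, map_one])
  have hsx : τ v * τ u * (τ v)⁻¹ = (τ u)⁻¹ := by rw [← map_inv, ← map_inv, ← map_mul, ← map_mul, d.hvu]
  have hc : ∀ p ∈ Q, τ v * p * (τ v)⁻¹ = p⁻¹ → ∀ q ∈ Q, τ v * q * (τ v)⁻¹ = q⁻¹ → p * q = q * p := by
    intro p hp hp' q hq hq'
    have h1 := F.comm p hp q hq
    have h2 := zpowers_comm _ h1 _ (mem_centralizer_singleton_iff.2 (F.le _ (mul_mem hq hp)))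
    have h3 : τ v * (p * q * p⁻¹ * q⁻¹) * (τ v)⁻¹ = (p * q * p⁻¹ * q⁻¹)⁻¹ := by
      obtain ⟨i, hi⟩ := h1
      rw [← show τ u ^ i = _ from hi, ← conj_zpow, hsx, inv_zpow]
    have h4 : p * q * p⁻¹ * q⁻¹ = 1 := eq_one_of_inv F.pg (zpowers_le.2 F.xm h1) (by
      calc (p * q * p⁻¹ * q⁻¹)⁻¹ = τ v * p * (τ v)⁻¹ * (τ v * q * (τ v)⁻¹) * (τ v * p * (τ v)⁻¹)⁻¹ *
          (τ v * q * (τ v)⁻¹)⁻¹ := by rw [← h3]; group
        _ = (q * p)⁻¹ * (p * q * p⁻¹ * q⁻¹ * (q * p)) := by rw [hp', hq']; group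
        _ = _ := by rw [← h2, inv_mul_cancel_left])
    calc p * q = p * q * p⁻¹ * q⁻¹ * (q * p) := by group
      _ = _ := by rw [h4, one_mul]
  let A : Subgroup L :=
    { carrier := {q | q ∈ Q ∧ τ v * q * (τ v)⁻¹ = q⁻¹}
      one_mem' := ⟨one_mem _, by simp⟩
      mul_mem' := fun {p q} hp hq => ⟨mul_mem hp.1 hq.1, by
        calc τ v * (p * q) * (τ v)⁻¹ = τ v * p * (τ v)⁻¹ * (τ v * q * (τ v)⁻¹) := by group
          _ = _ := by rw [hp.2, hq.2, hc p hp.1 hp.2 q hq.1 hq.2, mul_inv_rev]⟩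
      inv_mem' := fun {p} hp => ⟨inv_mem hp.1, by rw [← conj_inv, hp.2]⟩ }
  have hAQ : A ≤ Q := fun q hq => hq.1
  have hAc : ∀ p ∈ A, ∀ q ∈ A, p * q = q * p := fun p hp q hq => hc p hp.1 hp.2 q hq.1 hq.2
  have hRA : ∀ ρ ∈ R, ∀ w ∈ A, ρ * w * ρ⁻¹ ∈ A := fun ρ hρ w hw => ⟨F.nrm ρ (c.pair.comm u ρ hρ).symm w hw.1, by
    calc τ v * (ρ * w * ρ⁻¹) * (τ v)⁻¹ = τ v * ρ * w * (τ v * ρ)⁻¹ := by group
      _ = ρ * (τ v * w * (τ v)⁻¹) * ρ⁻¹ := by rw [c.pair.comm v ρ hρ]; group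
      _ = _ := by rw [hw.2, conj_inv]⟩
  have hyA : α u ∈ A := ⟨hy, by rw [c.conj_alpha, d.hvu, map_inv]⟩
  have hRC : ∀ ρ ∈ R, ∀ k ∈ centralizer (A : Set L), ρ * k * ρ⁻¹ ∈ centralizer (A : Set L) := fun ρ hρ k hk =>
    mem_centralizer_iff.2 fun w hw => by
      have h1 := mem_centralizer_iff.1 hk _ (hRA _ (inv_mem hρ) w hw)
      calc w * (ρ * k * ρ⁻¹) = ρ * (ρ⁻¹ * w * ρ⁻¹⁻¹ * k) * ρ⁻¹ := by group
        _ = _ := by rw [h1]; group
  have hne : ∀ {w : U}, orderOf w = 2 → w ≠ 1 := fun hw h => by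
    rw [h, orderOf_one] at hw
    omega
  have hsq : ∀ {w : U}, orderOf w = 2 → φ w * φ w = 1 := fun hw => by
    rw [← map_mul, ← pow_two, ← hw, pow_orderOf_eq_one, map_one]
  by_cases h : ∃ w ∈ A, φ a * w * (φ a)⁻¹ ≠ w
  · obtain ⟨w, hw, hw'⟩ := h
    have h1 := card_ge_of_four (F.pg.to_le hAQ) hAc (hRA _ (hφR a)) (hRA _ (hφR b)) (hRA _ (hφR r)) (hsq d.ha)
      (hsq d.hb) (by rw [← map_mul, d.hab, map_mul]) (by rw [← map_inv, ← map_mul, ← map_mul, d.ra])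
      (by rw [← map_inv, ← map_mul, ← map_mul, d.rb, map_mul]) (x := τ u) ⟨F.xm, hsx⟩
      (fun h => hu1 (c.pair.inj (h.trans (map_one τ).symm))) (c.pair.comm u _ (hφR a)) (c.pair.comm u _ (hφR b)) hw hw'
    refine false_of_abelian hx F.pg hAQ hAc F.le F.comm F.cen h1 ?_
    have h2 : φ u ∉ Q := fun hq => by
      have h3 : (Q.comap φ).Normal := ⟨fun w hw g => by
        rw [mem_comap, map_mul, map_mul, map_inv]
        exact F.nrm _ (c.pair.comm u _ (hφR g)).symm _ hw⟩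
      rcases c.simple.eq_bot_or_eq_top_of_normal _ h3 with h4 | h4
      · exact hu1 (mem_bot.1 (h4 ▸ (hq : u ∈ Q.comap φ)))
      · refine hne d.ha (hφ ((eq_one_of_inv F.pg (h4.ge (mem_top a)) ?_).trans (map_one φ).symm))
        exact inv_eq_of_mul_eq_one_left (hsq d.ha)
    have h3 : IsPGroup 5 (Q ⊔ zpowers (φ u) : Subgroup L) := F.pg.to_sup_of_normal_left'
      (IsPGroup.of_card (n := 1) (by rw [Nat.card_zpowers, orderOf_injective φ hφ, d.hu, pow_one]))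
      (zpowers_le.2 (mem_normalizer_of (F.nrm _ (c.pair.comm u _ (hφR u)).symm)))
    have h4 := five_mul_le h3 (SetLike.lt_iff_le_and_exists.2 ⟨le_sup_left, _, mem_sup_right (mem_zpowers _), h2⟩)
    obtain ⟨n, hn⟩ := IsPGroup.iff_card.1 h3
    have h5 : n ≤ 6 := by
      by_contra h6
      exact hL ((pow_dvd_pow 5 (by omega)).trans (hn ▸ card_subgroup_dvd_card _))
    have h6 := Nat.pow_le_pow_right (by norm_num : 0 < 5) h5
    omega
  have h1 : φ a ∈ centralizer (A : Set L) := mem_centralizer_iff.2 fun w hw =>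
    (mul_inv_eq_iff_eq_mul.1 (by_contra fun h' => h ⟨w, hw, h'⟩)).symm
  have h2 : ((centralizer (A : Set L)).comap φ).Normal := ⟨fun w hw g => by
    rw [mem_comap, map_mul, map_mul, map_inv]
    exact hRC _ (hφR g) _ hw⟩
  have h3 := (c.simple.eq_bot_or_eq_top_of_normal _ h2).resolve_left fun h4 =>
    hne d.ha (mem_bot.1 (h4 ▸ (h1 : a ∈ (centralizer (A : Set L)).comap φ)))
  have h4 : R ≤ centralizer (A : Set L) := le_of_cover c.pair.perfect hRC hM fun ρ hρ => by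
    obtain ⟨w, hw⟩ := hcov ρ hρ
    exact ⟨φ w, hφR w, h3.ge (mem_top w), hw⟩
  refine hu1 (c.anorm' (mem_normalizer_of fun ρ hρ => ?_))
  rwa [mem_centralizer_iff.1 (h4 hρ) _ hyA, mul_inv_cancel_right]

end Cfsg.Agent.Cam.Spor
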