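import Cfsg.Agent.Cam.Spor.BSev
import Cfsg.Agent.Cam.Spor.BFaM
import Cfsg.Agent.Cam.Spor.BFb
import Cfsg.Agent.H705.OreB.FiveRad

/-!
# S3689, S3690: the Baby Monster (helper66)
-/

set_option autoImplicit false

namespace Cfsg.Agent.Cam.Spor

open Cfsg Subgroup

section rad

open Cfsg.Agent.H609.T5.Five Cfsg.Agent.BpSpor.M5

variable {D A L : Type} [Group D] [Finite D] [Group A] [Finite A] [Group L] {z x t : D} {N S : Subgroup D}
  {f : centralizer ({z} : Set D) →* A} {ρ : D →* A}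

omit [Finite D] [Finite A] in
theorem rs_ker (h : RS z x N f ρ S) {g : D} (hg : ρ g = 1) : ∃ n ∈ N, ∃ e ∈ zpowers z, g = n * e := by
  obtain ⟨n, hn, c, hc, rfl⟩ := h.rad.sup g
  rw [map_mul, h.ρN n hn, one_mul] at hg
  obtain ⟨i, hi | hi⟩ := h.rad.ker ⟨c, mem_centralizer_singleton_iff.2 hc⟩ ((h.ρc _).symm.trans hg)
  · exact ⟨_, mul_mem hn (zpow_mem h.rad.xN i), 1, one_mem _, by rw [mul_one, ← hi]⟩
  · exact ⟨_, mul_mem hn (zpow_mem h.rad.xN i), z, mem_zpowers z, by rw [mul_assoc, ← hi]⟩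

omit [Finite A] in
theorem rs_ne (h : RS z x N f ρ S) (htt : t * t = 1) (ht1 : t ≠ 1) (htz : ∀ d : D, d * t * d⁻¹ ≠ z) : ρ t ≠ 1 := by
  have hp : Fact (Nat.Prime 5) := ⟨Nat.prime_five⟩
  intro h1
  obtain ⟨d, hd⟩ := H844.Ore.BThree.exists_conj_mem _ (H705.OreB.FiveRad.index_odd h.rad) htt
  have h2 : d * t * d⁻¹ * (d * t * d⁻¹) = 1 := by
    calc d * t * d⁻¹ * (d * t * d⁻¹) = d * (t * t) * d⁻¹ := by group
      _ = 1 := by rw [htt]; group
  obtain ⟨i, hi | hi⟩ := h.rad.ker ⟨_, hd⟩ ((h.ρc _).symm.trans (by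
    change ρ (d * t * d⁻¹) = 1
    rw [map_mul, map_mul, h1, map_inv, mul_one, mul_inv_cancel]))
  · have h3 : d * t * d⁻¹ = x ^ i := hi
    rw [h.rad.sq_one (by norm_num) (i := i) (by rw [← h3, h2])] at h3
    exact ht1 (conj_eq_one_iff.1 h3)
  · have h3 : d * t * d⁻¹ = x ^ i * z := hi
    have h4 : x ^ i * x ^ i = 1 := by
      calc x ^ i * x ^ i = x ^ i * (x ^ i * z) * z := by rw [mul_assoc, mul_assoc, h.rad.zz, mul_one]
        _ = (x ^ i * z) * (x ^ i * z) := by nth_rewrite 1 [← h.rad.xzc i z]; group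
        _ = 1 := by rw [← h3, h2]
    rw [h.rad.sq_one (by norm_num) h4, one_mul] at h3
    exact htz d h3

theorem rad5_of (h : RS z x N f ρ S) (hna : ∃ a ∈ S, ∃ b ∈ S, a * b ≠ b * a) (htt : t * t = 1) (hρ : ρ t ≠ 1)
    (κ : centralizer ({t} : Set D) →* L) (hk : ∀ g, κ g = 1 → (g : D) = 1 ∨ (g : D) = t)
    {x' : centralizer ({t} : Set D)} (hx : (x' : D) = x) (hr : ∀ g : L, g * κ x' = κ x' * g → ∃ y, κ y = g) :
    Rad5 (κ x') ((ρ.ker.subgroupOf _).map κ) ((S.subgroupOf _).map κ) := by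
  have hp : Fact (Nat.Prime 5) := ⟨Nat.prime_five⟩
  have hxc : ∀ y, κ y * κ x' = κ x' * κ y := fun y => by
    rw [← map_mul, ← map_mul]
    exact congrArg κ (Subtype.ext (by rw [Subgroup.coe_mul, Subgroup.coe_mul, hx, h.rad.xc]))
  have hzp : ∀ {y : centralizer ({t} : Set D)}, (y : D) ∈ zpowers x → κ y ∈ zpowers (κ x') := by
    rintro y ⟨i, hi⟩
    exact ⟨i, by rw [show y = x' ^ i from Subtype.ext (by rw [Subgroup.coe_zpow, hx]; exact hi.symm), map_zpow]⟩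
  have hk' : ∀ g, κ g = 1 → ρ g = 1 → (g : D) = 1 := fun g h1 h2 => (hk g h1).resolve_right fun h3 => hρ (h3 ▸ h2)
  refine ⟨⟨?_⟩, ?_, ?_, ?_, (h.Sp.comap_subtype).map κ, ⟨x', by rw [SetLike.mem_coe, mem_subgroupOf, hx]; exact h.xS, rfl⟩,
    ?_, ?_, ?_, ?_⟩
  · rintro ⟨_, hq⟩ ⟨k, hk, rfl⟩ ⟨g, hg⟩
    obtain ⟨y, rfl⟩ := hr g (mem_centralizer_singleton_iff.1 hg)
    exact ⟨y * k * y⁻¹, (inferInstance : ρ.ker.Normal).conj_mem _ hk y, by rw [map_mul, map_mul, map_inv]; rfl⟩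
  · have h1 := h.rad.nN
    have h2 := h.rad.isNilpotent (by norm_num)
    have h3 : Group.IsSolvable ρ.ker := solvable_of_mul (N := N) (E := zpowers z) inferInstance
      (Group.isSolvable_of_comm fun a b => mul_comm' a b) fun y hy => rs_ker h hy
    have h4 : Group.IsSolvable (ρ.ker.subgroupOf (centralizer ({t} : Set D))) :=
      Group.isSolvable_of_isSolvable_injective
        (f := ((Subgroup.subtype _).comp (Subgroup.subtype _)).codRestrict ρ.ker fun p => mem_subgroupOf.1 p.2)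
        fun a b e => Subtype.ext (Subtype.ext (congrArg (fun y : ρ.ker => (y : D)) e))
    exact Group.isSolvable_of_surjective (κ.subgroupMap_surjective _)
  · let κ' := κ.codRestrict (centralizer ({κ x'} : Set L)) fun y => mem_centralizer_singleton_iff.2 (hxc y)
    have h1 : Function.Surjective κ' := fun g => by
      obtain ⟨y, hy⟩ := hr g (mem_centralizer_singleton_iff.1 g.2)
      exact ⟨y, Subtype.ext hy⟩
    have h2 : (ρ.ker.subgroupOf _).map κ' ≤ ((ρ.ker.subgroupOf _).map κ).subgroupOf (centralizer ({κ x'} : Set L)) := by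
      rintro _ ⟨k, hk, rfl⟩
      exact ⟨k, hk, rfl⟩
    refine ((index_dvd_of_le h2).trans (index_map_dvd _ h1)).trans ?_
    have h3 : (ρ.comp (centralizer ({t} : Set D)).subtype).range ≤ centralizer ({ρ t} : Set A) := by
      rintro _ ⟨y, rfl⟩
      rw [mem_centralizer_singleton_iff]
      change ρ y * ρ t = ρ t * ρ y
      rw [← map_mul, ← map_mul, comm_t y]
    change (ρ.comp (centralizer ({t} : Set D)).subtype).ker.index ∣ _
    rw [index_ker]
    refine (card_dvd_of_le h3).trans ?_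
    rcases H705.OreB.FiveRad.j2_card h.iso (ρ t) (by rw [← map_mul, htt, map_one]) hρ with h4 | h4 <;> rw [h4]
    norm_num
  · rintro _ ⟨k, hk, rfl⟩ h5
    have h1 : ρ k = 1 := hk
    have h2 := hk' (k ^ 5) (by rw [map_pow, h5]) (by rw [Subgroup.coe_pow, map_pow, h1, one_pow])
    refine ⟨k, mem_subgroupOf.2 ?_, rfl⟩
    by_cases h3 : (k : D) = 1
    · rw [h3]
      exact one_mem _
    · exact h.mem _ (orderOf_eq_prime h2 h3) h1
  · rintro _ ⟨k, -, rfl⟩
    exact hxc k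
  · rintro g hg _ ⟨k, hk, rfl⟩
    obtain ⟨y, rfl⟩ := hr g hg
    exact ⟨y * k * y⁻¹, h.Sn.conj_mem _ hk y, by rw [map_mul, map_mul, map_inv]⟩
  · rintro _ ⟨a, ha, rfl⟩ _ ⟨b, hb, rfl⟩
    obtain ⟨i, hi⟩ := h.rad.comm (by norm_num) (h.SN ha) (h.SN hb)
    rw [← map_inv, ← map_inv, ← map_mul, ← map_mul, ← map_mul]
    refine hzp ⟨i, ?_⟩
    change x ^ i = (a : D) * b * (a : D)⁻¹ * (b : D)⁻¹
    rw [show (a : D) * b * (a : D)⁻¹ = b * x ^ i from hi, h.rad.xzc i, mul_inv_cancel_right]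
  · rintro _ ⟨w, hw, rfl⟩ hc
    have hw' : (w : D) ∈ S := hw
    refine hzp (h.center_le hna hw' fun s hs => ?_)
    have h1 : t * s * t⁻¹ ∈ S := h.Sn.conj_mem _ hs t
    have ht : t⁻¹ = t := inv_eq_of_mul_eq_one_left htt
    obtain ⟨i, hi⟩ := h.rad.comm (by norm_num) (h.SN h1) (h.SN hs)
    have h2 : t * (s * (t * s * t⁻¹)) * t⁻¹ = s * (t * s * t⁻¹) * x ^ i := by
      calc t * (s * (t * s * t⁻¹)) * t⁻¹ = t * s * t⁻¹ * (t * t * s * (t * t)⁻¹) := by group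
        _ = t * s * t⁻¹ * s * (t * s * t⁻¹)⁻¹ * (t * s * t⁻¹) := by rw [htt]; group
        _ = _ := by rw [hi, mul_assoc s, ← h.rad.xzc i, ← mul_assoc]
    rw [h.rad.cent_of_mod (by norm_num) htt h2, mul_one] at h2
    let c : centralizer ({t} : Set D) := ⟨_, mem_centralizer_singleton_iff.2 (mul_inv_eq_iff_eq_mul.1 h2).symm⟩
    have hcS : (c : D) ∈ S := mul_mem hs h1
    have h3 := hk' (c * w * c⁻¹ * w⁻¹)
      (by rw [map_mul, map_mul, map_mul, hc _ ⟨c, hcS, rfl⟩, map_inv, map_inv, mul_inv_cancel_right, mul_inv_cancel])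
      (h.ρN _ (h.SN (mul_mem (mul_mem (mul_mem hcS hw') (inv_mem hcS)) (inv_mem hw'))))
    obtain ⟨j, hj⟩ := h.rad.comm (by norm_num) (h.SN hs) (h.SN hw')
    have h4 : t * s * t⁻¹ * w * (t * s * t⁻¹)⁻¹ = w * x ^ j := by
      calc t * s * t⁻¹ * w * (t * s * t⁻¹)⁻¹ = t * s * t⁻¹ * (w * t) * s⁻¹ * t⁻¹ := by group
        _ = t * (s * w * s⁻¹) * t⁻¹ := by rw [comm_t w]; group
        _ = _ := by rw [hj, ← mul_assoc, ← comm_t w, mul_assoc (w : D), h.rad.xzc j t]; group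
    have h5 : x ^ j * x ^ j = 1 := by
      refine mul_left_cancel (a := (w : D)) ?_
      calc (w : D) * (x ^ j * x ^ j) = s * w * s⁻¹ * x ^ j := by rw [hj, mul_assoc]
        _ = s * (t * s * t⁻¹ * w * (t * s * t⁻¹)⁻¹) * s⁻¹ := by rw [h4, mul_assoc, h.rad.xzc j s⁻¹]; group
        _ = s * (t * s * t⁻¹) * w * (s * (t * s * t⁻¹))⁻¹ * (w : D)⁻¹ * w := by group
        _ = _ := by rw [show s * (t * s * t⁻¹) * w * (s * (t * s * t⁻¹))⁻¹ * (w : D)⁻¹ = 1 from h3, one_mul, mul_one]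
    rw [h.rad.sq_one (by norm_num) h5, mul_one] at hj
    exact mul_inv_eq_iff_eq_mul.1 hj

end rad

open Cfsg.Agent.BpSpor.MBigModel Cfsg.Agent.TAB.M5
open Cfsg.Agent.H136.M23.BWords (xu)
open Cfsg.Agent.LThreeB.Row (TA)

variable {L U : Type} [Group L] [Group U] {τ α β : U →* L} {R R' : Subgroup L}

/-- moving the cover -/
theorem Cov.move {t : MG} {π : centralizer ({t} : Set MG) →* L} (c : Cov t π) (ht : TA t)
    (x : centralizer ({t} : Set MG)) {y : MG} (h : IsConj y (x : MG)) :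
    ∃ (t' : MG) (π' : centralizer ({t'} : Set MG) →* L) (x' : centralizer ({t'} : Set MG)),
      Cov t' π' ∧ TA t' ∧ (x' : MG) = y ∧ π' x' = π x := by
  obtain ⟨g, hg⟩ := isConj_iff.1 h.symm
  obtain ⟨π', c', h'⟩ := c.conj g
  refine ⟨_, π', ⟨y, mem_centralizer_singleton_iff.2 ?_⟩, c', SP.Mon.NL.ta_conj ht g, rfl, h' _ _ hg.symm⟩
  rw [← hg]
  calc g * x * g⁻¹ * (g * t * g⁻¹) = g * (x * t) * g⁻¹ := by group
    _ = _ := by rw [comm_t x]; group

/-- **the elements of order five of `B`** -/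
theorem b_five [Finite L] (h : Spor.IsoB L) {y : L} (hy : orderOf y = 5) (he : 2 ∣ Nat.card (centralizer ({y} : Set L))) :
    (∃ s K, F5A y s K) ∨ ∃ Q0 Q, Rad5 y Q0 Q := by
  have hfin := finite
  obtain ⟨t, ht, h2, ⟨e⟩⟩ := H979.OddB.exists_cover h
  obtain ⟨π, c⟩ := exists_cov (SP.Mon.NL.ta_order ht) h2 e
  obtain ⟨x, hx, rfl⟩ := c.lift Nat.prime_five (by decide) hy
  have h4 : 4 ∣ Nat.card (centralizer ({(x : MG)} : Set MG)) := by
    refine Dvd.dvd.trans ?_ (card_dvd_of_le (inf_le_left (b := centralizer ({t} : Set MG))))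
    rw [c.card_cent (by decide : Odd 5) (by rw [← hx, pow_orderOf_eq_one])]
    exact mul_dvd_mul_left 2 he
  obtain ⟨P, x₀, a, b, c', u, Lf⟩ := H609.T5.Five.exists_lifts inp.h
  rcases five_cases Lf.ox Lf.fx hx ((CpAutBFive.EvenRow.cases hx).resolve_right fun h => h h4) with h1 | h1
  · obtain ⟨t₁, π₁, x₁, c₁, ht₁, hx₁, e₁⟩ := c.move ht x h1
    obtain ⟨g, hg⟩ := ta_emb ht₁ (hx₁ ▸ comm_t x₁)
    obtain ⟨π₂, c₂, e₂⟩ := c₁.conj (emb g)
    have ht₂ := SP.Mon.NL.ta_conj ht₁ (emb g)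
    revert π₂
    rw [hg] at ht₂ ⊢
    intro π₂ c₂ e₂
    rw [← e₁, ← e₂ x₁ xE (by rw [hx₁, ← (comm_emb g).eq, mul_inv_cancel_right]; rfl)]
    exact Or.inl (f5A ht₂ c₂)
  · obtain ⟨t₁, π₁, x₁, c₁, ht₁, hx₁, e₁⟩ := c.move ht x h1
    obtain ⟨-, -, -, ⟨N, ρ, S, hR⟩, -⟩ := H609.T5.Five.exists_local inp Lf.ox Lf.fx
    have hA : Finite (LThreeMB.XX (pi x₀)) := by
      have := BpSpor.MBigCo.finite_co1
      infer_instance
    let t' : centralizer ({(x₀ : MG)} : Set MG) := ⟨t₁, mem_centralizer_singleton_iff.2 (hx₁ ▸ (comm_t x₁).symm)⟩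
    have htt : t' * t' = 1 := Subtype.ext c₁.tt
    let j : centralizer ({t'} : Set (centralizer ({(x₀ : MG)} : Set MG))) →* centralizer ({t₁} : Set MG) :=
      ((Subgroup.subtype _).comp (Subgroup.subtype _)).codRestrict _ fun g =>
        mem_centralizer_singleton_iff.2 (congrArg Subtype.val (comm_t g))
    let x' : centralizer ({t'} : Set (centralizer ({(x₀ : MG)} : Set MG))) :=
      ⟨LThreeMB.self (x₀ : MG), mem_centralizer_singleton_iff.2 (Subtype.ext (comm_t t').symm)⟩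
    have hj : j x' = x₁ := Subtype.ext hx₁.symm
    have F := rad5_of hR (H609.T5.Five.nonab inp Lf hR) htt
      (rs_ne hR htt (fun h => c₁.t_ne (congrArg Subtype.val h))
        fun d h => MThirteen.Row.ta_ne ht₁ d (congrArg Subtype.val h))
      (π₁.comp j) (fun g hg => ((c₁.ker _).1 hg).imp Subtype.ext Subtype.ext) (x' := x') rfl fun g hg => by
        obtain ⟨g, rfl⟩ := c₁.surj g
        rw [MonoidHom.comp_apply, hj] at hg
        have h3 := c₁.comm (by decide : Odd 5) (a := x₁)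
          (by rw [hx₁, ← Lf.ox, ← Subgroup.coe_pow, pow_orderOf_eq_one, Subgroup.coe_one]) hg
        exact ⟨⟨⟨g, mem_centralizer_singleton_iff.2 (hx₁ ▸ h3)⟩,
          mem_centralizer_singleton_iff.2 (Subtype.ext (comm_t g))⟩, rfl⟩
    rw [MonoidHom.comp_apply, hj, e₁] at F
    exact Or.inr ⟨_, _, F⟩

theorem noCore_b {L : Type} [Group L] [Finite L] (big : Big) (h : Spor.IsoB L) : NoCore L := by
  intro U _ _ τ α β R R' c
  have key : ∀ u : U, orderOf u = 5 → 2 ∣ Nat.card U → (∃ s K, F5A (τ u) s K) ∨ ∃ Q0 Q, Rad5 (τ u) Q0 Q :=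
    fun u hu h2 => b_five h ((c.pair.orderOf_eq u).trans hu)
      ((h2.mul_left _).trans (c.pair.order_mul_dvd' c.simple c.noncomm u))
  have five : Nat.card U = 60 ∨ Nat.card U = 360 → False := fun hU => by
    obtain ⟨u, v, a, b, r, d⟩ := exists_a5Dat c.simple hU
    rcases key u d.hu (by rcases hU with h1 | h1 <;> rw [h1] <;> norm_num) with ⟨s, K, F⟩ | ⟨Q0, Q, F⟩
    · exact c.false_5A big d.hu F (hU.imp_right fun h1 => Or.inr ⟨h1, v, d.hv, d.hvu⟩)
    · exact c.false_5B big (by rw [NotCT.Orders.b h]; norm_num) d F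
  rcases cand_b big h c with h1 | h1 | h1 | h1
  · exact c.false_b7 big h h1
  · exact five (Or.inl h1)
  · exact five (Or.inr h1)
  · obtain ⟨u, hu, -⟩ := Core.exists_orderOf (U := U) (r := 5) (by norm_num) (by rw [h1]; norm_num)
    rcases key u hu (by rw [h1]; norm_num) with ⟨s, K, F⟩ | ⟨Q0, Q, F⟩
    · exact c.false_5A big hu F (Or.inr (Or.inl h1))
    · have h2 := c.dvd_of_rad5 F
      rw [h1] at h2
      norm_num at h2

end Cfsg.Agent.Cam.Spor
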