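import Cfsg.Agent.Cam.Spor.MLoc
import Cfsg.Agent.TAB.M5.B
import Cfsg.Agent.SP.Mon.C2A.Box
import Cfsg.Agent.SP.Mon.L3.Iface
import Cfsg.Agent.S1701

/-!
# S3689, S3690: the Monster, the class `5B` (helper67)
-/

set_option autoImplicit false

namespace Cfsg.Agent.Cam.Spor

open Cfsg Subgroup Cfsg.Agent.TwoFusion.PerfCore

section sd
variable {G : Type} [Group G] {x s : G} {K : Subgroup G}

theorem SD.exists_k' (d : SD x s K) {t : G} (ht : t * t = 1) (hi : t * x * t⁻¹ = x⁻¹) :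
    ∃ k ∈ K, k * k = 1 ∧ ∃ i : ℤ, t = s * x ^ i * k := by
  obtain ⟨i, k, hk, h⟩ := d.split (s⁻¹ * t) (by
    calc s⁻¹ * t * x = s⁻¹ * (t * x * t⁻¹) * t := by group
      _ = _ := by rw [hi, ← d.inv]; group)
  have h1 : t = s * x ^ i * k := by rw [mul_assoc, ← h, mul_inv_cancel_left]
  have hkx : Commute k (x ^ i) := (show Commute k x from mem_centralizer_singleton_iff.1 (d.le hk)).zpow_right i
  have h3 : s * x ^ i * s⁻¹ = (x ^ i)⁻¹ := by rw [← conj_zpow, d.inv, inv_zpow]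
  refine ⟨k, hk, ?_, i, h1⟩
  rw [← ht, h1]
  calc k * k = (s * x ^ i * s⁻¹) * (s * s) * x ^ i * k * k := by rw [h3, d.sq]; group
    _ = s * x ^ i * (s * (x ^ i * k)) * k := by group
    _ = _ := by rw [← hkx.eq, ← mul_assoc s k, ← d.cent k hk]; group

theorem SD.comm (d : SD x s K) (i : ℤ) {g : G} (hg : g ∈ K) : Commute (s * x ^ i) g :=
  Commute.mul_left (d.cent g hg).symm
    ((show Commute x g from (mem_centralizer_singleton_iff.1 (d.le hg)).symm).zpow_left i)

theorem SD.comm_k (d : SD x s K) {i : ℤ} {k g : G} (hg : g ∈ K) (h : g * (s * x ^ i * k) = s * x ^ i * k * g) :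
    g * k = k * g := by
  rw [← mul_assoc, ← (d.comm i hg).eq, mul_assoc, mul_assoc _ k] at h
  exact mul_left_cancel h

theorem SD.conj_s (d : SD x s K) {m : ℕ} (hx : x ^ (2 * m + 1) = 1) (i : ℤ) : ∃ g, g * s * g⁻¹ = s * x ^ i := by
  refine ⟨(x ^ (i * (m + 1)))⁻¹, ?_⟩
  have h3 : s * x ^ (i * (m + 1)) * s⁻¹ = (x ^ (i * (m + 1)))⁻¹ := by rw [← conj_zpow, d.inv, inv_zpow]
  have h4 : x ^ (i * (m + 1)) * x ^ (i * (m + 1)) = x ^ i := by
    rw [← zpow_add, show i * (m + 1) + i * (m + 1) = ((2 * m + 1 : ℕ) : ℤ) * i + i by push_cast; ring, zpow_add,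
      zpow_mul, zpow_natCast, hx, one_zpow, one_mul]
  rw [inv_inv]
  nth_rewrite 1 [← h3]
  rw [← h4]
  group

end sd

/-- more elements of `A₅` -/
structure A5Ext {U : Type} [Group U] (u a a' b' r' : U) : Prop where
  au : (a * u) ^ 3 = 1
  ha : a' * a' = 1
  hb : b' * b' = 1
  hab : a' * b' = b' * a'
  hne : a' ≠ 1
  ra : r' * a' * r'⁻¹ = b'
  rb : r' * b' * r'⁻¹ = a' * b'
  hr : orderOf r' = 3
  ar : a * r' * a⁻¹ = r'⁻¹

theorem A5Ext.map {U V : Type} [Group U] [Group V] {u a a' b' r' : U} (d : A5Ext u a a' b' r') {f : U →* V}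
    (hf : Function.Injective f) : A5Ext (f u) (f a) (f a') (f b') (f r') :=
  ⟨by rw [← map_mul, ← map_pow, d.au, map_one], by rw [← map_mul, d.ha, map_one], by rw [← map_mul, d.hb, map_one],
    by rw [← map_mul, ← map_mul, d.hab], fun h => d.hne (hf (h.trans (map_one f).symm)),
    by rw [← map_inv, ← map_mul, ← map_mul, d.ra], by rw [← map_inv, ← map_mul, ← map_mul, ← map_mul, d.rb],
    by rw [orderOf_injective f hf, d.hr], by rw [← map_inv, ← map_inv, ← map_mul, ← map_mul, d.ar]⟩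

theorem a5Ext_five : ∃ u v a b r a' b' r' : alternatingGroup (Fin 5), A5Dat u v a b r ∧ A5Ext u a a' b' r' := by
  have : Fact (Nat.Prime 5) := ⟨by norm_num⟩
  have : Fact (Nat.Prime 3) := ⟨by norm_num⟩
  let m (g : Equiv.Perm (Fin 5)) (h : Equiv.Perm.sign g = 1) : alternatingGroup (Fin 5) := ⟨g, h⟩
  refine ⟨m c[0, 1, 2, 3, 4] (by decide +kernel), m (c[1, 4] * c[2, 3]) (by decide +kernel),
    m (c[0, 1] * c[2, 3]) (by decide +kernel), m (c[0, 2] * c[1, 3]) (by decide +kernel), m c[1, 2, 3] (by decide +kernel),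
    m (c[0, 1] * c[3, 4]) (by decide +kernel), m (c[0, 3] * c[1, 4]) (by decide +kernel), m c[0, 1, 4] (by decide +kernel),
    ⟨orderOf_eq_prime ?_ ?_, ?_, ?_, orderOf_eq_prime ?_ ?_, orderOf_eq_prime ?_ ?_, ?_, ?_, ?_, ?_⟩,
    ?_, ?_, ?_, ?_, ?_, ?_, ?_, orderOf_eq_prime ?_ ?_, ?_⟩ <;> decide +kernel

theorem exists_a5Ext {U : Type} [Group U] [Finite U] (hs : IsSimpleGroup U) (h : Nat.card U = 60 ∨ Nat.card U = 360) :
    ∃ u v a b r a' b' r' : U, A5Dat u v a b r ∧ A5Ext u a a' b' r' := by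
  obtain ⟨f, hf⟩ : ∃ f : alternatingGroup (Fin 5) →* U, Function.Injective f := by
    rcases h with h | h
    · obtain ⟨e⟩ := S0494.result h
      exact ⟨e.symm.toMonoidHom, e.symm.injective⟩
    · obtain ⟨e⟩ := S0497.result h
      let ι := (Fin.castSuccEmb : Fin 5 ↪ Fin 6).toEquivRange
      exact ⟨e.symm.toMonoidHom.comp (((Equiv.Perm.extendDomainHom ι).comp (alternatingGroup (Fin 5)).subtype).codRestrict
        _ fun g => Equiv.Perm.mem_alternatingGroup.2 ((Equiv.Perm.sign_extendDomain g.1 ι).trans g.2)),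
        e.symm.injective.comp fun g g' hg =>
          Subtype.ext (Equiv.Perm.extendDomainHom_injective ι (congrArg Subtype.val hg))⟩
  obtain ⟨u, v, a, b, r, a', b', r', d, d'⟩ := a5Ext_five
  exact ⟨_, _, _, _, _, _, _, _, d.map hf, d'.map hf⟩

section monster
open Cfsg.Agent.H816.MSch Cfsg.Agent.H816.M23.Tx Cfsg.Agent.H816.M23.Inst Cfsg.Agent.H816.M23.Main
open Cfsg.Agent.BpSpor.MBigModel (MG zz pi chart cls)
open Cfsg.Agent.LThreeB.Row (TA)
open Cfsg.Agent.SP.Mon Cfsg.Agent.SP.Mon.C2A Cfsg.Agent.SP.Mon.NL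
open Cfsg.Agent.TAB.M5 (x0 DD SS loc)
open Cfsg.Agent.H136.M23.BWords (xu)

theorem card_KK' (p q : XT) : Nat.card (C2A.KK p q) * (97239461142009186000 * k (c p q)) =
    808017424794512875886459904961710757005754368000000000 := by
  rw [← card_st p q]
  congr 3
  ext g
  rw [MulAction.mem_stabilizer_iff, Prod.smul_mk, Prod.mk.injEq, fix_iff, fix_iff, mem_inf,
    mem_centralizer_singleton_iff, mem_centralizer_singleton_iff]

theorem sd_KK {p q : XT} {r : ℕ} (hr : r.Prime) (h2 : r ≠ 2) (ho : orderOf (tX p * tX q) = r)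
    (h : Nat.card (centralizer ({tX p * tX q} : Set MG)) = r * Nat.card (C2A.KK p q)) :
    SD (tX p * tX q) (tX p) (C2A.KK p q) := by
  have := BpSpor.MBigModel.finite
  refine SD.of_card hr h2 ho (tX_sq p) ?_ (fun g hg => mem_centralizer_singleton_iff.2 (comm_KK hg).symm.eq)
    (fun g hg => mem_centralizer_singleton_iff.1 hg.1) h
  rw [← mul_assoc, tX_sq, one_mul, mul_inv_rev, inv_eq_of_mul_eq_one_left (tX_sq q)]

theorem t3C_conj {x y : MG} (hx : T3C x) (hy : T3C y) : ∃ g : MG, g * y * g⁻¹ = x := by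
  obtain ⟨x', g, h1, rfl⟩ := exists_in' hx.1 (by rw [hx.2]; norm_num)
  obtain ⟨y', g', h2, rfl⟩ := exists_in' hy.1 (by rw [hy.2]; norm_num)
  have key : ∀ (w : centralizer ({zz} : Set MG)) (g : MG), orderOf w = 3 → T3C (g * w * g⁻¹) →
      LThreeMB.fr (pi w) = 2 ^ 8 := fun w g h3 h4 => by
    rcases tri_in h3 with h | h | h
    · exact absurd h4 (h.1.conj g).not_C
    · exact absurd h4 (h.1.conj g).not_C
    · exact h.2.1
  obtain ⟨k, hk⟩ := conj_of_fr LThreeCo1.Ranks.eight h1 h2 (key _ _ h1 hx) (key _ _ h2 hy)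
  exact ⟨g * k * g'⁻¹, by rw [← hk]; group⟩

/-- `S₃ × Th` -/
theorem sd_3C {y : MG} (hy : T3C y) : ∃ s K, SD y s K ∧ TA s ∧ Nonempty (K ≃* Spor.Th) := by
  obtain ⟨q, hq⟩ := exists_four H816.MSch.b0
  have ho : ∀ {p q : XT}, c p q = 4 → orderOf (tX p * tX q) = 3 := fun h =>
    ord_eq (by rw [h]; decide) Nat.prime_three (ax.four _ _ h)
  obtain ⟨g, hg⟩ := t3C_conj hy ⟨ho hq, cent_four hq⟩
  rw [← c_inv g] at hq
  rw [← conj_mul, ← tX_smul, ← tX_smul] at hg
  exact ⟨_, _, hg ▸ sd_KK Nat.prime_three (by norm_num) (ho hq) (by rw [cent_four hq, card_KK hq]),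
    (ta_iff _).2 ⟨_, rfl⟩, iso_KK hq⟩

/-- a `2A`-pure four-group -/
theorem not_dvd_pure {a b : MG} (ha : TA a) (hb : TA b) (hab : TA (a * b)) :
    ¬ 125 ∣ Nat.card (centralizer ({a} : Set MG) ⊓ centralizer ({b} : Set MG) : Subgroup MG) := by
  obtain ⟨p, rfl⟩ := (ta_iff _).1 ha
  obtain ⟨q, rfl⟩ := (ta_iff _).1 hb
  obtain ⟨w, hw⟩ := (ta_iff _).1 hab
  have h := card_KK' p q
  rw [ax.col_one hw] at h
  rintro ⟨m, hm⟩
  have h1 : 125 * m * (97239461142009186000 * 27143910000) = 808017424794512875886459904961710757005754368000000000 := by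
    rw [← hm]; exact h
  omega

theorem no_5B {U : Type} [Group U] (hs : IsSimpleGroup U) (hn : ¬ IsMulCommutative U) {u v a b r a' b' r' : U}
    (d : A5Dat u v a b r) (d' : A5Ext u a a' b' r') {τ φ : U →* MG} (hτ : Function.Injective τ)
    (hφ : Function.Injective φ) (hc : ∀ g h, τ g * φ h = φ h * τ g) (hx : τ u = x0) : False := by
  have := BpSpor.MBigModel.finite
  have hS := loc.Sn
  let ψ : U →* DD := φ.codRestrict _ fun h => mem_centralizer_singleton_iff.2 (by rw [← hx, hc])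
  have hψ : Function.Injective ψ := fun g h e => hφ (congrArg Subtype.val e)
  have eφ := d'.map hφ
  have eψ := d'.map hψ
  have h125 := loc_a4 loc hs ψ d'.ha d'.hb d'.hab d'.hne d'.ra d'.rb eψ.hr
  have h1 : 125 ∣ Nat.card (centralizer ({φ r'} : Set MG)) :=
    (h125.trans (card_dvd_of_le inf_le_left)).trans (TAB.M5.card_D_dvd (ψ r'))
  have hy : T3C (φ r') := by
    rcases tri_ev eφ.hr (two_dvd_of_inv (d.map hτ).ha (hc a r')) with h | h | h
    · rw [h.2] at h1; norm_num at h1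
    · exact absurd (h1.trans h.card_dvd) (by norm_num)
    · exact h
  obtain ⟨s, K, e, hs2, ⟨f⟩⟩ := sd_3C hy
  have ha2 : φ a * φ a = 1 := by rw [← pow_two, ← (d.map hφ).ha, pow_orderOf_eq_one]
  have hy3 : φ r' ^ 3 = 1 := by rw [← eφ.hr, pow_orderOf_eq_one]
  obtain ⟨k, hk, hk2, i, hi⟩ := e.exists_k' ha2 eφ.ar
  by_cases hk1 : k = 1
  · rw [hk1, mul_one] at hi
    obtain ⟨g, hg⟩ := e.conj_s (m := 1) hy3 i
    have ta : TA (φ a) := by rw [hi, ← hg]; exact ta_conj hs2 g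
    have tb : TA (φ b) := by rw [← (d.map hφ).ra]; exact ta_conj ta _
    have tab : TA (φ a * φ b) := by rw [← (d.map hφ).rb]; exact ta_conj tb _
    have h2 : (centralizer ({ψ a} : Set DD)).relIndex SS ≤ 25 := by
      refine loc_s3 loc (Subtype.ext ha2) (Subtype.ext hy3) eψ.ar h125 fun n hn hny => ?_
      obtain ⟨j, κ, hκ, h3⟩ := e.split n (congrArg Subtype.val hny).symm
      have h4 : (ψ a * n * (ψ a)⁻¹ * n⁻¹) ^ 3 = 1 := Subtype.ext (by
        have h5 : φ a * φ r' ^ j * (φ a)⁻¹ = (φ r' ^ j)⁻¹ := by rw [← conj_zpow, eφ.ar, inv_zpow]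
        have h6 : φ a * κ * (φ a)⁻¹ = κ := by rw [hi, (e.comm i hκ).eq, mul_inv_cancel_right]
        change (φ a * n * (φ a)⁻¹ * (n : MG)⁻¹) ^ 3 = 1
        rw [h3, ← conj_mul, h5, h6, mul_inv_rev, mul_assoc, mul_inv_cancel_left, ← pow_two, ← pow_mul, mul_comm, pow_mul,
          inv_pow, ← zpow_natCast (φ r' ^ j), ← zpow_mul, mul_comm, zpow_mul, zpow_natCast, hy3, one_zpow, inv_one,
          one_pow])
      have h5 := eq_one_of_coprime (by norm_num) h4 (loc.pow_S (mul_mem (hS.conj_mem n hn _) (inv_mem hn)))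
      calc ψ a * n = ψ a * n * (ψ a)⁻¹ * n⁻¹ * (n * ψ a) := by group
        _ = _ := by rw [h5, one_mul]
    have h3 := loc_two loc h2 (C' := centralizer ({ψ b} : Set DD)) (by rw [← (d.map hψ).ra, relIndex_conj]; exact h2)
    refine not_dvd_pure ta tb tab (h3.trans ?_)
    rw [← card_map_of_injective (centralizer ({(x0 : MG)} : Set MG)).subtype_injective]
    refine card_dvd_of_le ?_
    rintro _ ⟨g, ⟨h4, h5⟩, rfl⟩
    exact ⟨mem_centralizer_singleton_iff.2 (congrArg Subtype.val (mem_centralizer_singleton_iff.1 h4)),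
      mem_centralizer_singleton_iff.2 (congrArg Subtype.val (mem_centralizer_singleton_iff.1 h5))⟩
  · have hT : τ.range ≤ K := e.perfect_le (range_perfect hs hn τ) (by
      rintro _ ⟨g, rfl⟩
      exact mem_centralizer_singleton_iff.2 (hc g r'))
    have hm : ∀ g, τ g ∈ K := fun g => hT ⟨g, rfl⟩
    let F : U →* Spor.Th := f.toMonoidHom.comp (τ.codRestrict K hm)
    have hF : Function.Injective F := f.injective.comp fun g h e => hτ (congrArg Subtype.val e)
    have hFk : ∀ g, F g * f ⟨k, hk⟩ = f ⟨k, hk⟩ * F g := fun g => by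
      change f ⟨τ g, hm g⟩ * _ = _ * f ⟨τ g, hm g⟩
      rw [← map_mul, ← map_mul]
      exact congrArg f (Subtype.ext (e.comm_k (hm g) (by rw [← hi, hc])))
    refine th_no (k := f ⟨k, hk⟩) ?_ (hFk a) (hFk u) ?_ (d.map hF).hu (d'.map hF).au
    · rw [MulEquiv.orderOf_eq, ← Subgroup.orderOf_coe]
      exact orderOf_eq_prime (by rw [pow_two]; exact hk2) hk1
    · rw [← pow_two, ← (d.map hF).ha, pow_orderOf_eq_one]

/-- in a product of two commuting groups `A₅` or `A₆` the elements of order five are in the class `5A` -/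
theorem conj_xu {U : Type} [Group U] (hs : IsSimpleGroup U) (hn : ¬ IsMulCommutative U) {u v a b r a' b' r' : U}
    (d : A5Dat u v a b r) (d' : A5Ext u a a' b' r') {τ φ : U →* MG} (hτ : Function.Injective τ)
    (hφ : Function.Injective φ) (hc : ∀ g h, τ g * φ h = φ h * τ g) : IsConj (xu : MG) (τ u) := by
  refine (TAB.M5.five_cases TAB.M5.x0_ord TAB.M5.x0_fr (d.map hτ).hu
    (H58.MonThirteen.ev_five (d.map hτ).hu (d.map hφ).ha (hc u a))).resolve_right fun h => ?_
  obtain ⟨g, hg⟩ := isConj_iff.1 h.symm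
  exact no_5B hs hn d d' (τ := (MulAut.conj g).toMonoidHom.comp τ) (φ := (MulAut.conj g).toMonoidHom.comp φ)
    ((MulAut.conj g).injective.comp hτ) ((MulAut.conj g).injective.comp hφ)
    (fun a b => by simp only [MonoidHom.comp_apply, ← map_mul, hc]) hg

end monster

end Cfsg.Agent.Cam.Spor
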