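import Cfsg.Agent.Cam.Spor.RowCo1
import Cfsg.Agent.H154.ASix

/-!
# S3689, S3690: data in `A₆` for the row M (helper95)
-/

set_option autoImplicit false

namespace Cfsg.Agent.Cam.Spor

open Cfsg Subgroup Equiv

/-- the elements of `A₆` that are used -/
structure A6Dat {U : Type} [Group U] (u v c : U) : Prop where
  hu : orderOf u = 5
  hv : v * v = 1
  hvu : v * u * v⁻¹ = u⁻¹
  cc : c * c = v
  root : ∀ g, g * g = v → g = c ∨ g = c⁻¹
  gen : ∀ D : Subgroup U, u ∈ D → c ∈ D → D = ⊤
  cls : ∀ g, g * g = 1 → g ≠ 1 → IsConj v g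

theorem A6Dat.map {U V : Type} [Group U] [Group V] {u v c : U} (d : A6Dat u v c) (e : U ≃* V) :
    A6Dat (e u) (e v) (e c) where
  hu := by rw [e.orderOf_eq, d.hu]
  hv := by rw [← map_mul, d.hv, map_one]
  hvu := by rw [← map_inv, ← map_inv, ← map_mul, ← map_mul, d.hvu]
  cc := by rw [← map_mul, d.cc]
  root g hg := by
    obtain ⟨g, rfl⟩ := e.surjective g
    rcases d.root g (e.injective (by rw [map_mul, hg])) with h | h
    · exact Or.inl (by rw [h])
    · exact Or.inr (by rw [h, map_inv])
  gen D hu hc := by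
    have h := d.gen (D.comap e.toMonoidHom) hu hc
    refine eq_top_iff.2 fun g _ => ?_
    obtain ⟨g, rfl⟩ := e.surjective g
    exact (h ▸ mem_top g : g ∈ D.comap e.toMonoidHom)
  cls g hg hg1 := by
    obtain ⟨g, rfl⟩ := e.surjective g
    exact e.toMonoidHom.map_isConj (d.cls g (e.injective (by rw [map_mul, hg, map_one])) fun h => hg1 (by
      rw [h, map_one]))

theorem a6_root : ∀ g : Perm (Fin 6), g * g = c[1, 4] * c[2, 3] → g = c[1, 2, 4, 3] * c[0, 5] ∨
    g = (c[1, 2, 4, 3] * c[0, 5])⁻¹ ∨ g = c[1, 2, 4, 3] ∨ g = c[1, 3, 4, 2] := by decide +kernel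

theorem a6Dat_alt : ∃ u v c : alternatingGroup (Fin 6), A6Dat u v c := by
  have : Fact (Nat.Prime 5) := ⟨by norm_num⟩
  have : Fact (Nat.Prime 3) := ⟨by norm_num⟩
  let u : alternatingGroup (Fin 6) := ⟨c[0, 1, 2, 3, 4], Perm.mem_alternatingGroup.2 (by decide +kernel)⟩
  let v : alternatingGroup (Fin 6) := ⟨c[1, 4] * c[2, 3], Perm.mem_alternatingGroup.2 (by decide +kernel)⟩
  let c : alternatingGroup (Fin 6) := ⟨c[1, 2, 4, 3] * c[0, 5], Perm.mem_alternatingGroup.2 (by decide +kernel)⟩
  have hu : orderOf u = 5 := orderOf_eq_prime (by decide +kernel) (by decide +kernel)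
  have hvv : v * v = 1 := by decide +kernel
  refine ⟨u, v, c, hu, hvv, by decide +kernel, by decide +kernel, fun g hg => ?_, fun D hD hc => ?_, fun g hg hg1 =>
    (H154.ASix.isConj_t0 v (by decide +kernel) hvv).symm.trans (H154.ASix.isConj_t0 g hg1 hg)⟩
  · have h1 := Perm.mem_alternatingGroup.1 g.2
    rcases a6_root g (congrArg Subtype.val hg) with h | h | h | h
    · exact Or.inl (Subtype.ext h)
    · exact Or.inr (Subtype.ext h)
    · rw [h] at h1
      exact absurd h1 (by decide +kernel)
    · rw [h] at h1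
      exact absurd h1 (by decide +kernel)
  · have hs : IsSimpleGroup (alternatingGroup (Fin 6)) :=
      alternatingGroup.isSimpleGroup (by rw [Nat.card_eq_fintype_card, Fintype.card_fin]; norm_num)
    have hcard : Nat.card (alternatingGroup (Fin 6)) = 360 := by
      rw [nat_card_alternatingGroup, Nat.card_eq_fintype_card, Fintype.card_fin]
      rfl
    have hp : orderOf (c * c * u * c * u * u * c) = 3 := orderOf_eq_prime (by decide +kernel) (by decide +kernel)
    have hq : orderOf (u * c * c * c * u * c * u * u) = 3 := orderOf_eq_prime (by decide +kernel) (by decide +kernel)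
    have hpq : Commute (c * c * u * c * u * u * c) (u * c * c * c * u * c * u * u) := by
      unfold Commute SemiconjBy
      decide +kernel
    have h1 := card_mul_dvd_sup (A := zpowers (c * c * u * c * u * u * c)) (B := zpowers (u * c * c * c * u * c * u * u))
      (by
        rintro _ ⟨i, rfl⟩ _ ⟨j, rfl⟩
        exact (hpq.zpow_zpow i j).eq) (by
        rintro _ ⟨i, rfl⟩ ⟨j, hj⟩
        have h2 := congrArg (fun g : alternatingGroup (Fin 6) => (g : Perm (Fin 6)) 1) hj
        have h3 : ∀ k : ℤ, ((c * c * u * c * u * u * c) ^ k : alternatingGroup (Fin 6)).1 1 = 1 := fun k =>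
          Perm.zpow_apply_eq_self_of_apply_eq_self (by decide +kernel) k
        have h4 : ∀ k < 3, ((u * c * c * c * u * c * u * u) ^ k : alternatingGroup (Fin 6)).1 1 = 1 → k = 0 := by
          decide +kernel
        obtain ⟨k, hk⟩ := (mem_powers_iff_mem_zpowers).2 (⟨j, rfl⟩ : _ ∈ zpowers (u * c * c * c * u * c * u * u))
        have hk' : (u * c * c * c * u * c * u * u) ^ (k % 3) = (u * c * c * c * u * c * u * u) ^ j := by
          rw [← hq, pow_mod_orderOf]; exact hk
        have h5 := h4 _ (Nat.mod_lt k (by norm_num)) (by rw [hk']; exact h2.trans (h3 i))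
        rw [h5, pow_zero] at hk'
        exact hj.symm.trans hk'.symm)
    rw [Nat.card_zpowers, Nat.card_zpowers, hp, hq] at h1
    have h2 : 3 * 3 ∣ Nat.card D := h1.trans (card_dvd_of_le (sup_le ((zpowers_le).2
      (D.mul_mem (D.mul_mem (D.mul_mem (D.mul_mem (D.mul_mem (D.mul_mem hc hc) hD) hc) hD) hD) hc)) ((zpowers_le).2
      (D.mul_mem (D.mul_mem (D.mul_mem (D.mul_mem (D.mul_mem (D.mul_mem (D.mul_mem hD hc) hc) hc) hD) hc) hD) hD))))
    have h3 : 5 ∣ Nat.card D := hu ▸ Subgroup.orderOf_dvd_natCard D hD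
    have h4 : 2 ∣ Nat.card D := by
      have : Fact (Nat.Prime 2) := ⟨by norm_num⟩
      rw [← show orderOf (c * c) = 2 from orderOf_eq_prime (by decide +kernel) (by decide +kernel)]
      exact Subgroup.orderOf_dvd_natCard D (mul_mem hc hc)
    have h5 : 0 < Nat.card D := Nat.card_pos
    refine top_le_iff.1 (le_of_card_lt (C := ⊤) (commutator_top hs fun h => ?_) le_rfl le_top ?_)
    · exact absurd (h.is_comm.comm u c) (by decide +kernel)
    · rw [card_top, hcard]
      omega

theorem exists_a6Dat {U : Type} [Group U] [Finite U] (hs : IsSimpleGroup U) (h : Nat.card U = 360) :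
    ∃ u v c : U, A6Dat u v c := by
  obtain ⟨e⟩ := S0497.result h
  obtain ⟨u, v, c, d⟩ := a6Dat_alt
  exact ⟨_, _, _, d.map e.symm⟩

end Cfsg.Agent.Cam.Spor
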