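import Cfsg.Agent.Cam.Spor.RowB
import Cfsg.Agent.H210.On7.Primes
import Cfsg.Agent.H763.Wk.CoTwoFive
import Cfsg.Agent.CpAutCoFive.Comps
import Cfsg.Agent.PreUniqCo.Facts

/-!
# S3689, S3690: the rows HS, Co2, O'N (helper67)
-/

set_option autoImplicit false

namespace Cfsg.Agent.Cam.Spor

open Cfsg Subgroup

variable {L : Type} [Group L]

theorem card_cent_dvd {G K : Type*} [Group G] [Group K] {f : G →* K} (hf : Function.Injective f) (x : G) :
    Nat.card (centralizer ({x} : Set G)) ∣ Nat.card (centralizer ({f x} : Set K)) := by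
  refine card_dvd_of_injective ((f.comp (centralizer ({x} : Set G)).subtype).codRestrict _ fun c => ?_)
    fun a b h => Subtype.ext (hf (congrArg Subtype.val h))
  refine mem_centralizer_singleton_iff.2 ?_
  change f c * f x = f x * f c
  rw [← map_mul, ← map_mul, mem_centralizer_singleton_iff.1 c.2]

theorem noCore_hs [Finite L] (big : Big) (h : Spor.IsoHS L) : NoCore L := by
  obtain ⟨e⟩ := h
  have : Finite Spor.HS := Finite.of_equiv _ e.toEquiv
  refine NoCore.of_equiv (fun U _ _ τ α β R R' c => ?_) e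
  have hU := cand_hs big ⟨MulEquiv.refl _⟩ c
  obtain ⟨u, hu, -⟩ := Core.exists_orderOf (U := U) (r := 5) (by norm_num) (by rw [hU]; norm_num)
  have hx : orderOf (τ u) = 5 := (c.pair.orderOf_eq u).trans hu
  have hi := Subgroup.inclusion_injective (inf_le_left : Spor.HS ≤ Spor.Co3)
  exact c.false_of_num big (by norm_num) hu (l := [(2, 5), (3, 1), (5, 2)]) (N := 2400) (by decide +kernel)
    ((card_cent_dvd hi _).trans (BpSpor.CoThreeFive.card_dvd ((orderOf_injective _ hi _).trans hx)))
    (m := 60) (by decide +kernel) (by decide +kernel) (ex := []) (by decide +kernel) (by simp)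

theorem co2_dvd {x : Spor.Co2} (hx : orderOf x = 5) :
    Nat.card (centralizer ({x} : Set Spor.Co2)) ∣ 2 ^ 18 * 3 * 5 ^ 3 := by
  have := Schreier.CoTwoStab.finite
  let φ : Spor.Co2 →* Co0 := Subgroup.inclusion (inf_le_left : Spor.Co2 ≤ Co0)
  have hφ : Function.Injective φ := Subgroup.inclusion_injective _
  have hmem : x ∈ centralizer ({x} : Set Spor.Co2) := mem_centralizer_singleton_iff.2 rfl
  have hoy : orderOf (⟨x, hmem⟩ : centralizer ({x} : Set Spor.Co2)) = 5 := by rw [← Subgroup.orderOf_coe, hx]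
  refine CpAutCoFive.card_dvd PreUniqCo.Facts.facts (φ := φ.comp (centralizer ({x} : Set Spor.Co2)).subtype)
    (hφ.comp Subtype.val_injective) PreUniqCo.Rows.leechU_ne (fun h => h.1.2.2) hoy
    (fun g => Subtype.ext (mem_centralizer_singleton_iff.1 g.2)) (b := 6) ((card_subgroup_dvd_card _).trans ?_)
  rw [Schreier.CoTwoStab.card]
  exact dvd_of_eq (by norm_num)

theorem noCore_co2 [Finite L] (big : Big) (h : Spor.IsoCo2 L) : NoCore L := by
  obtain ⟨e⟩ := h
  have : Finite Spor.Co2 := Finite.of_equiv _ e.toEquiv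
  refine NoCore.of_equiv (fun U _ _ τ α β R R' c => ?_) e
  have hU : 5 ∣ Nat.card U := by rcases cand_co2 big ⟨MulEquiv.refl _⟩ c with h1 | h1 <;> rw [h1] <;> norm_num
  obtain ⟨u, hu, -⟩ := Core.exists_orderOf (U := U) (r := 5) (by norm_num) hU
  have hx : orderOf (τ u) = 5 := (c.pair.orderOf_eq u).trans hu
  refine c.false_of_num big (by norm_num) hu (l := [(2, 18), (3, 1), (5, 2)]) (N := 19660800) (by decide +kernel)
    (co2_dvd hx) (m := 60) (by decide +kernel) (by decide +kernel) (ex := [2]) (by decide +kernel) fun q hq => ?_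
  rw [List.mem_singleton.1 hq]
  exact H763.Wk.CoTwo.core_five hx

theorem noCore_on [Finite L] (big : Big) (h : Spor.IsoON L) : NoCore L := by
  obtain ⟨e⟩ := h
  have : Finite Spor.ON := Finite.of_equiv _ e.toEquiv
  refine NoCore.of_equiv (fun U _ _ τ α β R R' c => ?_) e
  have hU : 21 ∣ Nat.card U := by rcases cand_on big ⟨MulEquiv.refl _⟩ c with h1 | h1 <;> rw [h1] <;> norm_num
  obtain ⟨u, hu, -⟩ := Core.exists_orderOf (U := U) (r := 3) (by norm_num) (Dvd.dvd.trans (by norm_num) hU)
  have hx : orderOf (τ u) = 3 := (c.pair.orderOf_eq u).trans hu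
  have h1 := c.pair.order_mul_dvd' c.simple c.noncomm u
  rw [H210.On7.card_cent_three hx] at h1
  have h2 := (hU.mul_left _).trans h1
  norm_num at h2

end Cfsg.Agent.Cam.Spor
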