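import Cfsg.Agent.Cam.Spor.MRefl
import Cfsg.Agent.Cam.Spor.MSix
import Cfsg.Agent.Cam.Spor.RowC
import Cfsg.Agent.CpAutON.Gen

/-!
# S3689, S3690: the row M, the class `5A` (helper95)
-/

set_option autoImplicit false

namespace Cfsg.Agent.Cam.Spor

open Cfsg Subgroup Cfsg.Agent.TwoFusion.PerfCore
open Cfsg.Agent.BpSpor.MBigModel (MG)
open Cfsg.Agent.LThreeB.Row (TA)
open Cfsg.Agent.H136.M23.BWords (xu)

theorem Rf.of_mem {s p q : MG} (h : Rf s p) (hq : orderOf q = 5) {i : ℤ} (e : p = q ^ i) : Rf s q := by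
  have := BpSpor.MBigModel.finite
  have h1 : zpowers p = zpowers q := eq_of_le_of_card_ge ((zpowers_le).2 ⟨i, e.symm⟩)
    (by rw [Nat.card_zpowers, Nat.card_zpowers, hq, h.ord])
  obtain ⟨j, hj⟩ : q ∈ zpowers p := h1 ▸ mem_zpowers q
  exact h.of_zpow hq hj.symm

theorem zpow_congr_five {G : Type} [Group G] {y : G} (hy : y ^ 5 = 1) {a b : ℤ} (h : a % 5 = b % 5) : y ^ a = y ^ b := by
  rw [zpow_eq_zpow_emod' a hy, zpow_eq_zpow_emod' b hy]
  exact congrArg _ h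

/-- the reflections of the elementary abelian group `⟨x, w⟩` -/
theorem exists_refl {σ k σ' x w a b : MG} {j : ℤ} (hσ : Rf σ x) (hk : Rf k w) (hσ' : Rf σ' a) (hb : orderOf b = 5)
    (hxw : Commute x w) (hσw : Commute σ w) (hkx : Commute k x) (hσk : Commute σ k) (hσb : Commute σ' b)
    (ha : a = x ^ j * w) (hab : x = a * b) (hj : j = 2 ∨ j = 3 ∨ j = 4) :
    ∃ r₁ r₂ e, Rf r₁ a ∧ Rf r₂ b ∧ (∃ m n : ℤ, e = x ^ m * w ^ n) ∧ (r₁ * r₂ = σ * k * e ∨ r₂ * r₁ = σ * k * e) := by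
  have x5 : x ^ 5 = 1 := by rw [← hσ.ord, pow_orderOf_eq_one]
  have w5 : w ^ 5 = 1 := by rw [← hk.ord, pow_orderOf_eq_one]
  have mul : ∀ m n m' n' : ℤ, x ^ m * w ^ n * (x ^ m' * w ^ n') = x ^ (m + m') * w ^ (n + n') := fun m n m' n' => by
    rw [zpow_add, zpow_add, mul_assoc, ← mul_assoc (w ^ n), ← (hxw.zpow_zpow m' n).eq]
    group
  have pw : ∀ m n i : ℤ, (x ^ m * w ^ n) ^ i = x ^ (m * i) * w ^ (n * i) := fun m n i => by
    rw [(hxw.zpow_zpow m n).mul_zpow, zpow_mul, zpow_mul]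
  have ha' : a = x ^ j * w ^ (1 : ℤ) := by rw [ha, zpow_one]
  have hb' : b = x ^ (1 - j) * w ^ (-1 : ℤ) := by
    have h1 : b = a ^ (-1 : ℤ) * (x ^ (1 : ℤ) * w ^ (0 : ℤ)) := by rw [hab]; group
    rw [h1, ha', pw, mul]
    congr 2 <;> ring
  have cσ : ∀ m n : ℤ, σ * (x ^ m * w ^ n) * σ⁻¹ = x ^ (-m) * w ^ n := fun m n => by
    calc σ * (x ^ m * w ^ n) * σ⁻¹ = σ * x ^ m * σ⁻¹ * (σ * w ^ n) * σ⁻¹ := by group
      _ = _ := by rw [hσ.inv_zpow, (hσw.zpow_right n).eq]; group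
  have ck : ∀ m n : ℤ, k * (x ^ m * w ^ n) * k⁻¹ = x ^ m * w ^ (-n) := fun m n => by
    calc k * (x ^ m * w ^ n) * k⁻¹ = (k * x ^ m) * k⁻¹ * (k * w ^ n * k⁻¹) := by group
      _ = _ := by rw [hk.inv_zpow, (hkx.zpow_right m).eq]; group
  have cx : σ' * x * σ'⁻¹ = x ^ (1 - 2 * j) * w ^ (-2 : ℤ) := by
    calc σ' * x * σ'⁻¹ = σ' * a * σ'⁻¹ * (σ' * b) * σ'⁻¹ := by rw [hab]; group
      _ = a ^ (-1 : ℤ) * b := by rw [hσ'.inv, hσb.eq]; group
      _ = _ := by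
        rw [hb', ha', pw, mul]
        congr 2 <;> ring
  have cw : σ' * w * σ'⁻¹ = x ^ (2 * j * j - 2 * j) * w ^ (2 * j - 1) := by
    calc σ' * w * σ'⁻¹ = (σ' * x * σ'⁻¹) ^ (-j) * (σ' * a * σ'⁻¹) := by rw [conj_zpow, ha]; group
      _ = _ := by
        rw [cx, hσ'.inv, ← zpow_neg_one, ha', pw, pw, mul]
        congr 2 <;> ring
  have cg : ∀ m n m' n' : ℤ, m % 5 = m' % 5 → n % 5 = n' % 5 → x ^ m * w ^ n = x ^ m' * w ^ n' :=
    fun m n m' n' h1 h2 => by rw [zpow_congr_five x5 h1, zpow_congr_five w5 h2]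
  -- the conjugate of `σ k` by `σ σ'`
  have hg : ∃ m n : ℤ, σ * σ' * σ * (σ * σ')⁻¹ * (σ * σ' * k * (σ * σ')⁻¹) = σ * k * (x ^ m * w ^ n) := by
    have h2 : σ * k * a * (σ * k)⁻¹ = a ^ (-1 : ℤ) := by
      calc σ * k * a * (σ * k)⁻¹ = σ * (k * a * k⁻¹) * σ⁻¹ := by group
        _ = _ := by
          rw [ha', ck, cσ, pw]
          congr 2
          ring
    have h3 : (σ * k)⁻¹ * a * (σ * k)⁻¹⁻¹ = a ^ (-1 : ℤ) := by
      calc (σ * k)⁻¹ * a * (σ * k)⁻¹⁻¹ = (σ * k)⁻¹ * (a ^ (-1 : ℤ))⁻¹ * (σ * k) := by group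
        _ = _ := by nth_rewrite 1 [← h2]; group
    obtain ⟨l, hl⟩ := hσ'.uniq ((hσ'.conj (σ * k)⁻¹).of_mem hσ'.ord h3)
    refine ⟨-(j * -l), 1 * -l, ?_⟩
    rw [← cσ, ← pw, ← ha']
    calc σ * σ' * σ * (σ * σ')⁻¹ * (σ * σ' * k * (σ * σ')⁻¹)
        = σ * (σ * k) * ((σ * k)⁻¹ * σ' * (σ * k)⁻¹⁻¹ * σ'⁻¹) * σ⁻¹ := by group
      _ = σ * (k * σ) * a ^ (-l) * σ⁻¹ := by rw [hl, hσ'.inv_zpow, hσk.eq, zpow_neg]
      _ = _ := by group
  have gx : σ * σ' * x * (σ * σ')⁻¹ = x ^ (-(1 - 2 * j)) * w ^ (-2 : ℤ) := by rw [← cσ, ← cx]; group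
  have gw : σ * σ' * w * (σ * σ')⁻¹ = x ^ (-(2 * j * j - 2 * j)) * w ^ (2 * j - 1) := by rw [← cσ, ← cw]; group
  rcases hj with rfl | rfl | rfl
  · obtain ⟨m, n, h⟩ := hg
    refine ⟨_, _, _, (hk.conj (σ * σ')).of_mem hσ'.ord (i := 3) ?_, (hσ.conj (σ * σ')).of_mem hb (i := 2) ?_,
      ⟨m, n, rfl⟩, Or.inr h⟩
    · rw [gw, ha', pw]
      exact cg _ _ _ _ (by norm_num) (by norm_num)
    · rw [gx, hb', pw]
      exact cg _ _ _ _ (by norm_num) (by norm_num)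
  · obtain ⟨i, hi⟩ := hk.uniq ((hσ.conj σ').of_mem hk.ord (i := -2) (by
      rw [cx, zpow_congr_five x5 (b := 0) (by norm_num), zpow_zero, one_mul]))
    refine ⟨σ', _, _, hσ', (hσ'.conj σ).of_mem hb (i := -1) ?_, ⟨0, i, rfl⟩, Or.inl ?_⟩
    · rw [ha', cσ, hb', pw]
      exact cg _ _ _ _ (by norm_num) (by norm_num)
    · calc σ' * (σ * σ' * σ⁻¹) = σ' * σ * σ'⁻¹ * σ := by rw [hσ'.inv_eq, hσ.inv_eq]; group
        _ = k * (w ^ i * σ) := by rw [hi, mul_assoc]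
        _ = _ := by rw [← (hσw.zpow_right i).eq, ← mul_assoc, hσk.eq, zpow_zero, one_mul]
  · obtain ⟨m, n, h⟩ := hg
    refine ⟨_, _, _, (hσ.conj (σ * σ')).of_mem hσ'.ord (i := 3) ?_, (hk.conj (σ * σ')).of_mem hb (i := 3) ?_,
      ⟨m, n, rfl⟩, Or.inl h⟩
    · rw [gx, ha', pw]
      exact cg _ _ _ _ (by norm_num) (by norm_num)
    · rw [gw, hb', pw]
      exact cg _ _ _ _ (by norm_num) (by norm_num)

/-- the decomposition of an involution inverting `p` -/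
theorem Rf.exists_dec {s p t : MG} (h : Rf s p) (ht : t * p * t⁻¹ = p⁻¹) :
    ∃ (i : ℤ) (k : MG), Commute k (s * p ^ i) ∧ Commute k p ∧ t = s * p ^ i * k ∧ k * k = t * t := by
  obtain ⟨i, k, k1, k2, e⟩ := h.split (g := s⁻¹ * t) (by
    calc s⁻¹ * t * p = s⁻¹ * (t * p * t⁻¹) * t := by group
      _ = _ := by rw [ht, ← h.inv]; group)
  have h1 : Commute k (s * p ^ i) := (show Commute k s from k1).mul_right ((show Commute k p from k2).zpow_right i)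
  have h2 : t = s * p ^ i * k := by rw [mul_assoc, ← e, mul_inv_cancel_left]
  refine ⟨i, k, h1, k2, h2, ?_⟩
  rw [h2, mul_assoc, ← mul_assoc k, h1.eq, ← mul_assoc, ← mul_assoc, (h.mul i).sq, one_mul]

variable {U : Type} [Group U] [Finite U] {τ α β : U →* MG} {R R' : Subgroup MG}

theorem m_sixA (c : Core τ α β R R') (hU : Nat.card U = 360) {u v r : U} (d : A6Dat u v r) (hx : IsConj (xu : MG) (τ u)) :
    False := by
  have := BpSpor.MBigModel.finite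
  have : Fact (Nat.Prime 5) := ⟨Nat.prime_five⟩
  have hne := not_comm_of_inv d.hu d.hvu
  have hu1 : u ≠ 1 := fun h => hne (by rw [h, one_mul, mul_one])
  have hinv : ∀ f : U →* MG, f v * f u * (f v)⁻¹ = (f u)⁻¹ := fun f => by
    rw [← map_inv, ← map_inv, ← map_mul, ← map_mul, d.hvu]
  have hsq : ∀ f : U →* MG, f v * f v = 1 := fun f => by rw [← map_mul, d.hv, map_one]
  obtain ⟨s, hs⟩ := exists_rf hx
  obtain ⟨-, k, hk, hk2, hkR, i, hi⟩ := c.exists_k hs.sd d.hv d.hvu hne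
  have hσ := hs.mul i
  have hkx : Commute k (τ u) := mem_centralizer_singleton_iff.1 hk.2
  have hσk : Commute (s * τ u ^ i) k :=
    ((show Commute k s from mem_centralizer_singleton_iff.1 hk.1).mul_right (hkx.zpow_right i)).symm
  generalize s * τ u ^ i = σ at hi hσ hσk
  have hkk : k * k = 1 := by rw [← pow_two, ← hk2, pow_orderOf_eq_one]
  -- `k` lies in `2A`
  have hkT : TA k := by
    have hkC : k ∈ centralizer (R : Set MG) := mem_centralizer_iff.2 fun y hy => (hkR y hy).symm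
    obtain ⟨a, -, ha⟩ := c.pair.exists_act
    have h1 : ∀ g, k * τ g = τ g * k → a ⟨k, hkC⟩ g = g := fun g hg => c.pair.inj (by
      rw [ha]
      change k * τ g * k⁻¹ = τ g
      rw [hg, mul_inv_cancel_right])
    have h2 := h1 v (by rw [hi, ← mul_assoc, ← hσk.eq])
    rcases d.root (a ⟨k, hkC⟩ r) (by rw [← map_mul, d.cc, h2]) with h3 | h3
    · have h4 := d.gen ((a ⟨k, hkC⟩).toMonoidHom.eqLocus (MonoidHom.id U)) (h1 u hkx) h3
      rw [c.pair.cfaith k hkC fun g => ?_, orderOf_one] at hk2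
      · omega
      have h5 : a ⟨k, hkC⟩ g = g := (h4 ▸ mem_top g : g ∈ (a ⟨k, hkC⟩).toMonoidHom.eqLocus (MonoidHom.id U))
      have h6 := ha ⟨k, hkC⟩ g
      rw [h5] at h6
      calc k * τ g = k * τ g * k⁻¹ * k := by group
        _ = _ := by rw [← show τ g = k * τ g * k⁻¹ from h6]
    · have h4 : (τ r)⁻¹ = k * τ r * k⁻¹ := by rw [← map_inv, ← h3]; exact ha _ _
      have h5 : τ r * τ r = σ * k := by rw [← map_mul, d.cc, hi]
      have h6 : k = τ r * σ * (τ r)⁻¹ := by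
        calc k = τ r * ((τ r)⁻¹ * k * τ r) * (τ r)⁻¹ := by group
          _ = τ r * (k * (τ r * τ r)) * (τ r)⁻¹ := by nth_rewrite 1 [h4]; group
          _ = _ := by rw [h5, hσk.eq, ← mul_assoc k, hkk, one_mul]
      exact h6 ▸ SP.Mon.NL.ta_conj hσ.ta _
  -- the element `w`
  have hao : orderOf (α u) = 5 := (c.pair'.orderOf_eq u).trans d.hu
  have hbo : orderOf (β u) = 5 := (orderOf_injective β c.binj u).trans d.hu
  obtain ⟨j, w, hwσ, hwx, hw⟩ := hσ.split (mem_centralizer_singleton_iff.1 (c.alpha_mem_cent (u := u) rfl))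
  have hxw : Commute (τ u) w := hwx.symm
  have hσw : Commute σ w := hwσ.symm
  have hw1 : w ≠ 1 := fun h => c.alpha_not_mem hu1 (mem_sup_left ⟨u ^ j, rfl⟩) (by rw [hw, h, mul_one, map_zpow])
  have hw5 : w ^ 5 = 1 := by
    have h1 : α u ^ 5 = 1 := by rw [← hao, pow_orderOf_eq_one]
    rwa [hw, (hxw.zpow_left j).mul_pow, hσ.five, one_mul] at h1
  have hkw : Rf k w := ⟨hkT, orderOf_eq_prime hw5 hw1, by
    have h1 := c.conj_alpha u v
    rw [d.hvu, map_inv, hi, hw] at h1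
    have h2 : Commute σ (k * w * k⁻¹) := (hσk.mul_right hσw).mul_right hσk.inv_right
    calc k * w * k⁻¹ = τ u ^ j * ((σ * τ u ^ j * σ⁻¹) * (σ * (k * w * k⁻¹)) * σ⁻¹) := by
          rw [hσ.inv_zpow, h2.eq]; group
      _ = τ u ^ j * (σ * (τ u ^ j * k) * w * k⁻¹ * σ⁻¹) := by group
      _ = τ u ^ j * (σ * k * (τ u ^ j * w) * (σ * k)⁻¹) := by rw [← (hkx.zpow_right j).eq]; group
      _ = _ := by rw [h1, (hxw.zpow_left j).eq]; group⟩
  -- `α u` lies in `5A`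
  obtain ⟨θ, hθ⟩ := c.aconj
  have hα : ∀ g, ∃ g', α g = θ (τ g') ∧ orderOf g' = orderOf g := fun g => by
    obtain ⟨_, ⟨g', rfl⟩, h1⟩ : α g ∈ τ.range.map θ.toMonoidHom := hθ ▸ ⟨g, rfl⟩
    refine ⟨g', h1.symm, ?_⟩
    rw [← c.pair'.orderOf_eq g, ← h1, ← c.pair.orderOf_eq g']
    exact (θ.orderOf_eq _).symm
  obtain ⟨s₁, hs₁⟩ : ∃ s₁, Rf s₁ (α u) := by
    obtain ⟨u', h1, h2⟩ := hα u
    obtain ⟨g, l, hl⟩ := CpAutON.Gen.conj_into (p := 5) (by rw [hU]; norm_num) (h2.trans d.hu) d.hu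
    have h3 : τ g * τ u' * (τ g)⁻¹ = τ u ^ l := by
      rw [← map_inv, ← map_mul, ← map_mul, ← map_zpow]; exact congrArg τ hl.symm
    refine exists_rf (isConj_xu hao ?_)
    rw [h1]
    refine Dvd.dvd.trans ?_ (card_cent_dvd (f := θ.toMonoidHom) θ.injective (τ u'))
    rw [← BpSpor.card_cent_of_conj h3]
    refine Dvd.dvd.trans (by rw [hσ.card]; norm_num) (card_dvd_of_le (H := centralizer ({τ u} : Set MG)) fun y hy => ?_)
    exact mem_centralizer_singleton_iff.2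
      ((show Commute y (τ u) from mem_centralizer_singleton_iff.1 hy).zpow_right l).eq
  obtain ⟨i₁, k₁, hk₁, hk₁a, hd₁, hk₁s⟩ := hs₁.exists_dec (hinv α)
  have hσ' := hs₁.mul i₁
  generalize s₁ * α u ^ i₁ = σ' at hk₁ hd₁ hσ'
  rw [hsq] at hk₁s
  have hR' : ∀ y ∈ R', Commute σ' y := fun y hy => (mem_centralizer_singleton_iff.1
    (hσ'.sd.perfect_le c.pair'.perfect (c.pair'.le_cent u) hy).1).symm
  have hA : ∀ {s₂ : MG}, Rf s₂ (β u) → ∀ g, Commute s₂ (α g) := fun h g => (mem_centralizer_singleton_iff.1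
    (h.sd.perfect_le (range_perfect c.simple c.noncomm α) (by
      rintro _ ⟨g, rfl⟩
      exact mem_centralizer_singleton_iff.2 (c.ab g u)) ⟨g, rfl⟩).1).symm
  have hk₁R : ∀ y ∈ R', Commute k₁ y := fun y hy => by
    rw [show k₁ = σ'⁻¹ * α v by rw [hd₁]; group]
    exact (hR' y hy).inv_left.mul_left (c.pair'.comm v y hy)
  have hσb := hR' _ (c.bmem u)
  have x5 : τ u ^ 5 = 1 := by rw [← hσ.ord, pow_orderOf_eq_one]
  rw [zpow_congr_five x5 (Int.emod_emod_of_dvd j dvd_rfl).symm] at hw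
  have hj : j % 5 = 0 ∨ j % 5 = 1 ∨ (j % 5 = 2 ∨ j % 5 = 3 ∨ j % 5 = 4) := by omega
  generalize j % 5 = j at hw hj
  rcases hj with rfl | rfl | hj
  · rw [zpow_zero, one_mul] at hw
    have h1 : Commute (τ u) σ' := hkw.comm (hw ▸ hσ') hxw hkx.symm
    refine hσ'.not_comm ?_
    rw [show α u = τ u * (β u)⁻¹ by rw [c.eq]; group]
    exact (h1.mul_left hσb.symm.inv_left).eq
  · rw [zpow_one] at hw
    have h1 : β u = w ^ (-1 : ℤ) := by
      calc β u = (α u)⁻¹ * τ u := by rw [c.eq]; group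
        _ = _ := by rw [hw]; group
    have h2 := hA (hkw.of_zpow hbo h1) u
    refine hkw.not_comm ?_
    rw [show w = (τ u)⁻¹ * α u by rw [hw]; group]
    exact (hkx.inv_right.mul_right h2).symm.eq
  obtain ⟨r₁, r₂, _, h1, h2, ⟨m, n, rfl⟩, h3⟩ := exists_refl hσ hkw hσ' hbo hxw hσw hkx hσk hσb hw (c.eq u) hj
  have h4 : r₁ * r₂ = τ v * (τ u ^ m * w ^ n) := by
    rcases h3 with h3 | h3
    · rw [h3, hi]
    · rw [← h1.comm_of_sq (hA h2 u).eq h2.sq, h3, hi]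
  obtain ⟨l₁, rfl⟩ := hσ'.uniq h1
  obtain ⟨l₂, k₂, hk₂, hk₂b, hd₂, hk₂s⟩ := h2.exists_dec (hinv β)
  rw [hsq] at hk₂s
  have hk₁b := hk₁R _ (c.bmem u)
  have hk₁r : Commute k₁ r₂ := h2.comm_of_sq hk₁b hk₁s
  have h5 : k₁ * k₂ = (β u ^ l₂)⁻¹ * α u ^ l₁ * (τ u ^ m * w ^ n)⁻¹ := by
    rw [c.eq v, hd₁, hd₂, mul_assoc σ', ← ((hA h2 u).zpow_right l₁).eq] at h4
    calc k₁ * k₂ = (β u ^ l₂)⁻¹ * r₂⁻¹ * σ'⁻¹ * (σ' * (r₂ * β u ^ l₂ * k₁) * k₂ * (τ u ^ m * w ^ n)) *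
          (τ u ^ m * w ^ n)⁻¹ := by group
      _ = (β u ^ l₂)⁻¹ * r₂⁻¹ * σ'⁻¹ * (σ' * k₁ * (r₂ * β u ^ l₂ * k₂) * (τ u ^ m * w ^ n)) *
          (τ u ^ m * w ^ n)⁻¹ := by rw [← (hk₁r.mul_right (hk₁b.zpow_right l₂)).eq]; group
      _ = _ := by rw [← h4]; group
  have hE : ∀ g, Commute g (α u) → Commute g (β u) → Commute g (τ u) ∧ Commute g w := fun g ga gb => by
    have g1 : Commute g (τ u) := by rw [c.eq]; exact ga.mul_right gb
    refine ⟨g1, ?_⟩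
    rw [show w = (τ u ^ j)⁻¹ * α u by rw [hw]; group]
    exact (g1.zpow_right j).inv_right.mul_right ga
  have hE' : ∀ g, Commute g (α u) → Commute g (β u) → Commute g (τ u ^ m * w ^ n)⁻¹ := fun g ga gb =>
    (((hE g ga gb).1.zpow_right m).mul_right ((hE g ga gb).2.zpow_right n)).inv_right
  have hab : Commute (α u) (β u) := c.ab u u
  have h6 : Commute k₁ (k₁ * k₂) := by
    rw [h5]
    exact ((hk₁b.zpow_right l₂).inv_right.mul_right (hk₁a.zpow_right l₁)).mul_right (hE' _ hk₁a hk₁b)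
  have h7 : k₁ * k₂ = 1 := by
    refine eq_one_of_coprime (a := 2) (b := 5) (by norm_num) ?_ ?_
    · rw [pow_two, ← mul_assoc, ← h6.eq, ← mul_assoc, hk₁s, one_mul, hk₂s]
    · rw [h5, (((hE' _ hab.symm (Commute.refl _)).zpow_left l₂).inv_left.mul_left
        ((hE' _ (Commute.refl _) hab).zpow_left l₁)).mul_pow, (hab.symm.zpow_zpow l₂ l₁).inv_left.mul_pow, inv_pow,
        inv_pow, (hxw.zpow_zpow m n).mul_pow, h2.five, hσ'.five, hσ.five, hkw.five]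
      group
  have h8 : k₁ = 1 := c.pair'.cfaith k₁ (mem_centralizer_iff.2 fun y hy => (hk₁R y hy).eq.symm) fun g => by
    rw [eq_inv_of_mul_eq_one_left h7, show k₂ = (r₂ * β u ^ l₂)⁻¹ * β v by rw [hd₂]; group]
    exact ((hA (h2.mul l₂) g).inv_left.mul_left (c.ab g v).symm).inv_left.eq
  rw [h8, mul_one] at hd₁
  -- `α v` lies in `2A`, `τ v` does not
  have hv1 : v ≠ 1 := fun h => hne (by rw [h, one_mul, mul_one])
  have hvo : orderOf v = 2 := orderOf_eq_prime (by rw [pow_two, d.hv]) hv1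
  obtain ⟨v', h9, h10⟩ := hα v
  obtain ⟨g, hg⟩ := isConj_iff.1 (d.cls v' (by rw [← pow_two, ← hvo, ← h10, pow_orderOf_eq_one]) fun h => by
    rw [h, orderOf_one, hvo] at h10
    omega)
  have h11 := card_cent_dvd (f := θ.symm.toMonoidHom) θ.symm.injective (α v)
  rw [BpSpor.MBigModel.card_cent_t (hd₁ ▸ hσ'.ta), show θ.symm.toMonoidHom (α v) = τ v' by rw [h9]; simp,
    BpSpor.card_cent_of_conj (show τ g * τ v * (τ g)⁻¹ = τ v' by rw [← hg, map_mul, map_mul, map_inv]),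
    SP.Mon.NL.card_cent_b ((c.pair.orderOf_eq v).trans hvo) fun h =>
      hne (c.comm_of_cent_perf (Rf.sd ⟨h, hσ.ord, hinv τ⟩).mem_cent)] at h11
  exact absurd h11 (by norm_num)

/-- the class `5A`, `U` of order 60 or 25920 -/
theorem m_fiveA (c : Core τ α β R R') (hU : Nat.card U = 60 ∨ Nat.card U = 25920) {u : U} (hu : orderOf u = 5)
    (hx : IsConj (xu : MG) (τ u)) : False := by
  have := BpSpor.MBigModel.finite
  have : Fact (Nat.Prime 2) := ⟨Nat.prime_two⟩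
  obtain ⟨s, hs⟩ := exists_rf hx
  rcases hU with hU | hU
  · exact c.false_of_sixty hU hu hs.sd.mem_cent hs.inv
  obtain ⟨v, n, hn, hv⟩ := exists_inv c.simple c.noncomm hu (by rw [hU]; norm_num)
  obtain ⟨i, k, -, hk, hd, hkk⟩ := hs.exists_dec (t := τ v) (by rw [← map_inv, ← map_inv, ← map_mul, ← map_mul, hv])
  have hσ := (hs.mul i).sd.mem_cent
  have hk1 : k ≠ 1 := fun h => not_comm_of_inv hu hv (c.comm_of_cent_perf (by rwa [hd, h, mul_one]))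
  have hkR : k ∈ centralizer (R : Set MG) := by
    rw [show k = (s * τ u ^ i)⁻¹ * τ v by rw [hd]; group]
    exact mul_mem (inv_mem (centralizer_le (c.pair.le_perf_cent u) hσ)) (c.pair.tau_mem_cent v)
  have h1 : k ^ 2 ^ (n + 1) = 1 := by
    rw [pow_succ', pow_mul, pow_two, hkk, ← map_mul, ← map_pow, ← pow_two, ← pow_mul, mul_comm, pow_mul, hn, one_pow,
      map_one]
  obtain ⟨m, -, hm⟩ := (Nat.dvd_prime_pow Nat.prime_two).1 (orderOf_dvd_of_pow_eq_one h1)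
  have hm0 : m ≠ 0 := fun h => hk1 (orderOf_eq_one_iff.1 (by rw [hm, h, pow_zero]))
  have h2 : orderOf (k ^ (orderOf k / 2)) = 2 := orderOf_pow_orderOf_div (orderOf_pos k).ne' (hm ▸ dvd_pow_self 2 hm0)
  obtain ⟨t, -, h3, -, h4⟩ := TAB.M5.secA hx (hk.symm.pow_right (orderOf k / 2)) (by rw [h2]; norm_num)
  have h5 : Nat.card U ∣ 5 * t.cen := by
    rw [← h4]
    refine c.pair.card_dvd_R.trans (card_dvd_of_le fun y hy => mem_centralizer_singleton_iff.2 ?_)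
    exact ((show Commute y (τ u) from (c.pair.comm u y hy).symm).mul_right
      (mem_centralizer_iff.1 (pow_mem hkR _) y hy)).eq
  rw [hU] at h5
  exact (by decide +kernel : ∀ t : H651.HNF.Ty, 2 = t.ord → ¬ 25920 ∣ 5 * t.cen) t (h2.symm.trans h3) h5

end Cfsg.Agent.Cam.Spor
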