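import Cfsg.Agent.Cam.Spor.MBig
import Cfsg.Agent.Cam.Spor.MFiveA
import Cfsg.Agent.Cam.Spor.M5B

/-!
# S3689, S3690: the row M (helper95); `rank7_m` is in `MBig`
-/

set_option autoImplicit false

namespace Cfsg.Agent.Cam.Spor

open Cfsg Subgroup
open Cfsg.Agent.BpSpor.MBigModel (MG)
open Cfsg.Agent.H136.M23.BWords (xu)

theorem noCore_MG (big : Big) : NoCore MG := fun U _ _ τ α β R R' c => by
  have := BpSpor.MBigModel.finite
  have : Fact (Nat.Prime 5) := ⟨Nat.prime_five⟩
  obtain ⟨e⟩ := MonsterP.Equiv.equiv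
  obtain ⟨φ, hφ, hm⟩ := c.pair.copy
  rcases cand_m big ⟨e.symm⟩ c with h | h | h | h | h | h
  · exact m_thirteen big c h
  · exact m_eleven big c h
  · exact m_seven big c h
  · obtain ⟨u, v, a, b, r, a', b', r', d, d'⟩ := exists_a5Ext c.simple (Or.inl h)
    exact m_fiveA c (Or.inl h) d.hu (conj_xu c.simple c.noncomm d d' c.pair.inj hφ fun g k => c.pair.comm g _ (hm k))
  · obtain ⟨u₀, v, a, b, r, a', b', r', d, d'⟩ := exists_a5Ext c.simple (Or.inr h)
    have h1 := conj_xu c.simple c.noncomm d d' c.pair.inj hφ fun g k => c.pair.comm g _ (hm k)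
    obtain ⟨u, v, r, d₆⟩ := exists_a6Dat c.simple h
    refine m_sixA c h d₆ (isConj_xu ((c.pair.orderOf_eq u).trans d₆.hu) ?_)
    obtain ⟨g, l, hl⟩ := CpAutON.Gen.conj_into (p := 5) (by rw [h]; norm_num) d₆.hu d.hu
    have h3 : τ g * τ u * (τ g)⁻¹ = τ u₀ ^ l := by
      rw [← map_inv, ← map_mul, ← map_mul, ← map_zpow]; exact congrArg τ hl.symm
    rw [← BpSpor.card_cent_of_conj h3]
    refine Dvd.dvd.trans (by rw [TAB.M5.card_cent_conj h1, TAB.M5.card_cent_xu]; norm_num)
      (card_dvd_of_le (H := centralizer ({τ u₀} : Set MG)) fun y hy => ?_)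
    exact mem_centralizer_singleton_iff.2
      ((show Commute y (τ u₀) from mem_centralizer_singleton_iff.1 hy).zpow_right l).eq
  · obtain ⟨u, hu, -⟩ := Core.exists_orderOf (U := U) (r := 5) (by norm_num) (by rw [h]; norm_num)
    have hx : orderOf (τ u) = 5 := (c.pair.orderOf_eq u).trans hu
    have h1 := c.pair.order_mul_dvd' c.simple c.noncomm u
    rw [hu, h] at h1
    obtain ⟨t, ht, htx⟩ := SP.Mon.NL.exists_inv (Dvd.dvd.trans (by norm_num) h1)
    rcases H58.MonFiveB.five hx (H58.MonThirteen.ev_five hx ht htx.symm) with h2 | h2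
    · exact m_fiveA c (Or.inr h) hu (isConj_xu hx (by rw [h2]; norm_num))
    · exact absurd (h1.trans h2) (by norm_num)

theorem noCore_m {L : Type} [Group L] [Finite L] (big : Big) (h : Spor.IsoM L) : NoCore L := by
  obtain ⟨e1⟩ := h
  obtain ⟨e2⟩ := MonsterP.Equiv.equiv
  exact (noCore_MG big).of_equiv (e1.trans e2)

end Cfsg.Agent.Cam.Spor
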