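import Cfsg.Agent.Cam.Iface
import Cfsg.Agent.Cam.Spor.Tools

/-!
# S3689, S3690: a configuration gives a local configuration in the socle (helper67)

* `Core.map` : transport along isomorphisms; `NoCore.of_equiv`;
* `exists_core` : `Conf S H g` and `Rank7 S` give a `Core` in `S`;
* `row_of` : `Row P` from `Rank7` and `NoCore` for the groups of the family `P`.
-/

set_option autoImplicit false

namespace Cfsg.Agent.Cam.Spor

open Subgroup Cfsg.Agent.TwoFusion.PerfCore Cfsg.Agent.Cam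

/-! ### Transport -/

section transport
variable {L L' U : Type} [Group L] [Group L'] [Group U]

theorem map_centralizer_equiv (e : L ≃* L') (Y : Subgroup L) :
    (centralizer (Y : Set L)).map e.toMonoidHom = centralizer ((Y.map e.toMonoidHom : Subgroup L') : Set L') := by
  ext c
  constructor
  · rintro ⟨c, hc, rfl⟩
    rw [mem_centralizer_iff]
    rintro _ ⟨y, hy, rfl⟩
    rw [← map_mul, ← map_mul, mem_centralizer_iff.1 hc y hy]
  · intro hc
    refine ⟨e.symm c, mem_centralizer_iff.2 fun y hy => e.injective ?_, by simp⟩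
    have := mem_centralizer_iff.1 hc (e y) ⟨y, hy, rfl⟩
    simpa using this

theorem mem_map_equiv' (e : L ≃* L') {Y : Subgroup L} {y : L} : e y ∈ Y.map e.toMonoidHom ↔ y ∈ Y := by
  rw [mem_map_equiv]
  simp

theorem mem_normalizer_equiv (e : L ≃* L') {Y : Subgroup L} {y : L} :
    e y ∈ normalizer ((Y.map e.toMonoidHom : Subgroup L') : Set L') ↔ y ∈ normalizer (Y : Set L) := by
  rw [mem_normalizer_iff, mem_normalizer_iff]
  constructor
  · intro h a
    rw [← mem_map_equiv' e, h, ← map_inv, ← map_mul, ← map_mul, mem_map_equiv']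
  · intro h a
    obtain ⟨a, rfl⟩ := e.surjective a
    rw [← map_inv, ← map_mul, ← map_mul, mem_map_equiv', mem_map_equiv', h]

theorem range_comp_equiv (e : L ≃* L') (τ : U →* L) :
    (e.toMonoidHom.comp τ).range = τ.range.map e.toMonoidHom := MonoidHom.range_comp _ _

theorem Pair.map [Finite L] {τ : U →* L} {R : Subgroup L} (h : Pair τ R) (e : L ≃* L') :
    Pair (e.toMonoidHom.comp τ) (R.map e.toMonoidHom) where
  inj := e.injective.comp h.inj
  perfect := map_perfect h.perfect _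
  comm := by
    rintro u _ ⟨r, hr, rfl⟩
    simp only [MonoidHom.comp_apply]
    rw [← map_mul, ← map_mul, h.comm u r hr]
  copy := by
    obtain ⟨φ, h1, h2⟩ := h.copy
    exact ⟨e.toMonoidHom.comp φ, e.injective.comp h1, fun u => ⟨φ u, h2 u, rfl⟩⟩
  cnorm := by
    rw [← map_centralizer_equiv, range_comp_equiv]
    rintro _ ⟨c, hc, rfl⟩
    exact (mem_normalizer_equiv e).2 (h.cnorm hc)
  cfaith := by
    rw [← map_centralizer_equiv]
    rintro _ ⟨c, hc, rfl⟩ hu
    have : c = 1 := h.cfaith c hc fun u => e.injective (by simpa using hu u)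
    rw [this, map_one]
  rk := by
    rcases h.rk with h1 | ⟨φ₁, φ₂, h1, h2, h3, h4, h5⟩
    · left
      rw [range_comp_equiv, ← map_centralizer_equiv, ← map_perf, ← h1]
    · right
      refine ⟨e.toMonoidHom.comp φ₁, e.toMonoidHom.comp φ₂, e.injective.comp h1, e.injective.comp h2,
        fun u => ⟨_, h3 u, rfl⟩, fun u => ⟨_, h4 u, rfl⟩, fun u v => ?_⟩
      simp only [MonoidHom.comp_apply]
      rw [← map_mul, ← map_mul, h5]

theorem map_conj_equiv (e : L ≃* L') (θ : MulAut L) (Y : Subgroup L) :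
    (Y.map e.toMonoidHom).map ((e.symm.trans θ).trans e).toMonoidHom = (Y.map θ.toMonoidHom).map e.toMonoidHom := by
  rw [Subgroup.map_map, Subgroup.map_map]
  congr 1
  ext x
  simp

theorem Core.map [Finite L] {τ α β : U →* L} {R R' : Subgroup L} (h : Core τ α β R R') (e : L ≃* L') :
    Core (e.toMonoidHom.comp τ) (e.toMonoidHom.comp α) (e.toMonoidHom.comp β) (R.map e.toMonoidHom)
      (R'.map e.toMonoidHom) where
  simple := h.simple
  noncomm := h.noncomm
  pair := h.pair.map e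
  pair' := h.pair'.map e
  eq u := by
    simp only [MonoidHom.comp_apply]
    rw [h.eq, map_mul]
  bmem u := ⟨_, h.bmem u, rfl⟩
  anorm u hu := by
    rw [range_comp_equiv, ← Subgroup.map_sup] at hu
    exact h.anorm u ((mem_normalizer_equiv e).1 hu)
  aconj := by
    obtain ⟨θ, hθ⟩ := h.aconj
    refine ⟨(e.symm.trans θ).trans e, ?_⟩
    rw [range_comp_equiv, range_comp_equiv, map_conj_equiv, hθ]
  hconj := by
    obtain ⟨θ, hθ⟩ := h.hconj
    refine ⟨(e.symm.trans θ).trans e, ?_⟩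
    rw [range_comp_equiv, range_comp_equiv, ← Subgroup.map_sup, ← Subgroup.map_sup, map_conj_equiv, hθ]
  nrm a ha n hn hn' := by
    obtain ⟨a, rfl⟩ := e.surjective a
    obtain ⟨n, rfl⟩ := e.surjective n
    rw [range_comp_equiv, ← Subgroup.map_sup, mem_normalizer_equiv] at ha hn hn'
    rw [range_comp_equiv, ← Subgroup.map_sup, ← map_inv, ← map_mul, ← map_mul, mem_normalizer_equiv]
    exact h.nrm a ha n hn hn'
  max Y hY hθ := by
    obtain ⟨Y, rfl⟩ : ∃ Y' : Subgroup L, Y = Y'.map e.toMonoidHom :=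
      ⟨Y.comap e.toMonoidHom, (map_comap_eq_self_of_surjective e.surjective Y).symm⟩
    rw [range_comp_equiv, ← Subgroup.map_sup] at hθ ⊢
    have h1 := h.max Y (fun h' => hY (by rw [h']; exact map_top_of_surjective _ e.surjective)) fun θ hθ' => by
      have h2 := hθ ((e.symm.trans θ).trans e) (by rw [map_conj_equiv, hθ'])
      rw [map_conj_equiv] at h2
      exact map_injective e.injective h2
    rintro _ ⟨y, hy, rfl⟩
    exact (mem_normalizer_equiv e).2 (h1 hy)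

theorem NoCore.of_equiv [Finite L] (h : NoCore L') (e : L ≃* L') : NoCore L :=
  fun U _ _ _ _ _ _ _ hc => h U _ _ _ _ _ (hc.map e)

end transport

/-! ### The configuration in `G` -/

section conf
variable {G : Type} [Group G] {S H : Subgroup G} {g : G} {𝒯 : Set (Subgroup G)}

/-- the perfect core of `C_S(X)` -/
def KK (S : Subgroup G) (𝒯 : Set (Subgroup G)) : Subgroup G :=
  perf (centralizer ((sSup 𝒯 : Subgroup G) : Set G) ⊓ S)

/-- `K` and the components other than `T` -/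
def RR (S : Subgroup G) (𝒯 : Set (Subgroup G)) (T : Subgroup G) : Subgroup G := KK S 𝒯 ⊔ sSup (𝒯 \ {T})

theorem KK_le : KK S 𝒯 ≤ centralizer ((sSup 𝒯 : Subgroup G) : Set G) ⊓ S := perf_le _

theorem KK_comm {k x : G} (hk : k ∈ KK S 𝒯) (hx : x ∈ sSup 𝒯) : x * k = k * x :=
  mem_centralizer_iff.1 (KK_le hk).1 x hx

theorem KK_subset (T : Subgroup G) : (KK S 𝒯 : Set G) ⊆ RR S 𝒯 T := fun _ h => mem_sup_left h

theorem N0_le : N0 H g ≤ H := inf_le_left

theorem X_le_N0 (c : Cls S H g 𝒯) : sSup 𝒯 ≤ N0 H g := sSup_le c.le_N0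

theorem X_le_H (c : Cls S H g 𝒯) : sSup 𝒯 ≤ H := (X_le_N0 c).trans N0_le

theorem X_le_S (c : Cls S H g 𝒯) : sSup 𝒯 ≤ S := sSup_le c.le_S

theorem T_perfect (c : Cls S H g 𝒯) {T : Subgroup G} (hT : T ∈ 𝒯) : ⁅T, T⁆ = T :=
  perfect_of_simple (c.tsimple T hT) (c.tnoncomm T hT)

theorem T_ne_bot (c : Cls S H g 𝒯) {T : Subgroup G} (hT : T ∈ 𝒯) : T ≠ ⊥ := by
  have := c.tsimple T hT
  exact (nontrivial_iff_ne_bot T).1 inferInstance

theorem RR_le_S (c : Cls S H g 𝒯) (T : Subgroup G) : RR S 𝒯 T ≤ S :=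
  sup_le (KK_le.trans inf_le_right) (sSup_le fun A hA => c.le_S A hA.1)

theorem RR_perfect (c : Cls S H g 𝒯) (T : Subgroup G) : ⁅RR S 𝒯 T, RR S 𝒯 T⁆ = RR S 𝒯 T :=
  perfect_sup (perf_perfect _) (perfect_sSup fun _ hA => T_perfect c hA.1)

theorem RR_comm (c : Cls S H g 𝒯) {T : Subgroup G} (hT : T ∈ 𝒯) {t r : G} (ht : t ∈ T) (hr : r ∈ RR S 𝒯 T) :
    t * r = r * t := by
  have : RR S 𝒯 T ≤ centralizer ({t} : Set G) := by
    refine sup_le (fun k hk => ?_) (sSup_le fun A hA a ha => ?_)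
    · exact mem_centralizer_singleton_iff.2 (KK_comm hk (le_sSup hT ht)).symm
    · exact mem_centralizer_singleton_iff.2 (c.comm A hA.1 T hT hA.2 a ha t ht)
  exact (mem_centralizer_singleton_iff.1 (this hr)).symm

theorem sup_RR {T : Subgroup G} (hT : T ∈ 𝒯) : T ⊔ RR S 𝒯 T = sSup 𝒯 ⊔ KK S 𝒯 := by
  apply le_antisymm
  · exact sup_le ((le_sSup hT).trans le_sup_left)
      (sup_le le_sup_right ((sSup_le_sSup Set.sdiff_subset).trans le_sup_left))
  · refine sup_le (sSup_le fun A hA => ?_) (le_sup_left.trans le_sup_right)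
    by_cases h : A = T
    · rw [h]
      exact le_sup_left
    · exact (le_sSup (show A ∈ 𝒯 \ {T} from ⟨hA, h⟩)).trans (le_sup_right.trans le_sup_right)

theorem conj_mem_cj {Y : Subgroup G} {h y : G} (hy : y ∈ Y) : h * y * h⁻¹ ∈ cj h⁻¹ Y := by
  rw [mem_cj]
  simpa [mul_assoc] using hy

variable [Finite G]

theorem H_norm_X (c : Cls S H g 𝒯) : H ≤ normalizer ((sSup 𝒯 : Subgroup G) : Set G) := by
  intro h hh
  refine mem_normalizer_of fun y hy => ?_
  have : sSup 𝒯 ≤ cj h (sSup 𝒯) := sSup_le fun T hT t ht =>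
    mem_cj.2 (le_sSup (c.inv h⁻¹ (inv_mem hh) T hT) (conj_mem_cj ht))
  exact mem_cj.1 (this hy)

theorem norm_X (red : Red) (c : Cls S H g 𝒯) : normalizer ((sSup 𝒯 : Subgroup G) : Set G) = H := by
  obtain ⟨T, hT⟩ := c.nonempty
  refine red.norm G S H c.toSetup _ (fun h => T_ne_bot c hT (eq_bot_iff.2 (h ▸ le_sSup hT)))
    (fun h => c.not_le (h.trans (X_le_H c))) (H_norm_X c)

theorem C_le_H (red : Red) (c : Cls S H g 𝒯) : centralizer ((sSup 𝒯 : Subgroup G) : Set G) ≤ H :=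
  (centralizer_le_normalizer _).trans (norm_X red c).le

theorem K_le_H (red : Red) (c : Cls S H g 𝒯) : KK S 𝒯 ≤ H := (KK_le.trans inf_le_left).trans (C_le_H red c)

omit [Finite G] in
theorem H_norm_S (c : Cls S H g 𝒯) (h : G) : h ∈ normalizer (S : Set G) := by
  have := c.normal
  rw [normalizer_eq_top]
  exact mem_top h

theorem H_norm_K (c : Cls S H g 𝒯) : H ≤ normalizer ((KK S 𝒯 : Subgroup G) : Set G) := fun h hh =>
  normalizer_le_normalizer_perf _ (norm_inf (normalizer_le_normalizer_cent _ (H_norm_X c hh)) (H_norm_S c h))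

theorem copy_K (big : Big) (red : Red) (c : Cls S H g 𝒯) {T : Subgroup G} (hT : T ∈ 𝒯) :
    ∃ φ : T →* G, Function.Injective φ ∧ ∀ t, φ t ∈ KK S 𝒯 := by
  obtain ⟨φ, h1, h2⟩ := red.copy big G S H g 𝒯 c T hT
  refine ⟨φ, h1, fun t => ?_⟩
  have : φ.range ≤ KK S 𝒯 := le_perf (by rintro _ ⟨t, rfl⟩; exact ⟨(h2 t).2, (h2 t).1⟩)
    (range_perfect (c.tsimple T hT) (c.tnoncomm T hT) φ)
  exact this ⟨t, rfl⟩

theorem K_ne_bot (big : Big) (red : Red) (c : Cls S H g 𝒯) : KK S 𝒯 ≠ ⊥ := by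
  obtain ⟨T, hT⟩ := c.nonempty
  obtain ⟨φ, h1, h2⟩ := copy_K big red c hT
  have := c.tsimple T hT
  obtain ⟨t, ht⟩ := exists_ne (1 : T)
  intro h
  have h3 := h2 t
  rw [h, mem_bot] at h3
  exact ht (h1 (h3.trans (map_one φ).symm))

theorem norm_K (big : Big) (red : Red) (c : Cls S H g 𝒯) : normalizer ((KK S 𝒯 : Subgroup G) : Set G) = H :=
  red.norm G S H c.toSetup _ (K_ne_bot big red c) (fun h => c.not_le (h.trans (K_le_H red c))) (H_norm_K c)

theorem H_norm_XK (c : Cls S H g 𝒯) : H ≤ normalizer ((sSup 𝒯 ⊔ KK S 𝒯 : Subgroup G) : Set G) := fun _ hh =>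
  norm_sup (H_norm_X c hh) (H_norm_K c hh)

theorem norm_XK (big : Big) (red : Red) (c : Cls S H g 𝒯) :
    normalizer ((sSup 𝒯 ⊔ KK S 𝒯 : Subgroup G) : Set G) = H :=
  red.norm G S H c.toSetup _ (fun h => K_ne_bot big red c (eq_bot_iff.2 (h ▸ le_sup_right)))
    (fun h => c.not_le (h.trans (sup_le (X_le_H c) (K_le_H red c)))) (H_norm_XK c)

/-- a perfect subgroup of `X C(X)` inside `S` lies in `X K` -/
theorem le_XK (c : Cls S H g 𝒯) {P : Subgroup G} (hP : ⁅P, P⁆ = P) (hS : P ≤ S)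
    (hle : P ≤ sSup 𝒯 ⊔ centralizer ((sSup 𝒯 : Subgroup G) : Set G)) : P ≤ sSup 𝒯 ⊔ KK S 𝒯 := by
  refine le_sup_perf (fun x hx a ha => mem_centralizer_iff.1 ha.1 x hx) hP fun p hp => ?_
  obtain ⟨x, hx, a, ha, rfl⟩ := mem_sup_of_comm (fun x hx a ha => mem_centralizer_iff.1 ha x hx) (hle hp)
  refine mul_mem (mem_sup_left hx) (mem_sup_right ⟨ha, ?_⟩)
  have := mul_mem (inv_mem (X_le_S c hx)) (hS hp)
  simpa using this

omit [Finite G] in
theorem cj_perfect {Y : Subgroup G} (hY : ⁅Y, Y⁆ = Y) (a : G) : ⁅cj a Y, cj a Y⁆ = cj a Y := map_perfect hY _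

omit [Finite G] in
theorem cj_le_S (c : Cls S H g 𝒯) {Y : Subgroup G} (hY : Y ≤ S) (a : G) : cj a Y ≤ S := fun y hy => by
  have h1 := c.normal.conj_mem _ (hY (mem_cj.1 hy)) a⁻¹
  simpa [mul_assoc] using h1

/-- `C_S(X) ∩ C_S(K) = 1` -/
theorem cent_XK (red : Red) (c : Cls S H g 𝒯)
    (hle : cj g (sSup 𝒯) ≤ sSup 𝒯 ⊔ centralizer ((sSup 𝒯 : Subgroup G) : Set G)) :
    centralizer ((sSup 𝒯 : Subgroup G) : Set G) ⊓ S ⊓ centralizer ((KK S 𝒯 : Subgroup G) : Set G) = ⊥ := by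
  set Y := centralizer ((sSup 𝒯 : Subgroup G) : Set G) ⊓ S ⊓ centralizer ((KK S 𝒯 : Subgroup G) : Set G) with hY
  have hsol : Group.IsSolvable Y := by
    refine solvable_of_perf_eq_bot (eq_bot_of_perfect_comm (perf_perfect _) fun a ha b hb => ?_)
    have h1 : a ∈ KK S 𝒯 := perf_mono inf_le_left ha
    exact mem_centralizer_iff.1 (perf_le _ hb).2 a h1
  have hH : H ≤ normalizer (Y : Set G) := fun h hh =>
    norm_inf (norm_inf (normalizer_le_normalizer_cent _ (H_norm_X c hh)) (H_norm_S c h))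
      (normalizer_le_normalizer_cent _ (H_norm_K c hh))
  have hX' : cj g (sSup 𝒯) ≤ sSup 𝒯 ⊔ KK S 𝒯 :=
    le_XK c (cj_perfect (perfect_sSup fun _ hA => T_perfect c hA) g) (cj_le_S c (X_le_S c) g) hle
  have hY' : cj g⁻¹ Y ≤ N0 H g := by
    intro y hy
    rw [mem_cj, inv_inv] at hy
    refine mem_N0.2 ⟨C_le_H red c (mem_centralizer_iff.2 fun x hx => ?_), C_le_H red c hy.1.1⟩
    have h1 : g⁻¹ * x * g ∈ cj g (sSup 𝒯) := by
      rw [mem_cj]
      simpa [mul_assoc] using hx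
    obtain ⟨x', hx', k, hk, e⟩ := mem_sup_of_comm (fun x hx k hk => KK_comm hk hx) (hX' h1)
    have h2 := mem_centralizer_iff.1 hy.1.1 x' hx'
    have h3 := mem_centralizer_iff.1 hy.2 k hk
    have h4 : g⁻¹ * x * g * (g⁻¹ * y * g) = g⁻¹ * y * g * (g⁻¹ * x * g) := by
      rw [e, mul_assoc, h3, ← mul_assoc, h2, mul_assoc]
    calc x * y = g * (g⁻¹ * x * g * (g⁻¹ * y * g)) * g⁻¹ := by group
      _ = _ := by rw [h4]; group
  have h0 := red.solv G S H g c.toConf (cj g⁻¹ Y) hY' (fun n hn => mem_normalizer_of fun y hy => by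
      rw [mem_cj, inv_inv] at hy ⊢
      have h1 := conj_mem_of_norm (hH (mem_N0.1 hn).2) hy
      convert h1 using 1
      group)
    (Group.isSolvable_of_surjective (f := (MulAut.conj g⁻¹⁻¹).toMonoidHom.subgroupMap Y)
      (MonoidHom.subgroupMap_surjective _ _))
  exact (map_eq_bot_iff_of_injective _ (MulAut.conj g⁻¹⁻¹).injective).1 h0

theorem cent_RR_norm (big : Big) (red : Red) (c : Cls S H g 𝒯) {T : Subgroup G} (hT : T ∈ 𝒯) {d : G}
    (hd : d ∈ centralizer ((RR S 𝒯 T : Subgroup G) : Set G)) : d ∈ normalizer (T : Set G) := by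
  have hdH : d ∈ H := by
    rw [← norm_K big red c]
    exact centralizer_le_normalizer _ (centralizer_le (KK_subset T) hd)
  have h1 := c.inv d⁻¹ (inv_mem hdH) T hT
  refine mem_normalizer_of fun t ht => ?_
  by_cases h : cj d⁻¹ T = T
  · rw [← h]
    exact conj_mem_cj ht
  · have h2 : d * t * d⁻¹ ∈ RR S 𝒯 T :=
      mem_sup_right (le_sSup (show cj d⁻¹ T ∈ 𝒯 \ {T} from ⟨h1, h⟩) (conj_mem_cj ht))
    have h3 := mem_centralizer_iff.1 hd _ h2
    have h4 : d * t * d⁻¹ = t := by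
      have h5 : d * t = d * (d * t * d⁻¹) := by rw [← h3]; group
      exact (mul_left_cancel h5).symm
    rw [h4]
    exact ht

theorem cent_RR_faith (red : Red) (c : Cls S H g 𝒯)
    (hle : cj g (sSup 𝒯) ≤ sSup 𝒯 ⊔ centralizer ((sSup 𝒯 : Subgroup G) : Set G)) {T : Subgroup G} {d : G}
    (hdS : d ∈ S) (hd : d ∈ centralizer ((RR S 𝒯 T : Subgroup G) : Set G)) (hT : ∀ t ∈ T, d * t = t * d) : d = 1 := by
  rw [← mem_bot, ← cent_XK red c hle]
  refine ⟨⟨?_, hdS⟩, centralizer_le (KK_subset T) hd⟩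
  have : sSup 𝒯 ≤ centralizer ({d} : Set G) := sSup_le fun A hA a ha => by
    rw [mem_centralizer_singleton_iff]
    by_cases h : A = T
    · exact (hT a (h ▸ ha)).symm
    · exact mem_centralizer_iff.1 hd a (mem_sup_right (le_sSup (show A ∈ 𝒯 \ {T} from ⟨hA, h⟩) ha))
  exact mem_centralizer_iff.2 fun x hx => mem_centralizer_singleton_iff.1 (this hx)

/-- the pair `(T, R)` in `S` -/
theorem pair_of (big : Big) (red : Red) (c : Cls S H g 𝒯)
    (hle : cj g (sSup 𝒯) ≤ sSup 𝒯 ⊔ centralizer ((sSup 𝒯 : Subgroup G) : Set G)) {T : Subgroup G} (hT : T ∈ 𝒯)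
    {U : Type} [Group U] (τ : U →* S) (hinj : Function.Injective τ) (hr : τ.range = T.subgroupOf S) :
    Pair τ ((RR S 𝒯 T).subgroupOf S) := by
  have hτ : ∀ u, ((τ u : S) : G) ∈ T := fun u => by
    have : τ u ∈ τ.range := ⟨u, rfl⟩
    rwa [hr, mem_subgroupOf] at this
  have hcent : ∀ d : S, d ∈ centralizer (((RR S 𝒯 T).subgroupOf S : Subgroup S) : Set S) →
      (d : G) ∈ centralizer ((RR S 𝒯 T : Subgroup G) : Set G) := fun d hd =>
    mem_centralizer_iff.2 fun r hr' =>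
      congrArg Subtype.val (mem_centralizer_iff.1 hd ⟨r, RR_le_S c T hr'⟩ (mem_subgroupOf.2 hr'))
  obtain ⟨φ, h1, h2⟩ := copy_K big red c hT
  let ι : U →* T := (S.subtype.comp τ).codRestrict T hτ
  have hι : Function.Injective ι := fun a b h => hinj (Subtype.ext (show ((ι a : T) : G) = ι b from congrArg Subtype.val h))
  let φ' : U →* S := (φ.comp ι).codRestrict S fun u => (KK_le (h2 _)).2
  have hφ' : Function.Injective φ' := fun a b h => hι (h1 (congrArg Subtype.val h))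
  have hφK : ∀ u, ((φ' u : S) : G) ∈ KK S 𝒯 := fun u => h2 _
  refine ⟨hinj, ?_, ?_, ⟨φ', hφ', fun u => mem_subgroupOf.2 (mem_sup_left (hφK u))⟩, ?_, ?_, ?_⟩
  · apply map_injective S.subtype_injective
    rw [map_commutator, map_subgroupOf_eq_of_le (RR_le_S c T), RR_perfect c]
  · intro u r hr'
    exact Subtype.ext (RR_comm c hT (hτ u) (mem_subgroupOf.1 hr'))
  · intro d hd
    rw [hr, ← subgroupOf_normalizer_eq (c.le_S T hT), mem_subgroupOf]
    exact cent_RR_norm big red c hT (hcent d hd)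
  · intro d hd hu
    refine Subtype.ext (cent_RR_faith red c hle d.2 (hcent d hd) (T := T) fun t ht => ?_)
    have : (⟨t, c.le_S T hT ht⟩ : S) ∈ τ.range := by
      rw [hr, mem_subgroupOf]
      exact ht
    obtain ⟨u, hu'⟩ := this
    have h3 := congrArg Subtype.val (hu u)
    simpa [hu'] using h3
  · by_cases hk : ∃ T' ∈ 𝒯, T' ≠ T
    · right
      obtain ⟨T', hT', hne⟩ := hk
      obtain ⟨γ, hγ⟩ := c.conj T hT T' hT'
      have hm : ∀ u, (MulAut.conj γ⁻¹).toMonoidHom.comp (S.subtype.comp τ) u ∈ T' := fun u => by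
        rw [hγ]
        exact ⟨_, hτ u, rfl⟩
      let φ₂ : U →* S := ((MulAut.conj γ⁻¹).toMonoidHom.comp (S.subtype.comp τ)).codRestrict S
        fun u => c.le_S T' hT' (hm u)
      refine ⟨φ', φ₂, hφ', fun a b h => hinj (Subtype.ext ((MulAut.conj γ⁻¹).injective (congrArg Subtype.val h))),
        fun u => mem_subgroupOf.2 (mem_sup_left (hφK u)),
        fun u => mem_subgroupOf.2 (mem_sup_right (le_sSup (show T' ∈ 𝒯 \ {T} from ⟨hT', hne⟩) (hm u))),
        fun u v => Subtype.ext (KK_comm (hφK u) (le_sSup hT' (hm v))).symm⟩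
    · left
      push Not at hk
      have h3 : 𝒯 \ {T} = ∅ := Set.sdiff_eq_empty.2 fun A hA => hk A hA
      have h4 : sSup 𝒯 = T := le_antisymm (sSup_le fun A hA => (hk A hA).le) (le_sSup hT)
      apply map_injective S.subtype_injective
      rw [map_subgroupOf_eq_of_le (RR_le_S c T), map_perf, RR, h3, sSup_empty, sup_bot_eq, KK, h4, hr]
      congr 1
      ext d
      constructor
      · rintro ⟨hd, hdS⟩
        refine ⟨⟨d, hdS⟩, mem_centralizer_iff.2 fun t ht => Subtype.ext ?_, rfl⟩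
        exact mem_centralizer_iff.1 hd t (mem_subgroupOf.1 ht)
      · rintro ⟨d, hd, rfl⟩
        refine ⟨mem_centralizer_iff.2 fun t ht => ?_, d.2⟩
        exact congrArg Subtype.val (mem_centralizer_iff.1 hd ⟨t, c.le_S T hT ht⟩ (mem_subgroupOf.2 ht))

omit [Finite G] in
/-- no non-trivial element of `T₁` lies in `g⁻¹ H g` -/
theorem eq_one_of_mem (c : Cls S H g 𝒯) {T₁ T₂ : Subgroup G} (h₁ : T₁ ∈ 𝒯) (h₂ : T₂ ∈ 𝒯) {ψ : T₁ →* G}
    (hD : Diag T₁ ψ (cj g T₂)) {u : G} (hu : u ∈ T₁) (huH : g * u * g⁻¹ ∈ H) : u = 1 := by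
  have hs := c.tsimple T₁ h₁
  have hn := c.tnoncomm T₁ h₁
  -- the normalizer of `X' = g⁻¹ X g` in `T₁`
  have hδ : ∀ t : T₁, (t : G) * ψ t ∈ cj g T₂ := fun t => (hD.mem _).2 ⟨t, rfl⟩
  have hψ : ∀ (t : T₁) (a : G), a ∈ T₁ → (t : G) * ψ t * a * ((t : G) * ψ t)⁻¹ = t * a * (t : G)⁻¹ := by
    intro t a ha
    calc (t : G) * ψ t * a * ((t : G) * ψ t)⁻¹ = t * (ψ t * a) * (ψ t)⁻¹ * (t : G)⁻¹ := by group
      _ = t * (a * ψ t) * (ψ t)⁻¹ * (t : G)⁻¹ := by rw [hD.comm a ha t]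
      _ = _ := by group
  let N : Subgroup G := T₁ ⊓ cj g H
  have hN : N = ⊥ ∨ N = T₁ := eq_bot_or_eq hs inf_le_left fun t ht n hn' => by
    refine ⟨T₁.mul_mem (T₁.mul_mem ht hn'.1) (T₁.inv_mem ht), ?_⟩
    have h1 : t * ψ ⟨t, ht⟩ ∈ cj g H := mem_cj.2 (X_le_H c (le_sSup h₂ (mem_cj.1 (hδ ⟨t, ht⟩))))
    have h2 := (cj g H).mul_mem ((cj g H).mul_mem h1 hn'.2) ((cj g H).inv_mem h1)
    rwa [hψ ⟨t, ht⟩ n hn'.1] at h2
  rcases hN with hN | hN
  · rw [← mem_bot, ← hN]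
    exact ⟨hu, mem_cj.2 huH⟩
  exfalso
  -- `T₁ ≤ g⁻¹ H g` permutes the `g⁻¹ T g`
  have hle : ∀ t ∈ T₁, g * t * g⁻¹ ∈ H := fun t ht => mem_cj.1 ((hN ▸ ht : t ∈ N).2)
  have key : ∀ (a : T₁) (t : T₁), (a : G) * t * (a : G)⁻¹ * (t : G)⁻¹ = 1 ∨
      ∀ b : T₁, (a : G) * (b * ψ b) * (a : G)⁻¹ ∈ cj g T₂ := by
    intro a t
    have h1 := c.inv _ (inv_mem (hle a a.2)) T₂ h₂
    have hm : ∀ b : T₁, g * ((a : G) * (b * ψ b) * (a : G)⁻¹) * g⁻¹ ∈ cj (g * a * g⁻¹)⁻¹ T₂ := fun b => by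
      have h2 := conj_mem_cj (h := g * a * g⁻¹) (mem_cj.1 (hδ b))
      convert h2 using 1
      group
    by_cases h : cj (g * a * g⁻¹)⁻¹ T₂ = T₂
    · right
      intro b
      rw [mem_cj, ← h]
      exact hm b
    · left
      -- the two diagonals commute, so `T₁` is abelian
      exfalso
      apply hn
      refine ⟨⟨fun x y => ?_⟩⟩
      obtain ⟨x', rfl⟩ : ∃ x' : T₁, x = a * x' * a⁻¹ := ⟨a⁻¹ * x * a, by group⟩
      have h3 := c.comm _ h1 _ h₂ h _ (hm x') _ (mem_cj.1 (hδ y))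
      have h4 : (a : G) * (x' * ψ x') * (a : G)⁻¹ * (y * ψ y) = y * ψ y * (a * (x' * ψ x') * (a : G)⁻¹) := by
        calc _ = g⁻¹ * (g * ((a : G) * (x' * ψ x') * (a : G)⁻¹) * g⁻¹ * (g * (y * ψ y) * g⁻¹)) * g := by group
          _ = _ := by rw [h3]; group
      have h5 : (a : G) * (x' * ψ x') * (a : G)⁻¹ = (a * x' * (a : G)⁻¹) * ψ x' := by
        calc _ = a * x' * (ψ x' * (a : G)⁻¹) := by group
          _ = a * x' * ((a : G)⁻¹ * ψ x') := by rw [hD.comm _ (inv_mem a.2) x']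
          _ = _ := by group
      rw [h5] at h4
      set w : T₁ := a * x' * a⁻¹ with hw
      have hw' : (a : G) * x' * (a : G)⁻¹ = w := rfl
      rw [hw'] at h4
      -- `w y (y w)⁻¹` centralizes `T₁`
      have h6 : ((y : G) * w)⁻¹ * (w * y) = ψ y * ψ x' * (ψ x' * ψ y)⁻¹ := by
        have e1 : (w : G) * ψ x' * (y * ψ y) = w * y * (ψ x' * ψ y) := by
          calc _ = w * (ψ x' * y) * ψ y := by group
            _ = w * (y * ψ x') * ψ y := by rw [hD.comm _ y.2 x']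
            _ = _ := by group
        have e2 : (y : G) * ψ y * (w * ψ x') = y * w * (ψ y * ψ x') := by
          calc _ = y * (ψ y * w) * ψ x' := by group
            _ = y * (w * ψ y) * ψ x' := by rw [hD.comm _ w.2 y]
            _ = _ := by group
        rw [e1, e2] at h4
        calc ((y : G) * w)⁻¹ * (w * y) = ((y : G) * w)⁻¹ * (w * y * (ψ x' * ψ y)) * (ψ x' * ψ y)⁻¹ := by group
          _ = _ := by rw [h4]; group
      have h7 : (y * w)⁻¹ * (w * y) = 1 := eq_one_of_comm hs hn fun v => Subtype.ext (by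
        simp only [coe_mul, coe_inv]
        rw [h6, ← map_mul, ← map_mul, ← map_inv, ← map_mul]
        exact (hD.comm _ v.2 _).symm)
      calc w * y = (y * w) * ((y * w)⁻¹ * (w * y)) := by group
        _ = _ := by rw [h7, mul_one]
  -- so `T₁` normalizes the diagonal
  apply hn
  refine ⟨⟨fun a b => ?_⟩⟩
  rcases key a b with h | h
  · apply Subtype.ext
    simp only [coe_mul]
    calc (a : G) * b = (a * b * (a : G)⁻¹ * (b : G)⁻¹) * (b * a) := by group
      _ = _ := by rw [h, one_mul]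
  · obtain ⟨t, ht⟩ := (hD.mem _).1 (h b)
    have h5 : (a : G) * (b * ψ b) * (a : G)⁻¹ = (a * b * (a : G)⁻¹) * ψ b := by
      calc _ = a * b * (ψ b * (a : G)⁻¹) := by group
        _ = a * b * ((a : G)⁻¹ * ψ b) := by rw [hD.comm _ (inv_mem a.2) b]
        _ = _ := by group
    rw [h5] at ht
    have h6 : ((t⁻¹ * (a * b * a⁻¹) : T₁) : G) = ψ (t * b⁻¹) := by
      simp only [coe_mul, coe_inv, map_mul, map_inv]
      calc (t : G)⁻¹ * (a * b * (a : G)⁻¹) = (t : G)⁻¹ * (a * b * (a : G)⁻¹ * ψ b) * (ψ b)⁻¹ := by group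
        _ = _ := by rw [ht]; group
    have h7 : t⁻¹ * (a * b * a⁻¹) = 1 := eq_one_of_comm hs hn fun v => Subtype.ext (by
      rw [coe_mul, coe_mul _ v, h6]
      exact (hD.comm _ v.2 _).symm)
    rw [h7, coe_one, ← map_one ψ] at h6
    have h8 : t = b := by
      have := hD.inj h6
      calc t = t * b⁻¹ * b := by group
        _ = b := by rw [← this, one_mul]
    rw [h8] at h7
    calc a * b = b * (b⁻¹ * (a * b * a⁻¹)) * a := by group
      _ = _ := by rw [h7, mul_one]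

/-- **The local configuration.** -/
theorem exists_core (big : Big) (red : Red) (c : Conf S H g) (h7 : Rank7 S) : ¬ NoCore S := by
  intro hno
  obtain ⟨𝒯, c⟩ := red.cls big G S H g c
  obtain ⟨hle, -, T₁, h₁, T₂, h₂, ψ, hD, hψ⟩ := red.diag big G S H g 𝒯 c (red.rank big G S H g 𝒯 c h7)
  have hS := c.normal
  let θ : MulAut S := MulAut.conjNormal g
  have hθ : ∀ s : S, ((θ s : S) : G) = g * s * g⁻¹ := fun s => rfl
  let ι : T₁ →* S := inclusion (c.le_S T₁ h₁)
  let ψ' : T₁ →* S := ψ.codRestrict S fun t => (hψ t).2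
  have hc : ∀ a b : T₁, ι a * ψ' b = ψ' b * ι a := fun a b => Subtype.ext (hD.comm a a.2 b)
  let δ : T₁ →* S :=
    { toFun := fun t => ι t * ψ' t
      map_one' := by simp
      map_mul' := fun a b => by
        rw [map_mul, map_mul]
        calc ι a * ι b * (ψ' a * ψ' b) = ι a * (ι b * ψ' a) * ψ' b := by group
          _ = _ := by rw [hc b a]; group }
  have hδ : ∀ t : T₁, ((δ t : S) : G) = t * ψ t := fun t => rfl
  have hs := c.tsimple T₁ h₁
  have hn := c.tnoncomm T₁ h₁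
  have hδinj : Function.Injective δ := by
    rw [injective_iff_map_eq_one]
    intro t ht
    have h1 : (t : G) = ψ t⁻¹ := by
      rw [map_inv, eq_inv_iff_mul_eq_one, ← hδ, ht, coe_one]
    exact eq_one_of_comm hs hn fun v => Subtype.ext (by
      rw [coe_mul, coe_mul, h1]
      exact (hD.comm _ v.2 _).symm)
  have hτr : (θ.toMonoidHom.comp δ).range = T₂.subgroupOf S := by
    ext s
    rw [mem_subgroupOf]
    constructor
    · rintro ⟨t, rfl⟩
      exact mem_cj.1 ((hD.mem _).2 ⟨t, rfl⟩)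
    · intro hs'
      have h1 : g⁻¹ * s * g ∈ cj g T₂ := by
        rw [mem_cj]
        simpa [mul_assoc] using hs'
      obtain ⟨t, ht⟩ := (hD.mem _).1 h1
      refine ⟨t, Subtype.ext ?_⟩
      change g * (t * ψ t) * g⁻¹ = s
      rw [← ht]
      group
  have hιr : ι.range = T₁.subgroupOf S := inclusion_range _
  have p₂ := pair_of big red c hle h₂ (θ.toMonoidHom.comp δ) (θ.injective.comp hδinj) hτr
  have p₁ := (pair_of big red c hle h₁ ι (inclusion_injective _) hιr).map θ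
  have hXK : sSup 𝒯 ⊔ KK S 𝒯 ≤ S := sup_le (X_le_S c) (KK_le.trans inf_le_right)
  have hsup : (θ.toMonoidHom.comp δ).range ⊔ (RR S 𝒯 T₂).subgroupOf S = (sSup 𝒯 ⊔ KK S 𝒯).subgroupOf S := by
    rw [hτr, ← subgroupOf_sup (c.le_S T₂ h₂) (RR_le_S c T₂), sup_RR h₂]
  have hsup' : (θ.toMonoidHom.comp ι).range ⊔ ((RR S 𝒯 T₁).subgroupOf S).map θ.toMonoidHom =
      ((sSup 𝒯 ⊔ KK S 𝒯).subgroupOf S).map θ.toMonoidHom := by
    rw [range_comp_equiv, ← Subgroup.map_sup, hιr, ← subgroupOf_sup (c.le_S T₁ h₁) (RR_le_S c T₁), sup_RR h₁]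
  have hθn : ∀ s : S, s ∈ normalizer ((((sSup 𝒯 ⊔ KK S 𝒯).subgroupOf S).map θ.toMonoidHom : Subgroup S) : Set S) ↔
      g⁻¹ * s * g ∈ H := fun s => by
    obtain ⟨s, rfl⟩ := θ.surjective s
    rw [mem_normalizer_equiv, ← subgroupOf_normalizer_eq hXK, norm_XK big red c, mem_subgroupOf, hθ]
    apply iff_of_eq
    congr 1
    group
  refine hno T₁ (θ.toMonoidHom.comp δ) (θ.toMonoidHom.comp ι) (θ.toMonoidHom.comp ψ') _ _
    ⟨hs, hn, p₂, p₁, fun u => map_mul θ _ _, fun u => ⟨ψ' u, ?_, rfl⟩, fun u hu => ?_, ?_, ⟨θ, by rw [hsup, hsup']⟩,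
      fun a ha n hn hn' => ?_, fun Y hY hinv => ?_⟩
  · -- `ψ T₁ ≤ R₁`
    have h1 : ψ.range ≤ T₁ ⊔ RR S 𝒯 T₁ := by
      rw [sup_RR h₁]
      refine le_XK c (range_perfect hs hn ψ) (by rintro _ ⟨t, rfl⟩; exact (hψ t).2) ?_
      rintro _ ⟨t, rfl⟩
      have h2 : (t : G) * ψ t ∈ cj g (sSup 𝒯) :=
        mem_cj.2 (le_sSup h₂ (mem_cj.1 ((hD.mem _).2 ⟨t, rfl⟩)))
      have h3 := mul_mem (inv_mem (mem_sup_left (le_sSup h₁ t.2))) (hle h2)
      simpa using h3
    obtain ⟨t, ht, r, hr, e⟩ := mem_sup_of_comm (fun t ht r hr => RR_comm c h₁ ht hr) (h1 ⟨u, rfl⟩)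
    have h4 : t = 1 := eq_one_of_comm' hs hn ht fun v hv => by
      have h5 : t = ψ u * r⁻¹ := by rw [e]; group
      rw [h5, mul_assoc, ← RR_comm c h₁ hv (inv_mem hr), ← mul_assoc, ← hD.comm v hv u, mul_assoc]
    change ψ u ∈ RR S 𝒯 T₁
    rw [e, h4, one_mul]
    exact hr
  · rw [hsup, ← subgroupOf_normalizer_eq hXK, norm_XK big red c, mem_subgroupOf] at hu
    exact Subtype.ext (eq_one_of_mem c h₁ h₂ hD u.2 hu)
  · obtain ⟨γ, hγ⟩ := c.conj T₂ h₂ T₁ h₁
    refine ⟨MulAut.conjNormal (g * γ⁻¹), ?_⟩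
    rw [hτr, range_comp_equiv, hιr]
    ext s
    rw [mem_map_equiv, mem_map_equiv, mem_subgroupOf, mem_subgroupOf, hγ, mem_cj]
    apply iff_of_eq
    congr 1
    simp only [θ, MulAut.conjNormal_symm_apply]
    group
  · rw [hsup, ← subgroupOf_normalizer_eq hXK, norm_XK big red c, mem_subgroupOf] at ha hn
    rw [hsup', hθn] at hn' ⊢
    exact (mem_N0.1 (c.nrm a ha n (mem_N0.2 ⟨hn, hn'⟩))).2
  · rw [hsup] at hinv ⊢
    rw [← subgroupOf_normalizer_eq hXK, norm_XK big red c]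
    by_cases hb : Y = ⊥
    · rw [hb]
      exact bot_le
    have hH : H ≤ normalizer ((Y.map S.subtype : Subgroup G) : Set G) := by
      intro h hh
      have h1 := hinv (MulAut.conjNormal h) (by
        ext s
        rw [mem_map_equiv, mem_subgroupOf, mem_subgroupOf, MulAut.conjNormal_symm_apply]
        exact (mem_normalizer_iff''.1 (H_norm_XK c hh) s).symm)
      refine mem_normalizer_of ?_
      rintro _ ⟨y, hy, rfl⟩
      exact ⟨MulAut.conjNormal h y, h1 ▸ ⟨y, hy, rfl⟩, rfl⟩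
    have h2 := red.norm G S H c.toSetup _ (fun h => hb ((map_eq_bot_iff_of_injective _ S.subtype_injective).1 h))
      (fun h => hY (eq_top_iff.2 fun s _ => by
        obtain ⟨y, hy, e⟩ := h s.2
        rwa [← Subtype.ext e])) hH
    intro y hy
    rw [mem_subgroupOf, ← h2]
    exact le_normalizer ⟨y, hy, rfl⟩

end conf

/-- **A row from the local statement.** -/
theorem row_of (big : Big) (red : Red) {P : Fam}
    (h : ∀ (L : Type) [Group L] [Finite L], IsSimpleGroup L → P L → Rank7 L ∧ NoCore L) : Row P :=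
  fun _ _ _ S _ _ c hP => exists_core big red c (h S c.simple hP).1 (h S c.simple hP).2

end Cfsg.Agent.Cam.Spor
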