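import Cfsg.Agent.Cam.Spor.SzRee
import Cfsg.Agent.H58.Cop.Arith
import Cfsg.Agent.S0494
import Cfsg.Agent.OddCyclic.EmpFFAlt
import Cfsg.Agent.H291.RowsA

/-!
# S3689, S3690: elements of `T` normalizing `⟨τ u⟩` (helper67)
-/

set_option autoImplicit false

namespace Cfsg.Agent.Cam.Spor

open Cfsg Subgroup Cfsg.Agent.TwoFusion.PerfCore

variable {L U : Type} [Group L] [Group U] {τ α β : U →* L} {R R' : Subgroup L}

/-- Burnside: an element normalizing but not centralizing a Sylow subgroup of prime order -/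
theorem exists_norm [Finite U] (hs : IsSimpleGroup U) (hn : ¬ IsMulCommutative U) {u : U} {r : ℕ} (hr : r.Prime)
    (hu : orderOf u = r) (hsq : ¬ r ^ 2 ∣ Nat.card U) : ∃ v : U, v * u * v⁻¹ ∈ zpowers u ∧ v * u ≠ u * v := by
  have hne : Nat.card U ≠ r := fun h => by
    have : Fact r.Prime := ⟨hr⟩
    have : IsCyclic U := isCyclic_of_prime_card h
    exact hn IsCyclic.isMulCommutative
  obtain ⟨e, he, he1, hc, -⟩ := H58.Cop.arith hr hu hsq hne
  by_contra h
  have hle : normalizer ((zpowers u : Subgroup U) : Set U) ≤ centralizer ({u} : Set U) := fun v hv =>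
    mem_centralizer_singleton_iff.2 (by
      by_contra h1
      exact h ⟨v, conj_mem_of_norm hv (mem_zpowers u), h1⟩)
  have h1 := card_le_of_le hle
  have h2 : 0 < Nat.card (centralizer ({u} : Set U)) := Nat.card_pos
  have h3 : 0 < Nat.card (normalizer ((zpowers u : Subgroup U) : Set U)) := Nat.card_pos
  rw [hc] at h1 h3
  have h4 : e ≠ 0 := by rintro rfl; simp at h3
  have h5 : 2 ≤ e := by omega
  nlinarith

theorem conj_pow_odd {G : Type*} [Group G] {v u : G} (h : v * u * v⁻¹ = u⁻¹) {m : ℕ} (hm : Odd m) :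
    v ^ m * u * (v ^ m)⁻¹ = u⁻¹ := by
  obtain ⟨j, rfl⟩ := hm
  have h2 : v * u⁻¹ * v⁻¹ = u := by
    have := congrArg (·⁻¹) h
    simpa only [mul_inv_rev, inv_inv, mul_assoc] using this
  induction j with
  | zero => simpa using h
  | succ j ih =>
    calc v ^ (2 * (j + 1) + 1) * u * (v ^ (2 * (j + 1) + 1))⁻¹
        = v * (v * (v ^ (2 * j + 1) * u * (v ^ (2 * j + 1))⁻¹) * v⁻¹) * v⁻¹ := by group
      _ = _ := by rw [ih, h2, h]

/-- a 2-element inverting an element of order five -/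
theorem exists_inv [Finite U] (hs : IsSimpleGroup U) (hn : ¬ IsMulCommutative U) {u : U} (hu : orderOf u = 5)
    (hsq : ¬ 5 ^ 2 ∣ Nat.card U) : ∃ (v : U) (k : ℕ), v ^ 2 ^ k = 1 ∧ v * u * v⁻¹ = u⁻¹ := by
  obtain ⟨v, hv, hne⟩ := exists_norm hs hn (by norm_num) hu hsq
  have h5 : u ^ 5 = 1 := by rw [← hu]; exact pow_orderOf_eq_one u
  have h0 : ∃ w : U, w * u * w⁻¹ = u⁻¹ := by
    obtain ⟨j, hj⟩ := (mem_powers_iff_mem_zpowers).2 hv
    have hj' : v * u * v⁻¹ = u ^ (j % 5) := by rw [← hu, pow_mod_orderOf]; exact hj.symm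
    have hlt : j % 5 < 5 := Nat.mod_lt _ (by norm_num)
    have hsq2 : ∀ i : ℕ, v * u * v⁻¹ = u ^ i → v * v * u * (v * v)⁻¹ = u ^ (i * i) := fun i hi => by
      calc v * v * u * (v * v)⁻¹ = v * (v * u * v⁻¹) * v⁻¹ := by group
        _ = (v * u * v⁻¹) ^ i := by rw [conj_pow, hi]
        _ = _ := by rw [hi, ← pow_mul]
    have h4 : u ^ 4 = u⁻¹ := eq_inv_of_mul_eq_one_left (by rw [← pow_succ]; exact h5)
    generalize j % 5 = i at hj' hlt
    interval_cases i
    · exfalso
      rw [pow_zero] at hj'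
      have : u = 1 := by
        calc u = v⁻¹ * (v * u * v⁻¹) * v := by group
          _ = 1 := by rw [hj']; group
      rw [this, orderOf_one] at hu
      omega
    · exfalso
      apply hne
      calc v * u = v * u * v⁻¹ * v := by group
        _ = _ := by rw [hj', pow_one]
    · exact ⟨v * v, by rw [hsq2 2 hj', h4]⟩
    · refine ⟨v * v, ?_⟩
      rw [hsq2 3 hj', show 3 * 3 = 5 + 4 by rfl, pow_add, h5, one_mul, h4]
    · exact ⟨v, by rw [hj', h4]⟩
  obtain ⟨w, hw⟩ := h0
  obtain ⟨k, m, hm, hkm⟩ := Nat.exists_eq_two_pow_mul_odd (orderOf_pos w).ne'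
  refine ⟨w ^ m, k, ?_, conj_pow_odd hw hm⟩
  rw [← pow_mul, mul_comm, ← hkm, pow_orderOf_eq_one]

/-- the action of `C(R)` on `T` -/
theorem Pair.exists_act (p : Pair τ R) : ∃ a : centralizer (R : Set L) →* MulAut U, Function.Injective a ∧
    ∀ (c : centralizer (R : Set L)) (u : U), τ (a c u) = c * τ u * (c : L)⁻¹ := by
  let e := MonoidHom.ofInjective p.inj
  let a : centralizer (R : Set L) →* MulAut U :=
    (MulAut.congr e.symm).toMonoidHom.comp (τ.range.normalizerMonoidHom.comp (inclusion p.cnorm))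
  have ha : ∀ (c : centralizer (R : Set L)) (u : U), τ (a c u) = c * τ u * (c : L)⁻¹ := fun c u => by
    have h1 : ∀ y : τ.range, τ (e.symm y) = y := fun y => MonoidHom.apply_ofInjective_symm p.inj y
    exact h1 _
  refine ⟨a, ?_, ha⟩
  rw [injective_iff_map_eq_one]
  intro c hc
  refine Subtype.ext (p.cfaith c c.2 fun u => ?_)
  have := ha c u
  rw [hc, MulAut.one_apply] at this
  calc (c : L) * τ u = c * τ u * (c : L)⁻¹ * c := by group
    _ = _ := by rw [← this]

/-- the automorphisms fixing `u` are the conjugations by the powers of `u` -/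
def SelfAut (u : U) : Prop := ∀ θ : MulAut U, θ u = u → ∃ k : ℤ, ∀ w, θ w = u ^ k * w * (u ^ k)⁻¹

theorem Pair.mem_zpowers (p : Pair τ R) {u : U} (h : SelfAut u) {c : L} (hc : c ∈ centralizer (R : Set L))
    (hx : c * τ u = τ u * c) : c ∈ zpowers (τ u) := by
  obtain ⟨a, -, ha⟩ := p.exists_act
  obtain ⟨k, hk⟩ := h (a ⟨c, hc⟩) (p.inj (by rw [ha]; change c * τ u * c⁻¹ = τ u; rw [hx, mul_inv_cancel_right]))
  have h1 : (τ (u ^ k))⁻¹ * c = 1 := p.cfaith _ (mul_mem (inv_mem (p.tau_mem_cent _)) hc) fun w => by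
    have h2 := ha ⟨c, hc⟩ w
    rw [hk, map_mul, map_mul, map_inv] at h2
    change _ = c * τ w * c⁻¹ at h2
    calc (τ (u ^ k))⁻¹ * c * τ w = (τ (u ^ k))⁻¹ * (c * τ w * c⁻¹) * c := by group
      _ = _ := by rw [← h2]; group
  refine ⟨k, ?_⟩
  change τ u ^ k = c
  rw [← map_zpow, ← one_mul (τ (u ^ k)), ← h1]
  calc (τ (u ^ k))⁻¹ * c * τ (u ^ k) = (τ (u ^ k))⁻¹ * c * ((τ (u ^ k))⁻¹ * c)⁻¹ * ((τ (u ^ k))⁻¹ * c) * τ (u ^ k) := by
        group
    _ = c := by rw [h1]; simpa using inv_mul_eq_one.1 h1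

theorem selfAut_sixty [Finite U] (hs : IsSimpleGroup U) (h60 : Nat.card U = 60) {u : U} (hu : orderOf u = 5) :
    SelfAut u := by
  intro θ hθ
  obtain ⟨e⟩ := S0494.result h60
  obtain ⟨σ, hσ⟩ := OddCyclic.EmpFFAlt.exists_conj (MulAut.congr e θ)
  have ho : orderOf ((e u : alternatingGroup (Fin 5)) : Equiv.Perm (Fin 5)) = 5 := by
    rw [Subgroup.orderOf_coe, MulEquiv.orderOf_eq, hu]
  have hct : ((e u : alternatingGroup (Fin 5)) : Equiv.Perm (Fin 5)).cycleType = {5} := by
    have h1 := Equiv.Perm.isCycle_of_prime_order'' (α := Fin 5) (by rw [Fintype.card_fin]; norm_num)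
      (ho.trans (Fintype.card_fin 5).symm)
    rw [h1.cycleType, ← h1.orderOf, ho]
  have hcard := H291.RowsA.card_cent_cycle hct (Or.inl rfl)
  have hmem : σ ∈ centralizer ({((e u : alternatingGroup (Fin 5)) : Equiv.Perm (Fin 5))} : Set (Equiv.Perm (Fin 5))) := by
    refine mem_centralizer_singleton_iff.2 ?_
    have h1 := hσ (e u)
    have h2 : (MulAut.congr e θ) (e u) = e u := by simp [hθ]
    rw [h2] at h1
    calc σ * _ = σ * (e u : alternatingGroup (Fin 5)) * σ⁻¹ * σ := by group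
      _ = _ := by rw [← h1]
  have heq : zpowers ((e u : alternatingGroup (Fin 5)) : Equiv.Perm (Fin 5)) = centralizer {_} :=
    eq_of_le_of_card_ge ((zpowers_le).2 (mem_centralizer_singleton_iff.2 rfl)) (by rw [hcard, Nat.card_zpowers, ho])
  rw [← heq] at hmem
  obtain ⟨k, hk⟩ := hmem
  refine ⟨k, fun w => e.injective (Subtype.ext ?_)⟩
  have h1 := hσ (e w)
  have h2 : (MulAut.congr e θ) (e w) = e (θ w) := by simp
  rw [h2] at h1
  rw [h1, ← hk]
  simp

/-- (SP') `τ v` centralizes no overgroup of `R` normalized by `α u`, unless `v` commutes with `u` -/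
theorem Core.comm_of_cent [Finite L] (c : Core τ α β R R') {u v : U} {Y : Subgroup L} (hR : R ≤ Y)
    (hY : α u ∈ normalizer (Y : Set L)) (h : τ v ∈ centralizer (Y : Set L)) : v * u = u * v := by
  refine c.sp (centralizer_le_normalizer _ (centralizer_le hR ?_))
  have h1 := conj_mem_of_norm (normalizer_le_normalizer_cent Y hY) (inv_mem h)
  have := mul_mem h h1
  simpa only [mul_assoc] using this

theorem Core.comm_of_cent_perf [Finite L] (c : Core τ α β R R') {u v : U}
    (h : τ v ∈ centralizer (perf (centralizer ({τ u} : Set L)) : Set L)) : v * u = u * v :=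
  c.comm_of_cent (c.pair.le_perf_cent u) (normalizer_le_normalizer_perf _ (le_normalizer (c.alpha_mem_cent rfl))) h

/-- (SP) -/
theorem Core.comm_of_sp [Finite L] (c : Core τ α β R R') {u v : U} (h : SelfAut u) {s : L}
    (hs : s ∈ centralizer (perf (centralizer ({τ u} : Set L)) : Set L))
    (hx : s * τ u * s⁻¹ = τ v * τ u * (τ v)⁻¹) : v * u = u * v := by
  refine c.comm_of_cent_perf ?_
  have h1 : s⁻¹ * τ v ∈ zpowers (τ u) := by
    refine c.pair.mem_zpowers h (mul_mem (inv_mem (centralizer_le (c.pair.le_perf_cent u) hs)) (c.pair.tau_mem_cent v)) ?_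
    calc s⁻¹ * τ v * τ u = s⁻¹ * (τ v * τ u * (τ v)⁻¹) * τ v := by group
      _ = _ := by rw [← hx]; group
  have h2 : s⁻¹ * τ v ∈ centralizer (perf (centralizer ({τ u} : Set L)) : Set L) :=
    mem_centralizer_iff.2 fun y hy => zpowers_comm _ h1 y (perf_le _ hy)
  have := mul_mem hs h2
  rwa [mul_inv_cancel_left] at this

theorem not_comm_of_inv {u v : U} (hu : orderOf u = 5) (h : v * u * v⁻¹ = u⁻¹) : v * u ≠ u * v := fun h1 => by
  rw [h1, mul_inv_cancel_right] at h
  have h2 : u ^ 2 = 1 := by rw [pow_two]; nth_rewrite 1 [h]; exact inv_mul_cancel u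
  have h3 := orderOf_dvd_of_pow_eq_one h2
  rw [hu] at h3
  norm_num at h3

/-- (SP) for `A₅` -/
theorem Core.false_of_sixty [Finite L] [Finite U] (c : Core τ α β R R') (h60 : Nat.card U = 60) {u : U}
    (hu : orderOf u = 5) {s : L} (hs : s ∈ centralizer (perf (centralizer ({τ u} : Set L)) : Set L))
    (hx : s * τ u * s⁻¹ = (τ u)⁻¹) : False := by
  obtain ⟨v, -, -, hv⟩ := exists_inv c.simple c.noncomm hu (by rw [h60]; norm_num)
  refine not_comm_of_inv hu hv (c.comm_of_sp (selfAut_sixty c.simple h60 hu) hs ?_)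
  rw [hx, ← map_inv, ← map_inv, ← map_mul, ← map_mul, hv]

end Cfsg.Agent.Cam.Spor
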