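import Cfsg.Agent.Cam.Spor.RowB
import Cfsg.Agent.H315.RatB0.SzRee

/-!
# S3689, S3690: the boxes of the Suzuki groups, the small Ree groups and the Tits group (helper67)
-/

set_option autoImplicit false

namespace Cfsg.Agent.Cam.Spor

open Cfsg Subgroup

variable {L U : Type} [Group L] [Group U]

theorem not_solvable (hs : IsSimpleGroup U) (hn : ¬ IsMulCommutative U) : ¬ Group.IsSolvable U := fun h =>
  hn ⟨⟨IsSimpleGroup.comm_iff_isSolvable.2 h⟩⟩

/-- Burnside: a prime `p ≥ 5` divides the order -/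
theorem exists_prime_five [Finite U] (hs : IsSimpleGroup U) (hn : ¬ IsMulCommutative U) :
    ∃ p : ℕ, p.Prime ∧ 5 ≤ p ∧ p ∣ Nat.card U := by
  by_contra h
  refine not_solvable hs hn (BpNum.solvable_of_dvd (a := Nat.card U) (b := Nat.card U) Nat.prime_two Nat.prime_three ?_)
  rw [Nat.dvd_iff_prime_pow_dvd_dvd]
  intro p k hp hk
  rcases Nat.eq_zero_or_pos k with rfl | hk0
  · simp
  have h1 : p ∣ Nat.card U := (dvd_pow_self p hk0.ne').trans hk
  have h2 : k ≤ Nat.card U := ((Nat.lt_pow_self hp.one_lt).trans_le (Nat.le_of_dvd Nat.card_pos hk)).le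
  have h3 : p < 5 := by
    by_contra h4
    exact h ⟨p, hp, by omega, h1⟩
  have h5 := hp.two_le
  interval_cases p
  · exact (pow_dvd_pow 2 h2).mul_right _
  · exact (pow_dvd_pow 3 h2).mul_left _
  · exact absurd hp (by norm_num)

/-- two commuting copies of `U` give a non-cyclic `p`-subgroup -/
theorem false_of_cyclic [Finite L] [Finite U] (hs : IsSimpleGroup U) (hn : ¬ IsMulCommutative U) {φ ψ : U →* L}
    (hφ : Function.Injective φ) (hψ : Function.Injective ψ) (hc : ∀ u v, φ u * ψ v = ψ v * φ u) {p : ℕ} (hp : p.Prime)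
    (hd : p ∣ Nat.card U) (h : ∀ P : Subgroup L, IsPGroup p P → IsCyclic P) : False := by
  have : Fact p.Prime := ⟨hp⟩
  obtain ⟨u, hu, hu1⟩ := Core.exists_orderOf hp hd
  let f : zpowers u × zpowers u →* L := MonoidHom.noncommCoprod (φ.comp (zpowers u).subtype)
    (ψ.comp (zpowers u).subtype) fun a b => hc a b
  have hf : Function.Injective f := by
    rw [injective_iff_map_eq_one]
    rintro ⟨a, b⟩ hab
    have h1 : φ a * ψ b = 1 := hab
    have h2 : (a : U) = 1 := eq_one_of_comm hs hn fun v => hφ (by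
      rw [map_mul, map_mul, eq_inv_of_mul_eq_one_left h1]
      exact (Commute.inv_right (hc v b)).eq.symm)
    rw [h2, map_one, one_mul] at h1
    exact Prod.ext (Subtype.ext h2) (Subtype.ext (hψ (h1.trans (map_one ψ).symm)))
  have hcard : Nat.card (zpowers u × zpowers u) = p ^ 2 := by rw [Nat.card_prod, Nat.card_zpowers, hu, pow_two]
  have h1 : IsCyclic f.range := h _ (IsPGroup.of_card (n := 2) (by
    rw [← Nat.card_congr (MonoidHom.ofInjective hf).toEquiv, hcard]))
  have h2 : IsCyclic (zpowers u × zpowers u) :=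
    isCyclic_of_surjective (MonoidHom.ofInjective hf).symm (MonoidHom.ofInjective hf).symm.surjective
  have h3 := coprime_card_of_isCyclic_prod (zpowers u) (zpowers u)
  rw [Nat.card_zpowers, hu, Nat.coprime_self] at h3
  exact hp.one_lt.ne' h3

theorem row_of_cyclic [Finite L] (h : ∀ p : ℕ, p.Prime → 5 ≤ p → ∀ P : Subgroup L, IsPGroup p P → IsCyclic P) :
    Rank7 L ∧ NoCore L := by
  constructor
  · intro U _ _ hs hn f hf
    obtain ⟨p, hp, h5, hd⟩ := exists_prime_five hs hn
    refine false_of_cyclic hs hn (φ := f.comp (MonoidHom.mulSingle (fun _ => U) 0))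
      (ψ := f.comp (MonoidHom.mulSingle (fun _ => U) 1)) (hf.comp (Pi.mulSingle_injective (M := fun _ : Fin 8 => U) 0))
      (hf.comp (Pi.mulSingle_injective (M := fun _ : Fin 8 => U) 1)) (fun u v => ?_) hp hd (h p hp h5)
    change f (Pi.mulSingle 0 u) * f (Pi.mulSingle 1 v) = f (Pi.mulSingle 1 v) * f (Pi.mulSingle 0 u)
    rw [← map_mul, ← map_mul, (Pi.mulSingle_commute (f := fun _ : Fin 8 => U) (by decide : (0 : Fin 8) ≠ 1) u v).eq]
  · intro U _ _ τ α β R R' c
    obtain ⟨p, hp, h5, hd⟩ := exists_prime_five c.simple c.noncomm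
    exact false_of_cyclic c.simple c.noncomm c.pair'.inj c.binj c.ab hp hd (h p hp h5)

theorem boxSz : BoxSz := fun big red => row_of big red fun _ _ _ _ h => row_of_cyclic fun p hp h5 P hP =>
  have : Fact p.Prime := ⟨hp⟩
  OddRank.SzTits.isCyclic_of_isPGroup h (by omega) P hP

theorem boxRee : BoxRee := fun big red => row_of big red fun _ _ _ _ h => row_of_cyclic fun p hp h5 P hP =>
  have : Fact p.Prime := ⟨hp⟩
  H315.RatB0.isCyclic_ree h (by omega) P hP

theorem boxTits : BoxTits := fun big red => row_of big red fun _ _ _ _ h => ⟨rank7_tits big h, noCore_tits big h⟩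

end Cfsg.Agent.Cam.Spor
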