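import Cfsg.Agent.H235.Ore.He
import Cfsg.Agent.H300.Cls.Complete
import Cfsg.Agent.BpSpor.LocalCrit

/-!
# S3689, S3690: facts on the Held group for the row M (helper95)
-/

set_option autoImplicit false

namespace Cfsg.Agent.Cam.Spor

open Cfsg Subgroup Cfsg.Agent.H235.Ore.He

/-- the centralizer orders -/
def heC : List ℕ := [17, 17, 4030387200, 21, 21, 161280, 21504, 7560, 504, 672, 384, 128, 72, 24, 12, 12, 300, 16, 20,
  15, 56, 56, 14, 14, 28, 28, 1176, 1176, 1029, 98, 98, 21, 21]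

theorem he_cls : ∃ a b : Spor.He, ∀ g : Spor.He, ∃ i : Fin 33, IsConj ((L a b).getD i (1, 0)).1 g ∧
    orderOf g = (V.getD i (0, 0, 0)).1 ∧ Nat.card (centralizer ({g} : Set Spor.He)) = heC.getD i 0 := by
  obtain ⟨hfin, -⟩ := Cfsg.Agent.SporadicB.HeUpper.card_he_le
  obtain ⟨a, b, ha, hb, ha1, hb1, hab⟩ := H235.Ore.He.exists_pair
  have hc := L_cent (cent_mem ha ha1) (cent_mem hb hb1)
  have hd := L_nodup (ord_mem ha ha1) (ord_mem hb hb1) hab
  have hi := L_inv (ord_mem ha ha1) (ord_mem hb hb1) hab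
  have hlt : ∀ i : Fin 33, (i : ℕ) < (L a b).length := fun i => i.2
  have hn : ∀ i j : Fin 33, IsConj ((L a b)[(i : ℕ)]'(hlt i)).1 ((L a b)[(j : ℕ)]'(hlt j)).1 → i = j := by
    intro i j h
    have h1 : (i : ℕ) < ((L a b).map fun p => ConjClasses.mk p.1).length := by
      rw [List.length_map]
      exact hlt i
    have h2 : (j : ℕ) < ((L a b).map fun p => ConjClasses.mk p.1).length := by
      rw [List.length_map]
      exact hlt j
    have h3 := (hd.getElem_inj_iff (hi := h1) (hj := h2)).1 (by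
      rw [List.getElem_map, List.getElem_map]
      exact ConjClasses.mk_eq_mk_iff_isConj.2 h)
    exact Fin.ext h3
  have hcc : ∀ i : Fin 33, ((L a b)[(i : ℕ)]'(hlt i)).2 = heC.getD i 0 := by
    intro i
    have h1 : (i : ℕ) < ((L a b).map Prod.snd).length := by
      rw [List.length_map]
      exact hlt i
    rw [← show (L a b).map Prod.snd = heC from rfl, List.getD_eq_getElem _ _ h1, List.getElem_map]
  have hoo : ∀ i : Fin 33, orderOf ((L a b)[(i : ℕ)]'(hlt i)).1 = (V.getD i (0, 0, 0)).1 := by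
    intro i
    have h1 : (i : ℕ) < ((L a b).map fun p => inv a p.1).length := by
      rw [List.length_map]
      exact hlt i
    rw [← hi, List.getD_eq_getElem _ _ h1, List.getElem_map]
    rfl
  obtain ⟨h1, h2⟩ := Cfsg.Agent.H300.Cls.complete (fun i : Fin 33 => ((L a b)[(i : ℕ)]'(hlt i)).1)
    (fun i => heC.getD i 0) (fun i => by
      rw [← hcc i]
      exact hc _ (List.getElem_mem (hlt i))) hn (by
      rw [Cfsg.Agent.KFacts.He.Classes.card_he]
      decide +kernel)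
  refine ⟨a, b, fun g => ?_⟩
  obtain ⟨i, hgi⟩ := h1 g
  refine ⟨i, by rwa [List.getD_eq_getElem _ _ (hlt i)], by rw [← hoo i, ord_conj hgi], ?_⟩
  obtain ⟨k, hk⟩ := isConj_iff.1 hgi
  rw [BpSpor.card_cent_of_conj hk]
  refine H300.Cls.card_cent ?_ (h2 i)
  rw [Cfsg.Agent.KFacts.He.Classes.card_he]
  exact (by decide +kernel : ∀ i : Fin 33, heC.getD i 0 ∣ 4030387200) i

theorem he_not_nine (g : Spor.He) : orderOf g ≠ 9 ∧ orderOf g ≠ 25 := by
  obtain ⟨a, b, h⟩ := he_cls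
  obtain ⟨i, -, h1, -⟩ := h g
  rw [h1]
  exact (by decide +kernel : ∀ i : Fin 33, (V.getD i (0, 0, 0)).1 ≠ 9 ∧ (V.getD i (0, 0, 0)).1 ≠ 25) i

theorem he_three {g : Spor.He} (hg : g ≠ 1) {j : ℕ} (hj : g ^ 3 ^ j = 1) :
    Nat.card (centralizer ({g} : Set Spor.He)) ∣ 7560 := by
  obtain ⟨a, b, h⟩ := he_cls
  obtain ⟨i, -, h1, h2⟩ := h g
  obtain ⟨k, -, hk⟩ := (Nat.dvd_prime_pow Nat.prime_three).1 (orderOf_dvd_of_pow_eq_one hj)
  rw [h2]
  refine (by decide +kernel : ∀ i : Fin 33, (V.getD i (0, 0, 0)).1 ≠ 1 → ¬ 2 ∣ (V.getD i (0, 0, 0)).1 →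
    ¬ 5 ∣ (V.getD i (0, 0, 0)).1 → ¬ 7 ∣ (V.getD i (0, 0, 0)).1 → ¬ 17 ∣ (V.getD i (0, 0, 0)).1 →
    heC.getD i 0 ∣ 7560) i (by rw [← h1, Ne, orderOf_eq_one_iff]; exact hg) ?_ ?_ ?_ ?_
  all_goals
    rw [← h1, hk]
    exact fun h3 => absurd (Nat.Prime.dvd_of_dvd_pow (by norm_num) h3) (by norm_num)

/-- the real elements of order seven -/
theorem he_real {g : Spor.He} (hg : orderOf g = 7) (hr : IsConj g g⁻¹) :
    Nat.card (centralizer ({g} : Set Spor.He)) = 1029 := by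
  obtain ⟨a, b, h⟩ := he_cls
  obtain ⟨i, h0, h1, h2⟩ := h g
  have h3 : ∀ y : Spor.He, IsConj y g → J 7 y = J 7 y⁻¹ := fun y hy => by
    obtain ⟨k, rfl⟩ := isConj_iff.1 hy
    refine J_conj 7 (hy.trans (hr.trans (isConj_iff.2 ⟨k⁻¹, by group⟩)))
  have h4 := h3 _ h0
  rcases (by decide +kernel : ∀ i : Fin 33, 7 = (V.getD i (0, 0, 0)).1 → i = 26 ∨ i = 27 ∨ i = 28 ∨ i = 29 ∨ i = 30) i
    (hg.symm.trans h1) with rfl | rfl | rfl | rfl | rfl
  · exact absurd (j7A.symm.trans (h4.trans j7A')) (by norm_num)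
  · exact absurd (j7A'.symm.trans (h4.trans ((congrArg (J 7) (inv_inv _)).trans j7A))) (by norm_num)
  · exact h2
  · exact absurd (j7D.symm.trans (h4.trans j7D')) (by norm_num)
  · exact absurd (j7D'.symm.trans (h4.trans ((congrArg (J 7) (inv_inv _)).trans j7D))) (by norm_num)

end Cfsg.Agent.Cam.Spor
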