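import Cfsg.Agent.Cam.Spor.MGen
import Cfsg.Agent.Cam.Spor.MHe
import Cfsg.Agent.Cam.Spor.RowC
import Cfsg.Agent.SP.Mon.NL.Cent
import Cfsg.Agent.H461.RM.M
import Cfsg.Agent.H609.Inv.MEleven
import Cfsg.Agent.H435.S8.MTwelveOut
import Cfsg.Agent.H362.IsoGroup
import Cfsg.Agent.H363.PSL2Spec
import Cfsg.Agent.H71.Tor.JTwo
import Cfsg.Agent.S2075
import Cfsg.Agent.S2061
import Cfsg.Agent.MonsterP.Equiv

/-!
# S3689, S3690: the row M, the primes 13, 11, 7 and `Rank7` (helper95)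
-/

set_option autoImplicit false

namespace Cfsg.Agent.Cam.Spor

open Cfsg Subgroup Cfsg.Agent.TwoFusion.PerfCore
open Cfsg.Agent.BpSpor.MBigModel (MG zz pi card_M orderOf_zz)
open Cfsg.Agent.LThreeMB (XX fr)

variable {U : Type} [Group U] [Finite U] {τ α β : U →* MG} {R R' : Subgroup MG}

theorem m_thirteen (big : Big) (c : Core τ α β R R') (h : 13 ∣ Nat.card U) : False := by
  have := BpSpor.MBigModel.finite
  obtain ⟨u, hu, -⟩ := Core.exists_orderOf (U := U) (r := 13) (by norm_num) h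
  have h1 := SP.Mon.NL.cent_exact big.cf (p := 13) (by norm_num) (by norm_num) ((c.pair.orderOf_eq u).trans hu)
  simp only [List.mem_cons, Prod.mk.injEq, List.not_mem_nil, or_false] at h1
  have h2 : Nat.card (centralizer ({τ u} : Set MG)) = 13 * 5616 ∨ Nat.card (centralizer ({τ u} : Set MG)) = 13 * 4056 := by
    omega
  rcases h2 with h2 | h2
  · exact c.false_of_num big (by norm_num) hu (l := [(2, 4), (3, 3), (13, 1)]) (N := 5616) (by decide +kernel) h2.dvd
      (m := 5616) (by decide +kernel) (by decide +kernel) (ex := []) (by decide +kernel) (by simp)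
  · have h3 := card_mem big c.simple c.noncomm (l := [(2, 3), (3, 1), (13, 2)]) (N := 4056) (by decide +kernel)
      (c.card_dvd_of (by norm_num) hu h2.dvd)
    rw [show ords [(2, 3), (3, 1), (13, 2)] 4056 = [] by decide +kernel] at h3
    exact List.not_mem_nil h3

theorem not_comm_of_card {X : Type} [Group X] (hs : IsSimpleGroup X) (h : ¬ (Nat.card X).Prime) :
    ¬ IsMulCommutative X := fun h1 => by
  let _ : CommGroup X := { (inferInstance : Group X) with mul_comm := h1.is_comm.comm }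
  exact h IsSimpleGroup.prime_card

theorem m_eleven (big : Big) (c : Core τ α β R R') (h : 11 ∣ Nat.card U) : False := by
  have := BpSpor.MBigModel.finite
  have := c.simple
  obtain ⟨u, hu, hu1⟩ := Core.exists_orderOf (U := U) (r := 11) (by norm_num) h
  have hx : orderOf (τ u) = 11 := (c.pair.orderOf_eq u).trans hu
  obtain ⟨x, -, -, hx0, -, -, -, -, ⟨e⟩⟩ := H609.Inv.Eleven.exists_data
  obtain ⟨w, -, -, hall⟩ := H461.RM.Mon.exists_class
  obtain ⟨g, hg⟩ := isConj_iff.1 ((hall _ hx).symm.trans (hall _ hx0))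
  obtain ⟨-, ⟨e'⟩⟩ := LThreeMB.exists_XX_equiv hg
  have hs : IsSimpleGroup Spor.M12 := Schreier.MTwelve.isSimpleGroup
  have hc : Nat.card Spor.M12 = 95040 := NotCT.Orders.m12 ⟨MulEquiv.refl _⟩
  have : Finite Spor.M12 := Nat.finite_of_card_ne_zero (by rw [hc]; norm_num)
  obtain ⟨f, hf, -⟩ := qs_of_XX (e'.trans e) hs (not_comm_of_card hs (by rw [hc]; norm_num))
  obtain ⟨ρ₀, hρ₀⟩ := c.exists_rho hf
  have hU := card_mem big c.simple c.noncomm (l := [(2, 6), (3, 3), (5, 1), (11, 1)]) (N := 95040) (by decide +kernel)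
    (hc ▸ card_dvd_of_injective ρ₀ hρ₀)
  have hcent : ∀ ρ : U →* Spor.M12, Function.Injective ρ → Nat.card (centralizer ({ρ u} : Set Spor.M12)) = 11 :=
    fun ρ hρ => H435.S8.MTwelve.card_cent ⟨hs, hc⟩ (by rw [orderOf_injective ρ hρ, hu])
  rcases (by decide +kernel : ∀ o ∈ ords [(2, 6), (3, 3), (5, 1), (11, 1)] 95040, 11 ∣ o →
    o = 95040 ∨ (o = 660 ∨ o = 7920)) _ hU h with h1 | h1
  · exact c.false_of_qs hu1 hf (by omega)
  obtain ⟨n, hn, hn1, h2, -, h3⟩ := H58.Cop.arith (by norm_num) hu (by rcases h1 with h1 | h1 <;> rw [h1] <;> norm_num)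
    (by omega)
  have h4 := card_cent_dvd hρ₀ u
  rw [hcent ρ₀ hρ₀] at h4
  have h5 : 5 ∣ n := (by decide +kernel : ∀ o ∈ [660, 7920], ∀ a ∈ Nat.divisors 11, ∀ n ∈ Nat.divisors (11 - 1),
    n ≠ 1 → o / (a * n) % 11 = 1 % 11 → 5 ∣ n) _ (by simpa using h1) _ (Nat.mem_divisors.2 ⟨h4, by norm_num⟩) _
    (Nat.mem_divisors.2 ⟨hn, by norm_num⟩) hn1 h3
  obtain ⟨v, hv, hne, j, hj⟩ := exists_qelt (cent_le_norm u) Nat.prime_five h2 h5
  obtain ⟨k, ρ, hρ, hk1, hk, hkρ, -⟩ := c.exists_inner hv hne hf hj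
    (by rw [S2061.result]; exact Nat.Coprime.pow_left _ (by norm_num))
  have h6 := congrArg Subtype.val (pow_card_eq_one'
    (x := (⟨f k, mem_centralizer_singleton_iff.2 (hkρ u).symm⟩ : centralizer ({ρ u} : Set Spor.M12))))
  rw [hcent ρ hρ] at h6
  apply hk1
  rw [← pow_one (f k), ← show Nat.gcd (5 ^ j) 11 = 1 from Nat.Coprime.pow_left _ (by norm_num), pow_gcd_eq_one]
  exact ⟨hk, h6⟩

/-- the class 7B -/
theorem m_sevenB (big : Big) (c : Core τ α β R R') {u : U} (hu : orderOf u = 7) {x : centralizer ({zz} : Set MG)}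
    (hx : τ u = x) (hfr : fr (pi x) = 1) (hd : Nat.card (centralizer ({τ u} : Set MG)) ∣ 7 ^ 5 * 5040) : False := by
  have := BpSpor.MBigModel.finite
  have := c.simple
  have hU := card_mem big c.simple c.noncomm (l := [(2, 4), (3, 2), (5, 1), (7, 5)]) (N := 7 * (7 ^ 4 * 720))
    (by decide +kernel) (c.card_dvd_of (by norm_num) hu (hd.trans (by norm_num)))
  have h1 := (by decide +kernel : ∀ o ∈ ords [(2, 4), (3, 2), (5, 1), (7, 5)] (7 * (7 ^ 4 * 720)), 4 ∣ o ∧ ¬ 16 ∣ o) _ hU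
  obtain ⟨a, b, ha, hb, hne, hab⟩ := H362.IsoGroup.exists_four c.noncomm h1.1 h1.2
  obtain ⟨φ, hφ, hm⟩ := c.pair.copy
  have hx7 : x ^ 7 = 1 := Subtype.ext (by
    rw [coe_pow, ← hx, ← map_pow, ← hu, pow_orderOf_eq_one, map_one]; rfl)
  let ψ : U →* centralizer ({(x : MG)} : Set MG) := φ.codRestrict _ fun w => hx ▸ c.pair.le_cent u (hm w)
  have hψ : Function.Injective ψ := fun a b h => hφ (congrArg Subtype.val h)
  refine hne (hψ (eq_of_isolated (z := LThreeMB.zD x) ?_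
    (BpRankZero.Seven.only_zD MonsterX.KDone.lft LThreeB.Row.cent hx7 hfr) (by rw [orderOf_injective ψ hψ, ha])
    (by rw [orderOf_injective ψ hψ, hb]) (by rw [← map_mul, ← map_mul, hab.eq])))
  rw [← Subgroup.orderOf_coe]
  exact orderOf_zz

/-- the class 7A -/
theorem m_sevenA (big : Big) (c : Core τ α β R R') {u : U} (hu : orderOf u = 7) (e : XX (τ u) ≃* Spor.He) : False := by
  have := BpSpor.MBigModel.finite
  have := c.simple
  have hu1 : u ≠ 1 := by
    rintro rfl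
    rw [orderOf_one] at hu
    omega
  have h7 : 7 ∣ Nat.card U := hu ▸ orderOf_dvd_natCard u
  have hs : IsSimpleGroup Spor.He := S1695.result.1
  have hc : Nat.card Spor.He = 4030387200 := S1695.result.2
  have : Finite Spor.He := Nat.finite_of_card_ne_zero (by rw [hc]; norm_num)
  obtain ⟨f, hf, hfk⟩ := qs_of_XX e hs (not_comm_of_card hs (by rw [hc]; norm_num))
  obtain ⟨ρ₀, hρ₀⟩ := c.exists_rho hf
  obtain ⟨g, hg, hreal, hU⟩ := OrdDiv.exists_good OrdDiv.table (big.cf U) (fun h => c.noncomm ⟨⟨h⟩⟩)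
    (l := [(2, 10), (3, 3), (5, 2), (7, 3), (17, 1)]) (N := 4030387200) (by decide +kernel)
    (hc ▸ card_dvd_of_injective ρ₀ hρ₀)
  have hpsl : ∀ q, g = .psl 2 q → (q + 1) / Nat.gcd 2 (q - 1) ≠ 9 ∧ (q + 1) / Nat.gcd 2 (q - 1) ≠ 25 := by
    rintro q rfl
    obtain ⟨F, _, _, hF, ⟨e1⟩⟩ := hreal
    obtain ⟨y, hy⟩ := H363.PSL2Spec.exists_nonsplit hF
    rw [← hy, ← e1.symm.orderOf_eq, ← orderOf_injective ρ₀ hρ₀]
    exact he_not_nine _
  rcases (by decide +kernel : ∀ g ∈ OrdDiv.cands [(2, 10), (3, 3), (5, 2), (7, 3), (17, 1)] 4030387200,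
    7 ∣ OrdDiv.ordN g → g = .psl 2 8 ∨ g = .psl 2 49 ∨ OrdDiv.ordN g = 4030387200 ∨
      (OrdDiv.ordN g ∈ [168, 2520, 6048, 20160, 604800] ∧ (OrdDiv.ordN g = 604800 → g = .j2))) g hg (hU ▸ h7)
    with h1 | h1 | h1 | ⟨h1, hJ⟩
  · exact (hpsl 8 h1).1 (by norm_num)
  · exact (hpsl 49 h1).2 (by norm_num)
  · exact c.false_of_qs hu1 hf (by omega)
  rw [← hU] at h1 hJ
  have h49 : ¬ 7 ^ 2 ∣ Nat.card U := (by decide +kernel : ∀ o ∈ [168, 2520, 6048, 20160, 604800], ¬ 7 ^ 2 ∣ o) _ h1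
  obtain ⟨n, hn, hn1, h2, -, h3⟩ := H58.Cop.arith (by norm_num) hu h49 (by
    intro h4
    rw [h4] at h1
    norm_num at h1)
  by_cases h4 : 3 ∣ n
  · obtain ⟨v, hv, hne, j, hj⟩ := exists_qelt (cent_le_norm u) Nat.prime_three h2 h4
    have hco : (3 ^ j).Coprime 7 := Nat.Coprime.pow_left _ (by norm_num)
    obtain ⟨k, ρ, hρ, hk1, hk, hkρ, hkR⟩ := c.exists_inner hv hne hf hj
      (by rw [S2075.result]; exact Nat.Coprime.pow_left _ (by norm_num))
    have h5 : Nat.card U ∣ 7560 := (card_dvd_of_injective (ρ.codRestrict _ fun a =>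
      mem_centralizer_singleton_iff.2 (hkρ a)) fun a b h => hρ (congrArg Subtype.val h)).trans (he_three hk1 hk)
    obtain ⟨a, ha, ha'⟩ := c.pair.exists_act
    have h6 : ((k : MG) ^ 7) ^ 3 ^ j = 1 := by
      obtain ⟨i, hi⟩ := hfk (k ^ 3 ^ j) (by rw [map_pow, hk])
      have hi' : τ u ^ i = (k : MG) ^ 3 ^ j := hi
      rw [← pow_mul, mul_comm, pow_mul, ← hi', ← zpow_natCast, ← zpow_mul, mul_comm, zpow_mul, zpow_natCast, ← map_pow,
        ← hu, pow_orderOf_eq_one, map_one, one_zpow]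
    have h8 : a ⟨k ^ 7, pow_mem hkR 7⟩ ^ 3 ^ j = 1 := by
      rw [← map_pow, show (⟨k ^ 7, pow_mem hkR 7⟩ : centralizer (R : Set MG)) ^ 3 ^ j = 1 from Subtype.ext h6, map_one]
    have h9 : a ⟨k ^ 7, pow_mem hkR 7⟩ u = u := c.pair.inj (by
      rw [ha']
      have : Commute (k : MG) (τ u) := mem_centralizer_singleton_iff.1 (perf_le _ k.2)
      change (k : MG) ^ 7 * τ u * ((k : MG) ^ 7)⁻¹ = τ u
      rw [(this.pow_left 7).eq, mul_inv_cancel_right])
    have h10 : a ⟨k ^ 7, pow_mem hkR 7⟩ = 1 := by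
      rcases (by decide +kernel : ∀ o ∈ [168, 2520, 6048, 20160, 604800], o ∣ 7560 → o = 168 ∨ o = 2520) _ h1 h5
        with h11 | h11
      · exact aut_168m c.simple h11 h8 hco hu h9
      · exact aut_seven c.simple h11 h8 hco hu h9
    have h12 : (k : MG) ^ 7 = 1 := congrArg Subtype.val (ha (h10.trans (map_one a).symm))
    have h11 : k ^ 7 = 1 := Subtype.ext h12
    apply hk1
    rw [← pow_one (f k), ← show Nat.gcd (3 ^ j) 7 = 1 from hco, pow_gcd_eq_one]
    exact ⟨hk, by rw [← map_pow, h11, map_one]⟩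
  · obtain rfl : n = 2 := (by decide +kernel : ∀ n ∈ Nat.divisors (7 - 1), n ≠ 1 → ¬ 3 ∣ n → n = 2) n
      (Nat.mem_divisors.2 ⟨hn, by norm_num⟩) hn1 h4
    obtain ⟨v, hv, hne, -⟩ := exists_qelt (cent_le_norm u) Nat.prime_two h2 dvd_rfl
    have h5 : ((centralizer ({u} : Set U)).subgroupOf (normalizer ((zpowers u : Subgroup U) : Set U))).index = 2 := by
      have h6 := card_mul_index ((centralizer ({u} : Set U)).subgroupOf (normalizer ((zpowers u : Subgroup U) : Set U)))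
      rw [Nat.card_congr (subgroupOfEquivOfLe (cent_le_norm u)).toEquiv, h2] at h6
      exact Nat.eq_of_mul_eq_mul_left Nat.card_pos h6
    have h6 : v * v * u = u * (v * v) :=
      mem_centralizer_singleton_iff.1 (mem_subgroupOf.1 (mul_self_mem_of_index_two h5 ⟨v, hv⟩))
    obtain ⟨i, hi⟩ := (mem_powers_iff_mem_zpowers).2 (conj_mem_of_norm hv (mem_zpowers u))
    have hi' : v * u * v⁻¹ = u ^ (i % 7) := by rw [← hu, pow_mod_orderOf]; exact hi.symm
    have h8 : u ^ (i % 7 * (i % 7)) = u ^ 1 := by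
      rw [pow_mul, ← hi', conj_pow, ← hi', pow_one]
      calc v * (v * u * v⁻¹) * v⁻¹ = v * v * u * (v * v)⁻¹ := by group
        _ = u := by rw [h6, mul_inv_cancel_right]
    rw [pow_eq_pow_iff_modEq, hu] at h8
    have h9 : v * u * v⁻¹ = u⁻¹ := by
      rcases (by decide : ∀ m < 7, m * m ≡ 1 [MOD 7] → m = 1 ∨ m = 6) _ (Nat.mod_lt _ (by norm_num)) h8 with h9 | h9
      · refine absurd (mem_centralizer_singleton_iff.2 ?_) hne
        calc v * u = v * u * v⁻¹ * v := by group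
          _ = _ := by rw [hi', h9, pow_one]
      · rw [hi', h9]
        exact eq_inv_of_mul_eq_one_left (by rw [← pow_succ]; exact orderOf_dvd_iff_pow_eq_one.1 hu.dvd)
    have h10 := card_cent_dvd hρ₀ u
    rw [he_real (by rw [orderOf_injective ρ₀ hρ₀, hu])
      (isConj_iff.2 ⟨ρ₀ v, by rw [← map_inv, ← map_inv, ← map_mul, ← map_mul, h9]⟩)] at h10
    have h11 := (by decide +kernel : ∀ o ∈ [168, 2520, 6048, 20160, 604800], ∀ a ∈ Nat.divisors 1029, a ∣ o →
      o / (a * 2) % 7 = 1 % 7 → o = 604800 ∧ a = 21) _ h1 _ (Nat.mem_divisors.2 ⟨h10, by norm_num⟩)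
      (card_subgroup_dvd_card _) h3
    obtain rfl := hJ h11.1
    obtain ⟨e1⟩ := hreal
    have h12 := card_cent_dvd (f := e1.toMonoidHom) e1.injective u
    rw [H71.Tor.card_cent_j2_seven (by rw [orderOf_injective e1.toMonoidHom e1.injective, hu]), h11.2] at h12
    norm_num at h12

theorem two_dvd_card (c : Core τ α β R R') : 2 ∣ Nat.card U :=
  even_iff_two_dvd.1 (Nat.not_odd_iff_even.1 fun h => not_solvable c.simple c.noncomm (S0205.result h))

theorem m_seven (big : Big) (c : Core τ α β R R') (h : 7 ∣ Nat.card U) : False := by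
  have := BpSpor.MBigModel.finite
  obtain ⟨u, hu, -⟩ := Core.exists_orderOf (U := U) (r := 7) (by norm_num) h
  have hx : orderOf (τ u) = 7 := (c.pair.orderOf_eq u).trans hu
  have he := MSevenT.hex7 _ hx (((two_dvd_card c).mul_left _).trans (c.pair.order_mul_dvd' c.simple c.noncomm u))
  obtain ⟨g, hg⟩ := he
  have h1 : (g⁻¹ * τ u * g) * zz = zz * (g⁻¹ * τ u * g) := by
    calc (g⁻¹ * τ u * g) * zz = g⁻¹ * (τ u * (g * zz * g⁻¹)) * g := by group
      _ = g⁻¹ * ((g * zz * g⁻¹) * τ u) * g := by rw [hg]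
      _ = zz * (g⁻¹ * τ u * g) := by group
  obtain ⟨τ, α, β, R, R', c, h2⟩ := c.exists_conj (u := u) (x := g⁻¹ * τ u * g) (isConj_iff.2 ⟨g, by group⟩)
  obtain ⟨x, hx'⟩ : ∃ x : centralizer ({zz} : Set MG), τ u = x := ⟨⟨_, mem_centralizer_singleton_iff.2 h1⟩, h2⟩
  have hx : orderOf (τ u) = 7 := (c.pair.orderOf_eq u).trans hu
  have hxo : orderOf x = 7 := by rw [← Subgroup.orderOf_coe, ← hx', hx]
  rcases H537.TC.cases7 hx ⟨1, by rw [hx', one_mul, inv_one, mul_one]; exact (mem_centralizer_singleton_iff.1 x.2).symm⟩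
    with ⟨y, -, ⟨k, hk⟩, ⟨e⟩, -⟩ | h3
  · obtain ⟨-, ⟨e'⟩⟩ := LThreeMB.exists_XX_equiv hk
    exact m_sevenA big c hu (e'.trans e)
  rcases CpAutMSeven.Ranks.hranks (pi x) (MFive.orderOf_pi BpSpor.MBigModel.chart (by norm_num) (by decide) hxo)
    with h4 | h4
  · exact m_sevenB big c hu hx' h4 h3.dvd
  · obtain ⟨e⟩ := CpAutMSeven.ZeroComps.heSix x hxo h4
    exact m_sevenA big c hu (hx' ▸ e)

theorem rank7_m {L : Type} [Group L] (big : Big) (h : Spor.IsoM L) : Rank7 L := by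
  intro U _ _ hs hn f hf
  have := BpSpor.MBigModel.finite
  obtain ⟨e1⟩ := h
  obtain ⟨e2⟩ := MonsterP.Equiv.equiv
  let F : (Fin 8 → U) →* MG := (e1.trans e2).toMonoidHom.comp f
  have hF : Function.Injective F := (e1.trans e2).injective.comp hf
  have h1 := card_dvd_of_injective F hF
  rw [Nat.card_fun, Nat.card_fin, card_M] at h1
  have h2 := card_mem big hs hn (l := root [(2, 46), (3, 20), (5, 9), (7, 6), (11, 2), (13, 3), (17, 1), (19, 1), (23, 1),
    (29, 1), (31, 1), (41, 1), (47, 1), (59, 1), (71, 1)] 8) (N := 1440) (by decide +kernel)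
    (dvd_root (l := [(2, 46), (3, 20), (5, 9), (7, 6), (11, 2), (13, 3), (17, 1), (19, 1), (23, 1),
      (29, 1), (31, 1), (41, 1), (47, 1), (59, 1), (71, 1)]) (by decide +kernel) (by norm_num) h1)
  have h3 : 30 ∣ Nat.card U := (by decide +kernel : ∀ o ∈ ords (root [(2, 46), (3, 20), (5, 9), (7, 6), (11, 2), (13, 3),
    (17, 1), (19, 1), (23, 1), (29, 1), (31, 1), (41, 1), (47, 1), (59, 1), (71, 1)] 8) 1440, 30 ∣ o) _ h2
  obtain ⟨u, hu, -⟩ := Core.exists_orderOf (U := U) (r := 5) (by norm_num) (Dvd.dvd.trans (by norm_num) h3)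
  let i : (Fin 7 → U) →* (Fin 8 → U) :=
    { toFun := fun g => Fin.cons 1 g
      map_one' := by ext j; refine Fin.cases rfl (fun j => rfl) j
      map_mul' := fun a b => by ext j; refine Fin.cases (one_mul 1).symm (fun j => rfl) j }
  have hi : Function.Injective i := fun a b h => funext fun j => congrFun h j.succ
  have hx : orderOf (F (Pi.mulSingle 0 u)) = 5 := by
    rw [orderOf_injective F hF, ← hu]
    exact orderOf_injective (MonoidHom.mulSingle (fun _ : Fin 8 => U) 0) (fun a b h => by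
      simpa using congrFun h 0) u
  have h4 : Nat.card (Fin 7 → U) ∣ Nat.card (centralizer ({F (Pi.mulSingle 0 u)} : Set MG)) := by
    refine card_dvd_of_injective ((F.comp i).codRestrict _ fun a => mem_centralizer_singleton_iff.2 ?_)
      fun a b h => hi (hF (congrArg Subtype.val h))
    rw [MonoidHom.comp_apply, ← map_mul, ← map_mul]
    congr 1
    ext j
    refine Fin.cases ((one_mul _).trans (mul_one _).symm) (fun j => ?_) j
    rw [Pi.mul_apply, Pi.mul_apply, Pi.mulSingle_eq_of_ne (Fin.succ_ne_zero j), one_mul, mul_one]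
  rw [Nat.card_fun, Nat.card_fin] at h4
  have h5 := (pow_dvd_pow_of_dvd h3 7).trans h4
  obtain ⟨n, hn1, hn2⟩ := SP.Mon.NL.cent_E big.cf Nat.prime_five (by norm_num) hx
    (Or.inr (Dvd.dvd.trans (by norm_num) h5))
  exact (by decide +kernel : ∀ p ∈ SP.Mon.NL.tabE, p.1 = 5 → ¬ 30 ^ 7 ∣ p.2) _ hn1 rfl (h5.trans hn2)

end Cfsg.Agent.Cam.Spor
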