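import Cfsg.Agent.Cam.Spor.SD
import Cfsg.Agent.H812.CoFiveMain
import Cfsg.Agent.CoFiveC.Row
import Cfsg.Agent.H898.WkCo1
import Cfsg.Agent.H393.Iso.J23
import Cfsg.Agent.BpSpor.CoTwoFive
import Cfsg.Agent.H868.Ore.CoOne

/-!
# S3689, S3690: the row Co1 (helper67)
-/

set_option autoImplicit false

namespace Cfsg.Agent.Cam.Spor

open Cfsg Subgroup Cfsg.Agent.TwoFusion.PerfCore

section gen
variable {G : Type} [Group G]

theorem card_mul_dvd_sup {A B : Subgroup G} (hc : ∀ a ∈ A, ∀ b ∈ B, a * b = b * a) (h : ∀ a ∈ A, a ∈ B → a = 1) :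
    Nat.card A * Nat.card B ∣ Nat.card (A ⊔ B : Subgroup G) := by
  rw [← Nat.card_prod]
  refine card_dvd_of_injective (MonoidHom.noncommCoprod (inclusion (le_sup_left : A ≤ A ⊔ B))
    (inclusion (le_sup_right : B ≤ A ⊔ B)) fun a b => Subtype.ext (hc a a.2 b b.2)) ?_
  rw [injective_iff_map_eq_one]
  rintro ⟨a, b⟩ h1
  have h2 : (a : G) * b = 1 := congrArg Subtype.val h1
  have h3 : (a : G) = 1 := h a a.2 (by rw [eq_inv_of_mul_eq_one_left h2]; exact inv_mem b.2)
  rw [h3, one_mul] at h2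
  exact Prod.ext (Subtype.ext h3) (Subtype.ext h2)

theorem card_dvd_of_prod {U A B : Type} [Group U] [Group A] [Group B] (hs : IsSimpleGroup U) {f : U →* A × B}
    (hf : Function.Injective f) : Nat.card U ∣ Nat.card A ∨ Nat.card U ∣ Nat.card B := by
  rcases hs.eq_bot_or_eq_top_of_normal ((MonoidHom.fst A B).comp f).ker inferInstance with h | h
  · exact Or.inl (card_dvd_of_injective _ ((MonoidHom.ker_eq_bot_iff _).1 h))
  · refine Or.inr (card_dvd_of_injective ((MonoidHom.snd A B).comp f) ?_)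
    rw [injective_iff_map_eq_one]
    intro u hu
    exact hf (by rw [map_one]; exact Prod.ext (MonoidHom.mem_ker.1 (h ▸ mem_top u)) hu)

theorem eq_one_of_coprime {g : G} {a b : ℕ} (h : a.Coprime b) (ha : g ^ a = 1) (hb : g ^ b = 1) : g = 1 := by
  rw [← pow_one g, ← show Nat.gcd a b = 1 from h, pow_gcd_eq_one]
  exact ⟨ha, hb⟩

end gen

section fiveA
open Cfsg.Agent.H812 Cfsg.Agent.H812.CoFiveData Cfsg.Agent.H812.CoFiveJ Cfsg.Agent.H812.CoFiveA
open Cfsg.Agent.H812.CoFiveMain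

theorem co1_sdA : ∃ s, SD p1 s J := by
  have := finite_co1
  obtain ⟨e⟩ := A_equiv
  have hs : IsSimpleGroup A := by
    have : IsSimpleGroup (alternatingGroup (Fin 5)) :=
      alternatingGroup.isSimpleGroup (by rw [Nat.card_eq_fintype_card, Fintype.card_fin])
    exact e.isSimpleGroup
  have hn : ¬ IsMulCommutative A := fun h => by
    let _ : CommGroup A := { (inferInstance : Group A) with mul_comm := h.is_comm.comm }
    have h3 : (Nat.card A).Prime := IsSimpleGroup.prime_card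
    rw [card_A] at h3
    norm_num at h3
  obtain ⟨v, k, hk, hv⟩ := exists_inv hs hn (u := ⟨p1, p1_A⟩) (by rw [← Subgroup.orderOf_coe]; exact order_p1)
    (by rw [card_A]; norm_num)
  have h1 : (v : Spor.Co1) * p1 * (v : Spor.Co1)⁻¹ = p1⁻¹ := congrArg Subtype.val hv
  refine ⟨v, fun c hc => split (mem_centralizer_singleton_iff.2 hc), J_le_C1, ?_, h1, fun k hk => mem_A.1 v.2 k hk⟩
  obtain ⟨i, j, hj, h2⟩ := split (c := v * v) (mem_centralizer_singleton_iff.2 (by
    calc (v : Spor.Co1) * v * p1 = v * (v * p1 * (v : Spor.Co1)⁻¹) * v := by group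
      _ = v * p1⁻¹ * v := by rw [h1]
      _ = (v * p1 * (v : Spor.Co1)⁻¹)⁻¹ * (v * v) := by group
      _ = _ := by rw [h1, inv_inv]))
  have h3 : j = 1 := inf_eq hj (by
    have := mul_mem (inv_mem (A.zpow_mem p1_A i)) (mul_mem v.2 v.2)
    rwa [h2, inv_mul_cancel_left] at this)
  rw [h3, mul_one] at h2
  refine eq_one_of_coprime (a := 2 ^ k) (b := 5) (Nat.Coprime.pow_left _ (by norm_num)) ?_ ?_
  · have h4 : (v : Spor.Co1) ^ 2 ^ k = 1 := congrArg Subtype.val hk
    rw [← pow_two, ← pow_mul, mul_comm, pow_mul, h4, one_pow]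
  · rw [h2, ← zpow_natCast, ← zpow_mul, mul_comm, zpow_mul, zpow_natCast, pow_five.1, one_zpow]

theorem co1_fiveA {U : Type} [Group U] [Finite U] {τ α β : U →* Spor.Co1} {R R' : Subgroup Spor.Co1}
    (c : Core τ α β R R') (hU : Nat.card U = 60 ∨ Nat.card U = 360 ∨ Nat.card U = 25920) {u : U} (hu : orderOf u = 5)
    (hv : Nat.card U = 360 → ∃ v, v * v = 1 ∧ v * u * v⁻¹ = u⁻¹) (hx : τ u = p1) : False := by
  have := finite_co1
  obtain ⟨s, d⟩ := co1_sdA
  rw [← hx] at d
  rcases hU with hU | hU | hU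
  · exact c.false_of_sixty hU hu d.mem_cent d.inv
  · obtain ⟨v, hv, hvu⟩ := hv hU
    obtain ⟨hR, k, hk, hk2, hkR, -⟩ := c.exists_k d hv hvu (not_comm_of_inv hu hvu)
    obtain ⟨φ, hφ, hm⟩ := c.pair.copy
    have h1 : Nat.card U ∣ Nat.card (centralizer ({⟨k, hk⟩} : Set J)) :=
      card_dvd_of_injective ((φ.codRestrict J fun a => hR (hm a)).codRestrict _ fun a =>
        mem_centralizer_singleton_iff.2 (Subtype.ext (hkR _ (hm a)).symm))
        fun a b h => hφ (congrArg Subtype.val (congrArg Subtype.val h))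
    rw [hU] at h1
    rcases H393.Iso.j2_card isoJ2_J (s := ⟨k, hk⟩) (by rw [← Subgroup.orderOf_coe]; exact hk2) with h | h <;>
      rw [h] at h1 <;> norm_num at h1
  · have h1 := c.pair.card_dvd_R.trans (card_dvd_of_le (d.perfect_le c.pair.perfect (c.pair.le_cent u)))
    rw [hU, NotCT.Orders.j2 isoJ2_J] at h1
    norm_num at h1

end fiveA

section fiveB
open Cfsg.Agent.SporadicStructure.Co0Matrix Cfsg.Agent.CoOneType.CoEval
open Cfsg.Agent.MFiveHN Cfsg.Agent.MFiveHN.Cent

/-- an involution of `M24` inverting `pi5` -/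
def co1S : List (List ℤ) := (List.range 24).map fun i => (List.range 24).map fun j =>
  if [0, 13, 3, 2, 11, 8, 6, 7, 5, 19, 15, 4, 23, 1, 14, 10, 16, 22, 18, 9, 20, 21, 17, 12].getD i 0 = j then 8 else 0

theorem co1S_ok : Ok co1S co1S := Ok.of_bool (by decide +kernel)

/-- the letters -/
def co1M (i : ℕ) : List (List ℤ) := if i = 8 then co1S else Mat.M i

/-- the letters -/
def co1e (i : ℕ) : Co0 := if i = 8 then mk co1S_ok else Mat.e i

theorem co1_rep (i : ℕ) : Rep (co1e i) (co1M i) := by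
  unfold co1e co1M
  split
  · exact rep_mk co1S_ok
  · exact Mat.rep i

/-- the involution -/
def co1s : Spor.Co1 := pr (co1e 8)

theorem co1s_sq : co1s * co1s = 1 := by
  have h := eq_one_of_relB co1_rep (w := [8, 8]) (by decide +kernel)
  simp only [List.map_cons, List.map_nil, List.prod_cons, List.prod_nil, mul_one] at h
  exact h

theorem co1s_comm {i j : ℕ} {g : Spor.Co1} (hi : pr (co1e i) = g) (hj : pr (co1e j) = g⁻¹)
    (h : relB co1M [i, 8, j, 8] = true) : g * co1s = co1s * g := by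
  have h1 := eq_one_of_relB co1_rep h
  simp only [List.map_cons, List.map_nil, List.prod_cons, List.prod_nil, mul_one, hi, hj] at h1
  refine comm_of ?_
  rw [inv_eq_of_mul_eq_one_left co1s_sq]
  exact h1

theorem co1s_inv : co1s * xx * co1s⁻¹ = xx⁻¹ := by
  have h1 := eq_one_of_relB co1_rep (w := [8, 3, 8, 3]) (by decide +kernel)
  simp only [List.map_cons, List.map_nil, List.prod_cons, List.prod_nil, mul_one] at h1
  have h2 : pr (co1e 3) = xx := e3
  rw [h2] at h1
  rw [inv_eq_of_mul_eq_one_left co1s_sq, eq_inv_iff_mul_eq_one, mul_assoc, mul_assoc]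
  exact h1

theorem co1s_AA : AA ≤ centralizer ({co1s} : Set Spor.Co1) := by
  rw [AA, Lib.AltCarmichael.gen_def, closure_le]
  rintro _ ⟨i, -, rfl⟩
  have h1 : gg ∈ centralizer ({co1s} : Set Spor.Co1) :=
    mem_centralizer_singleton_iff.2 (co1s_comm (i := 1) (j := 5) rfl e5 (by decide +kernel))
  have h2 : tt ∈ centralizer ({co1s} : Set Spor.Co1) :=
    mem_centralizer_singleton_iff.2 (co1s_comm (i := 0) (j := 4) rfl e4 (by decide +kernel))
  exact mul_mem (mul_mem (pow_mem h1 i) h2) (inv_mem (pow_mem h1 i))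

theorem co1_key {a b : Spor.Co1} (ha : a ∈ AA) (hb : b ∈ AA)
    (h : ∀ c ∈ centralizer ({xx} : Set Spor.Co1), c * (a * (ww * b * ww⁻¹)) = a * (ww * b * ww⁻¹) * c) :
    a = 1 ∧ b = 1 := by
  have h1 : a = 1 := KStr.center_trivial simple_AA card_AA ha fun c hc => by
    have h2 := h c (AA_le hc)
    rw [mul_assoc a, ← comm_AA c hc b hb, ← mul_assoc, ← mul_assoc a] at h2
    exact (mul_right_cancel h2).symm
  refine ⟨h1, KStr.center_trivial simple_AA card_AA hb fun c hc => ?_⟩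
  have hw : ww ∈ centralizer ({xx} : Set Spor.Co1) := mem_centralizer_singleton_iff.2 w_x
  have h2 := h _ (mul_mem (mul_mem hw (AA_le hc)) (inv_mem hw))
  rw [h1, one_mul] at h2
  calc b * c = ww⁻¹ * (ww * b * ww⁻¹ * (ww * c * ww⁻¹)) * ww := by group
    _ = _ := by rw [← h2]; group

theorem co1_prod_inj : Function.Injective (KStr.prod comm_AA) := by
  rw [injective_iff_map_eq_one]
  rintro ⟨a, b⟩ h
  have h1 : (a : Spor.Co1) * (ww * b * ww⁻¹) = 1 := h
  obtain ⟨h2, h3⟩ := co1_key a.2 b.2 fun c _ => by rw [h1, one_mul, mul_one]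
  exact Prod.ext (Subtype.ext h2) (Subtype.ext h3)

theorem co1_perfect_le {P : Subgroup Spor.Co1} (hP : ⁅P, P⁆ = P) (h : P ≤ centralizer ({xx} : Set Spor.Co1)) :
    P ≤ (KStr.prod comm_AA).range := by
  have hw : ww ∈ centralizer ({xx} : Set Spor.Co1) := mem_centralizer_singleton_iff.2 w_x
  have hD : (KStr.prod comm_AA).range ≤ centralizer ({xx} : Set Spor.Co1) := by
    rintro _ ⟨⟨a, b⟩, rfl⟩
    exact mul_mem (AA_le a.2) (mul_mem (mul_mem hw (AA_le b.2)) (inv_mem hw))
  refine le_of_le_sup_zpowers hD hP (le_of_card_lt hP h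
    (sup_le hD ((zpowers_le).2 (mem_centralizer_singleton_iff.2 rfl))) ?_)
  have h1 := card_mul_dvd_sup (A := (KStr.prod comm_AA).range) (B := zpowers xx)
    (fun a ha b hb => zpowers_comm b hb a (hD ha)) (by
      rintro _ ⟨⟨a, b⟩, rfl⟩ hy
      obtain ⟨h2, h3⟩ := co1_key a.2 b.2 (zpowers_comm _ hy)
      change (a : Spor.Co1) * (ww * b * ww⁻¹) = 1
      rw [h2, h3]
      group)
  rw [← Nat.card_congr (MonoidHom.ofInjective co1_prod_inj).toEquiv, Nat.card_prod, card_AA, Nat.card_zpowers,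
    order_x] at h1
  have h2 := Nat.le_of_dvd Nat.card_pos h1
  have h3 := card_cent
  omega

theorem co1_fiveB {U : Type} [Group U] [Finite U] {τ α β : U →* Spor.Co1} {R R' : Subgroup Spor.Co1}
    (c : Core τ α β R R') (hU : Nat.card U = 60 ∨ Nat.card U = 360 ∨ Nat.card U = 25920) {u : U} (hu : orderOf u = 5)
    (hx : τ u = xx) : False := by
  by_cases h60 : Nat.card U = 60
  · refine c.false_of_sixty h60 hu (s := co1s) (mem_centralizer_iff.2 fun y hy => ?_) (by rw [hx, co1s_inv])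
    rw [hx] at hy
    obtain ⟨⟨a, b⟩, rfl⟩ := co1_perfect_le (perf_perfect _) (perf_le _) hy
    have hw : ww ∈ centralizer ({co1s} : Set Spor.Co1) :=
      mem_centralizer_singleton_iff.2 (co1s_comm (i := 2) (j := 6) rfl e6 (by decide +kernel))
    exact mem_centralizer_singleton_iff.1 (mul_mem (co1s_AA a.2) (mul_mem (mul_mem hw (co1s_AA b.2)) (inv_mem hw)))
  · obtain ⟨φ, hφ, hm⟩ := c.pair.copy
    have hR := co1_perfect_le c.pair.perfect (hx ▸ c.pair.le_cent u)
    have h1 := card_dvd_of_prod c.simple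
      (f := (MonoidHom.ofInjective co1_prod_inj).symm.toMonoidHom.comp (φ.codRestrict _ fun a => hR (hm a)))
      fun a b h => hφ (congrArg Subtype.val ((MonoidHom.ofInjective co1_prod_inj).symm.injective h))
    rw [or_self, card_AA] at h1
    have h2 := Nat.le_of_dvd (by norm_num) h1
    omega

end fiveB

section fiveC
open Module
open Cfsg.Agent.SigZeroCo2.Rank (fix mem_fix)
open Cfsg.Agent.SigZeroCo2.Lin (rep Sp)
open Cfsg.Agent.SporadicA.Co0Mono Cfsg.Agent.SporadicA.Co1Simple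
open Cfsg.Agent.CoOneType.ClosingFacts (mk mk_mul mk_inv exists_mk mk_eq_one mk_eq)
open Cfsg.Agent.CpAutCoFive (mv mv_inv eq_zero_of_fix finrank_add finrank_Sp rep_pow_one fix_of_coprime dvd_finrank_sub
  nr nr_mem_fix sub_mem_mv)

/-- a lift of an involution commuting with an element of class 5C is an involution -/
theorem co1_no_four {a k : Co0} (ha : orderOf a = 5) (h4 : finrank ℚ (fix (rep a)) = 4) (hak : a * k = k * a)
    (hk : k * k = signCo0 allOne) : False := by
  have ha5 : a ^ 5 = 1 := by rw [← ha, pow_orderOf_eq_one]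
  have h20 := finrank_add (u := rep a) (r := 5) (by norm_num) (rep_pow_one ha)
  rw [h4, finrank_Sp] at h20
  have hcomm : Commute k a := hak.symm
  have hk4 : k ^ 4 = 1 := by
    have h1 : k ^ 4 = (k * k) * (k * k) := by simp only [pow_succ, pow_zero, one_mul, mul_assoc]
    rw [h1, hk, signCo0_mul_self]
  have h10 : (k * a) ^ 10 = signCo0 allOne := by
    rw [hcomm.mul_pow, show (10 : ℕ) = 5 * 2 by norm_num, pow_mul a, ha5, one_pow, mul_one,
      show (5 * 2 : ℕ) = 4 * 2 + 2 by norm_num, pow_add, pow_mul, hk4, one_pow, one_mul, pow_two, hk]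
  have hf4 : (k * a) ^ 4 = a ^ 4 := by rw [hcomm.mul_pow, hk4, one_mul]
  have h8 : Nat.totient 20 ∣ finrank ℚ (mv (rep a) 5) := by
    refine dvd_finrank_sub (n := 20) (by norm_num) (f := rep (k * a)) ?_ (fun v hv => mv_inv ?_ hv) ?_
    · rw [← map_pow, show (20 : ℕ) = 10 * 2 by norm_num, pow_mul, h10, pow_two, signCo0_mul_self, map_one]
    · exact (hcomm.mul_left (Commute.refl a)).map rep
    · intro p hp hpn v hv hv'
      have h25 : p = 2 ∨ p = 5 := by
        have h1 : p ∣ 2 ^ 2 * 5 := by simpa using hpn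
        rcases (hp.dvd_mul).1 h1 with h2 | h2
        · exact Or.inl ((Nat.prime_dvd_prime_iff_eq hp Nat.prime_two).1 (hp.dvd_of_dvd_pow h2))
        · exact Or.inr ((Nat.prime_dvd_prime_iff_eq hp (by norm_num)).1 h2)
      rcases h25 with rfl | rfl
      · rw [← map_pow, show 20 / 2 = 10 by norm_num, h10, LThreeMBTr.rep_neg] at hv'
        have h1 : -v = v := hv'
        have h2 : (2 : ℚ) • v = 0 := by
          rw [two_smul]
          nth_rewrite 1 [← h1]
          exact neg_add_cancel v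
        exact (smul_eq_zero.1 h2).resolve_left (by norm_num)
      · rw [← map_pow, show 20 / 5 = 4 by norm_num, hf4, map_pow] at hv'
        exact eq_zero_of_fix (by norm_num)
          (fix_of_coprime (x := rep a) (a := 4) (b := 5) (by norm_num) (by norm_num) hv' (by rw [rep_pow_one ha]; rfl)) hv
  have h9 : finrank ℚ (mv (rep a) 5) = 20 := by omega
  rw [h9, show Nat.totient 20 = 8 by decide] at h8
  norm_num at h8

theorem four_dvd_inf {V : Type} [AddCommGroup V] [Module ℚ V] [FiniteDimensional ℚ V] {x : Module.End ℚ V}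
    (hx : x ^ 5 = 1) {W : Submodule ℚ V} (hW : ∀ w ∈ W, x w ∈ W) (h : 4 ∣ finrank ℚ W) :
    4 ∣ finrank ℚ (W ⊓ fix x : Submodule ℚ V) := by
  have h1 : Nat.totient 5 ∣ finrank ℚ (W ⊓ mv x 5 : Submodule ℚ V) := by
    refine dvd_finrank_sub (by norm_num) hx (fun w hw => ⟨hW w hw.1, mv_inv (Commute.refl x) hw.2⟩) ?_
    intro p hp hp5 v hv hv'
    obtain rfl := (Nat.prime_dvd_prime_iff_eq hp Nat.prime_five).1 hp5
    exact eq_zero_of_fix (by norm_num) (by simpa using hv') hv.2
  rw [show Nat.totient 5 = 4 by decide] at h1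
  have h2 := Submodule.finrank_sup_add_finrank_inf_eq (W ⊓ fix x) (W ⊓ mv x 5)
  have h3 : (W ⊓ fix x) ⊓ (W ⊓ mv x 5) = ⊥ := by
    rw [eq_bot_iff]
    intro v hv
    exact eq_zero_of_fix (by norm_num) (mem_fix.1 hv.1.2) hv.2.2
  have h4 : (W ⊓ fix x) ⊔ (W ⊓ mv x 5) = W := by
    refine le_antisymm (sup_le inf_le_left inf_le_left) fun w hw => ?_
    have hpow : ∀ i, (x ^ i) w ∈ W := fun i => by
      induction i with
      | zero => exact hw
      | succ i ih => rw [pow_succ', Module.End.mul_apply]; exact hW _ ih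
    have hn : (1 / (5 : ℕ) : ℚ) • nr x 5 w ∈ W := by
      refine W.smul_mem _ ?_
      unfold nr
      rw [LinearMap.sum_apply]
      exact Submodule.sum_mem _ fun i _ => hpow i
    exact Submodule.mem_sup.2 ⟨_, ⟨hn, Submodule.smul_mem _ _ (nr_mem_fix hx w)⟩, _,
      ⟨W.sub_mem hw hn, sub_mem_mv (by norm_num) hx w⟩, add_sub_cancel _ _⟩
  rw [h3, h4, finrank_bot, add_zero] at h2
  omega

/-- an involution commuting with an element of class 5C has a lift that is trivial on its fixed space -/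
theorem co1_lift {a : Co0} (ha : orderOf a = 5) (h4 : finrank ℚ (fix (rep a)) = 4) {t : Spor.Co1} (ht : t * t = 1)
    (hc : mk a * t = t * mk a) : ∃ k : Co0, mk k = t ∧ k * a = a * k ∧ fix (rep a) ≤ fix (rep k) := by
  have ha5 : a ^ 5 = 1 := by rw [← ha, pow_orderOf_eq_one]
  obtain ⟨k, rfl⟩ := exists_mk t
  have hak : a * k = k * a := LThreeBX.NoSeven.comm_of_mk (by decide : Odd 5) ha5 hc
  rw [← mk_mul] at ht
  rcases (mk_eq_one _).1 ht with hk | hk
  swap
  · exact (co1_no_four ha h4 hak hk).elim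
  have hc' : ∀ v, rep a (rep k v) = rep k (rep a v) := fun v => by
    rw [← Module.End.mul_apply, ← map_mul, hak, map_mul, Module.End.mul_apply]
  have h1 : 4 ∣ finrank ℚ (fix (rep k)) := by
    by_cases h : k = 1
    · rw [h, show fix (rep (1 : Co0)) = ⊤ from eq_top_iff.2 fun v _ => mem_fix.2 (by rw [map_one]; rfl), finrank_top,
        finrank_Sp]
      norm_num
    · rcases BpSpor.Co2.Five.dims_two hk h with h | h | h | h <;> rw [h] <;> norm_num
  have h2 := four_dvd_inf (rep_pow_one ha) (fun w hw => mem_fix.2 (by rw [← hc', mem_fix.1 hw])) h1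
  have h3 := Submodule.finrank_mono (inf_le_right : fix (rep k) ⊓ fix (rep a) ≤ fix (rep a))
  by_cases h0 : finrank ℚ (fix (rep k) ⊓ fix (rep a) : Submodule ℚ Sp) = 0
  · refine ⟨k * signCo0 allOne, (mk_eq _ _).2 (Or.inr rfl), ?_, fun v hv => mem_fix.2 ?_⟩
    · rw [mul_assoc, ← MFiveHN.Cent.neg_comm a, ← mul_assoc, ← hak, mul_assoc]
    · have h5 : v + rep k v ∈ fix (rep k) ⊓ fix (rep a) := ⟨mem_fix.2 (by
        rw [map_add, ← Module.End.mul_apply, ← map_mul, hk, map_one, add_comm]; rfl),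
        mem_fix.2 (by rw [map_add, hc', mem_fix.1 hv])⟩
      rw [Submodule.finrank_eq_zero.1 h0, Submodule.mem_bot] at h5
      rw [map_mul, LThreeMBTr.rep_neg]
      change rep k (-v) = v
      rw [map_neg]
      exact (eq_neg_of_add_eq_zero_left h5).symm
  · refine ⟨k, rfl, hak.symm, ?_⟩
    rw [← Submodule.eq_of_le_of_finrank_eq (inf_le_right : fix (rep k) ⊓ fix (rep a) ≤ fix (rep a)) (by omega)]
    exact inf_le_left

theorem co1_fiveC {U : Type} [Group U] [Finite U] (hs : IsSimpleGroup U) (h6 : 6 ∣ Nat.card U) {φ : U →* Spor.Co1}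
    (hφ : Function.Injective φ) {x : Spor.Co1} (hx : orderOf x = 5) (hf : LThreeMB.fr x = 2 ^ 4)
    (hc : ∀ w, x * φ w = φ w * x) : False := by
  obtain ⟨a, rfl, ha5, ha⟩ := H55.CoOneBd.exists_lift (by norm_num) (by norm_num) hx
  have h4 := CoFiveC.Main.finrank_of_fr ha hf
  let C := centralizer ({a} : Set Co0)
  let π : C →* Spor.Co1 := (QuotientGroup.mk' (center Co0)).comp C.subtype
  let N : Subgroup U := ((CoFiveC.Main.NN a).map π).comap φ
  have hN : N.Normal := ⟨by
    rintro n ⟨g, hg, hgn⟩ w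
    obtain ⟨k, hk⟩ := exists_mk (φ w)
    have hak : a * k = k * a := LThreeBX.NoSeven.comm_of_mk (by decide : Odd 5) ha5 (by rw [hk]; exact hc w)
    refine ⟨_, (CoFiveC.Main.NN_normal a).conj_mem g hg ⟨k, mem_centralizer_singleton_iff.2 hak.symm⟩, ?_⟩
    rw [map_mul, map_mul, map_inv, hgn, map_mul, map_mul, map_inv, ← hk]
    rfl⟩
  obtain ⟨t, ht, ht1⟩ := Core.exists_orderOf (U := U) (r := 2) (by norm_num) (Dvd.dvd.trans (by norm_num) h6)
  obtain ⟨r, hr, hr1⟩ := Core.exists_orderOf (U := U) (r := 3) (by norm_num) (Dvd.dvd.trans (by norm_num) h6)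
  have htN : t ∈ N := by
    obtain ⟨k, hk, h1, h2⟩ := co1_lift ha h4 (t := φ t) (by rw [← map_mul, ← pow_two, ← ht, pow_orderOf_eq_one, map_one])
      (hc t)
    exact ⟨⟨k, mem_centralizer_singleton_iff.2 h1⟩, h2, hk⟩
  have hT : N = ⊤ := (hs.eq_bot_or_eq_top_of_normal N hN).resolve_left fun h => ht1 (by rwa [h, mem_bot] at htN)
  obtain ⟨g, hg, hgr⟩ : r ∈ N := hT ▸ mem_top r
  have hr3 : r ^ 3 = 1 := by rw [← hr, pow_orderOf_eq_one]
  have h1 : ((g : Co0) ^ 3) ^ 2 = 1 := CoFive.Ranks.sq_of_center ((QuotientGroup.eq_one_iff _).1 (by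
    change π (g ^ 3) = 1
    rw [map_pow, hgr, ← map_pow, hr3, map_one]))
  have : Fact (Nat.Prime 3) := ⟨Nat.prime_three⟩
  refine CoFiveFour.Ker.not_odd PreUniqCo.Facts.facts ha5 h4 (CoFiveC.Main.reg_of ha h4) (y := ((g ^ 2 : C) : Co0))
    (mem_centralizer_singleton_iff.1 (g ^ 2).2).symm Nat.prime_three (by norm_num) (by norm_num)
    (orderOf_eq_prime (by rw [coe_pow, ← pow_mul, mul_comm, pow_mul, h1]) fun h => hr1 ?_) (pow_mem hg 2)
  refine eq_one_of_coprime (a := 2) (b := 3) (by norm_num) (hφ ?_) hr3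
  rw [map_pow, ← hgr, ← map_pow, show g ^ 2 = 1 from Subtype.ext h, map_one, map_one]

end fiveC

theorem noCore_co1 {L : Type} [Group L] [Finite L] (big : Big) (h : Spor.IsoCo1 L) : NoCore L := by
  obtain ⟨e⟩ := h
  have := H812.CoFiveData.finite_co1
  refine NoCore.of_equiv (fun U _ _ τ α β R R' c => ?_) e
  rcases cand_co1 big ⟨MulEquiv.refl _⟩ c with h7 | hU
  · obtain ⟨u, hu, -⟩ := Core.exists_orderOf (U := U) (r := 7) (by norm_num) h7
    refine c.false_of_seven big hu (fun h => ?_) ?_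
    · have h1 := (pow_dvd_pow_of_dvd h 2).trans (c.pair.card_sq_dvd c.simple c.noncomm)
      rw [NotCT.Orders.co1 ⟨MulEquiv.refl _⟩] at h1
      norm_num at h1
    · rcases H898.WkCo1.seven_cases ((c.pair.orderOf_eq u).trans hu) with ⟨-, h⟩ | ⟨-, h⟩
      · exact h
      · rw [h]; norm_num
  · obtain ⟨u, hu, hv⟩ : ∃ u : U, orderOf u = 5 ∧ (Nat.card U = 360 → ∃ v, v * v = 1 ∧ v * u * v⁻¹ = u⁻¹) := by
      by_cases h : Nat.card U = 360
      · obtain ⟨u, v, a, b, r, d⟩ := exists_a5Dat c.simple (Or.inr h)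
        exact ⟨u, d.hu, fun _ => ⟨v, d.hv, d.hvu⟩⟩
      · obtain ⟨u, hu, -⟩ := Core.exists_orderOf (U := U) (r := 5) (by norm_num) (five_of hU).1
        exact ⟨u, hu, fun h1 => absurd h1 h⟩
    have hx : orderOf (τ u) = 5 := (c.pair.orderOf_eq u).trans hu
    rcases CoFive.Ranks.ranks _ hx with h1 | h1 | h1
    · obtain ⟨τ, α, β, R, R', c, h2⟩ := c.exists_conj
        (CoFive.Ranks.isConj_of_fr H812.CoFiveData.order_p1 hx (H812.CoFiveData.fr_p1.trans h1.symm))
      exact co1_fiveA c hU hu hv h2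
    · obtain ⟨φ, hφ, hm⟩ := c.pair.copy
      exact co1_fiveC c.simple (by rcases hU with h | h | h <;> rw [h] <;> norm_num) hφ hx h1
        fun w => c.pair.comm u _ (hm w)
    · obtain ⟨τ, α, β, R, R', c, h2⟩ := c.exists_conj
        (CoFive.Ranks.isConj_of_fr MFiveHN.Cent.order_x hx (MFiveHN.Inst.fr_xx.trans h1.symm))
      exact co1_fiveB c hU hu h2

end Cfsg.Agent.Cam.Spor
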