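import Cfsg.Agent.Cam.Spor.DP
import Cfsg.Agent.H835.Five
import Cfsg.Agent.H836.Facts
import Cfsg.Agent.H838.FiveMain
import Cfsg.Agent.H842.SevenMain
import Cfsg.Agent.CpAutFiSeven.None
import Cfsg.Agent.H220.EP.PermSeven

/-!
# S3689, S3690: the rows Fi22, Fi23, Fi24' (helper67)
-/

set_option autoImplicit false

namespace Cfsg.Agent.Cam.Spor

open Cfsg Subgroup Equiv Cfsg.Agent.TwoFusion.PerfCore
open Cfsg.Agent.H898.NForm (NP)

theorem perm_invol {n : ℕ} {g : Perm (Fin n)} (hg : orderOf g = 2) : ∃ m, g.support.card = 2 * m ∧ 2 * m ≤ n ∧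
    Nat.card (centralizer ({g} : Set (Perm (Fin n)))) = (n - 2 * m).factorial * 2 ^ m * m.factorial := by
  obtain ⟨k, hk⟩ := Equiv.Perm.cycleType_prime_order (σ := g) (by rw [hg]; exact Nat.prime_two)
  refine ⟨k + 1, ?_, ?_, ?_⟩
  · rw [← Equiv.Perm.sum_cycleType, hk, hg, Multiset.sum_replicate, smul_eq_mul, mul_comm]
  · have h1 := Equiv.Perm.sum_cycleType_le g
    rw [hk, hg, Multiset.sum_replicate, smul_eq_mul, Fintype.card_fin] at h1
    omega
  · rw [Equiv.Perm.nat_card_centralizer, hk, hg, Multiset.sum_replicate, Multiset.prod_replicate,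
      Multiset.toFinset_replicate, if_neg (by omega), Finset.prod_singleton, Multiset.count_replicate_self,
      Fintype.card_fin, smul_eq_mul, mul_comm (k + 1) 2]

/-- a 2-element inverting an element of order five has an involution with at least four moved points among its powers -/
theorem exists_invol {n : ℕ} {k w : Perm (Fin n)} {e : ℕ} (hk : k ^ 2 ^ e = 1) (hk1 : k ≠ 1) (hw1 : w ≠ 1)
    (hw : w ^ 5 = 1) (h : k * w * k⁻¹ = w ^ 4) :
    ∃ c : Perm (Fin n), orderOf c = 2 ∧ (∀ y, k * y = y * k → c * y = y * c) ∧ c.support.card ≠ 2 := by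
  obtain ⟨j, -, hj⟩ := (Nat.dvd_prime_pow Nat.prime_two).1 (orderOf_dvd_of_pow_eq_one hk)
  rcases j with _ | _ | j
  · exact absurd (orderOf_eq_one_iff.1 hj) hk1
  · refine ⟨k, hj, fun _ h => h, fun h2 => ?_⟩
    have : Fact (Nat.Prime 5) := ⟨by norm_num⟩
    have h3 : orderOf (w ^ 3) = 5 := by
      have h0 : orderOf w = 5 := orderOf_eq_prime hw hw1
      rw [Nat.Coprime.orderOf_pow (by rw [h0]; norm_num), h0]
    obtain ⟨i, hi⟩ := Equiv.Perm.cycleType_prime_order (σ := w ^ 3) (by rw [h3]; norm_num)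
    have h4 : 5 ≤ (w ^ 3).support.card := by
      rw [← Equiv.Perm.sum_cycleType, hi, h3, Multiset.sum_replicate, smul_eq_mul]
      omega
    have h5 : w ^ 3 = k * (w * k⁻¹ * w⁻¹) := by
      calc w ^ 3 = w ^ 4 * w⁻¹ := by group
        _ = _ := by rw [← h]; group
    have h6 := Finset.card_le_card (Equiv.Perm.support_mul_le k (w * k⁻¹ * w⁻¹))
    have h7 := Finset.card_union_le k.support (w * k⁻¹ * w⁻¹).support
    rw [Equiv.Perm.card_support_conj, Equiv.Perm.support_inv] at h7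
    rw [← h5, Finset.sup_eq_union] at h6
    omega
  · refine ⟨k ^ 2 ^ (j + 1), ?_, fun y hy => ((show Commute k y from hy).pow_left _).eq, fun h2 => ?_⟩
    · rw [orderOf_pow_of_dvd (by positivity) (by rw [hj]; exact pow_dvd_pow 2 (by omega)), hj, pow_succ,
        Nat.mul_div_cancel_left _ (by positivity)]
    · have h3 := (Equiv.Perm.card_support_eq_two.1 h2).sign_eq
      rw [pow_succ, pow_mul, map_pow, Int.units_sq] at h3
      exact absurd h3 (by decide)

variable {L U : Type} [Group L] [Group U] {τ α β : U →* L} {R R' : Subgroup L}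
variable {G : Type*} [Group G] {ι : L →* G}

theorem dp_of_np {D : Set G} {m n : ℕ} {X : Subgroup G} (h : NP D m (Perm (Fin n)) X) :
    ∃ F K : Subgroup G, DP X F K ∧ Nat.card F = m ∧ Nonempty (K ≃* Perm (Fin n)) := by
  obtain ⟨F, h1, -, h3, h4, h5, h6, h7⟩ := h
  exact ⟨F, _, ⟨h3, h4, h5, h6, (closure_le _).2 Set.inter_subset_right⟩, h1, h7⟩

/-- elements of order five, `K` a symmetric group -/
theorem Core.dvd_of_perm [Finite L] [Finite U] [Finite G] (c : Core τ α β R R') (hι : Function.Injective ι) {u : U}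
    (hu : orderOf u = 5) (h25 : ¬ 5 ^ 2 ∣ Nat.card U) {F K : Subgroup G} (d : DP (zpowers (ι (τ u))) F K) {n : ℕ}
    (e : K ≃* Perm (Fin n)) : ∃ m, 2 ≤ m ∧ 2 * m ≤ n ∧ Nat.card U ∣ (n - 2 * m).factorial * 2 ^ m * m.factorial := by
  obtain ⟨v, i, hvi, hv⟩ := exists_inv c.simple c.noncomm hu h25
  have h5 : u ^ 5 = 1 := by rw [← hu]; exact pow_orderOf_eq_one u
  have h4 : u ^ 4 = u⁻¹ := eq_inv_of_mul_eq_one_left (by rw [← pow_succ]; exact h5)
  obtain ⟨ρ, k, w, hρ, hk, hk1, hk2, hw1, hw, hkw⟩ := c.exists_dp hι d (hv.trans h4.symm) (not_comm_of_inv hu hv)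
  obtain ⟨s, hs, hsc, hs2⟩ := exists_invol (k := e k) (w := e w) (e := i) (by rw [← map_pow, hk2 _ hvi, map_one])
    (by simpa using hk1) (by simpa using hw1) (by rw [← map_pow, hw _ h5, map_one])
    (by rw [← map_inv, ← map_mul, ← map_mul, hkw, map_pow])
  obtain ⟨m, hm, hmn, hc⟩ := perm_invol hs
  have hm0 : m ≠ 0 := by
    rintro rfl
    rw [mul_zero, Equiv.Perm.card_support_eq_zero] at hm
    rw [hm, orderOf_one] at hs
    omega
  refine ⟨m, by omega, hmn, ?_⟩
  rw [← hc]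
  refine card_dvd_of_injective ((e.toMonoidHom.comp ρ).codRestrict _ fun a => ?_)
    fun a b h => hρ (e.injective (congrArg Subtype.val h))
  refine mem_centralizer_singleton_iff.2 (hsc _ ?_).symm
  change e k * e (ρ a) = e (ρ a) * e k
  rw [← map_mul, ← map_mul, hk]

theorem five_of {n : ℕ} (h : n = 60 ∨ n = 360 ∨ n = 25920) : 5 ∣ n ∧ ¬ 5 ^ 2 ∣ n := by
  rcases h with rfl | rfl | rfl <;> norm_num

theorem noCore_fi22 [Finite L] (big : Big) (h : Spor.IsoFi22 L) : NoCore L := fun U _ _ τ α β R R' c => by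
  obtain ⟨h5, h25⟩ := five_of (cand_fi22 big h c)
  obtain ⟨u, hu, -⟩ := Core.exists_orderOf (U := U) (r := 5) (by norm_num) h5
  obtain ⟨e⟩ := h
  have h1 : NP _ 20 (Perm (Fin 5)) (zpowers (MonoidHom.id L (τ u))) :=
    (H835.Five.five_concl (H836.inv_of_iso e)).2 _ (by rw [Nat.card_zpowers]; exact (c.pair.orderOf_eq u).trans hu)
  obtain ⟨F, K, d, -, ⟨f⟩⟩ := dp_of_np h1
  obtain ⟨m, hm, hmn, hd⟩ := c.dvd_of_perm Function.injective_id hu h25 d f
  obtain rfl : m = 2 := by omega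
  exact absurd (h5.trans hd) (by decide)

theorem noCore_fi23 [Finite L] (big : Big) (h : Spor.IsoFi23 L) : NoCore L := fun U _ _ τ α β R R' c => by
  obtain ⟨h5, h25⟩ := five_of (cand_fi23 big h c)
  obtain ⟨u, hu, -⟩ := Core.exists_orderOf (U := U) (r := 5) (by norm_num) h5
  obtain ⟨e⟩ := h
  have : Finite Spor.Fi23 := Finite.of_equiv _ e.toEquiv
  have h1 : NP _ 20 (Perm (Fin 7)) (zpowers (e.toMonoidHom (τ u))) :=
    H838.Fi23.five_main _ (by
      rw [Nat.card_zpowers, orderOf_injective _ e.injective]; exact (c.pair.orderOf_eq u).trans hu)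
  obtain ⟨F, K, d, -, ⟨f⟩⟩ := dp_of_np h1
  obtain ⟨m, hm, hmn, hd⟩ := c.dvd_of_perm e.injective hu h25 d f
  have h3 : m ≤ 3 := by omega
  interval_cases m <;> exact absurd (h5.trans hd) (by decide)

/-- an element of `F` acting as squaring -/
theorem DP.exists_inv {x : G} (hx : orderOf x = 5) {F K : Subgroup G} (d : DP (zpowers x) F K) (hF : Nat.card F = 20) :
    ∃ t ∈ F, t * t * x * (t * t)⁻¹ = x⁻¹ := by
  have h5 : x ^ 5 = 1 := by rw [← hx]; exact pow_orderOf_eq_one x
  have h4 : x ^ 4 = x⁻¹ := eq_inv_of_mul_eq_one_left (by rw [← pow_succ]; exact h5)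
  have hfin : IsOfFinOrder x := isOfFinOrder_iff_pow_eq_one.2 ⟨5, by norm_num, h5⟩
  by_contra hne
  have key : ∀ t ∈ F, t * x * t⁻¹ = x ∨ t * x * t⁻¹ = x⁻¹ := fun t ht => by
    have h1 : t * x * t⁻¹ ∈ zpowers x := conj_mem_of_norm (d.sup ▸ mem_sup_left ht) (mem_zpowers x)
    obtain ⟨j, hj⟩ := (hfin.mem_powers_iff_mem_zpowers).2 h1
    have hj' : t * x * t⁻¹ = x ^ (j % 5) := by rw [← hx, pow_mod_orderOf]; exact hj.symm
    have hlt : j % 5 < 5 := Nat.mod_lt _ (by norm_num)
    have hsq2 : ∀ i : ℕ, t * x * t⁻¹ = x ^ i → t * t * x * (t * t)⁻¹ = x ^ (i * i) := fun i hi => by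
      calc t * t * x * (t * t)⁻¹ = t * (t * x * t⁻¹) * t⁻¹ := by group
        _ = (t * x * t⁻¹) ^ i := by rw [conj_pow, hi]
        _ = _ := by rw [hi, ← pow_mul]
    generalize j % 5 = i at hj' hlt
    interval_cases i
    · exfalso
      rw [pow_zero] at hj'
      have : x = 1 := by
        calc x = t⁻¹ * (t * x * t⁻¹) * t := by group
          _ = 1 := by rw [hj']; group
      rw [this, orderOf_one] at hx
      omega
    · exact Or.inl (by rw [hj', pow_one])
    · exact absurd ⟨t, ht, by rw [hsq2 2 hj', h4]⟩ hne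
    · exact absurd ⟨t, ht, by rw [hsq2 3 hj', show 3 * 3 = 5 + 4 by rfl, pow_add, h5, one_mul, h4]⟩ hne
    · exact Or.inr (by rw [hj', h4])
  have hmem : ∀ t ∈ F, t * x * t⁻¹ = x → t ∈ zpowers x := fun t ht h => by
    rw [← d.inf, cent_zpowers]
    refine mem_inf.2 ⟨ht, mem_centralizer_singleton_iff.2 ?_⟩
    calc t * x = t * x * t⁻¹ * t := by group
      _ = _ := by rw [h]
  have hidx : ((zpowers x).subgroupOf F).index = 4 := by
    have h1 := card_mul_index ((zpowers x).subgroupOf F)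
    rw [Nat.card_congr (subgroupOfEquivOfLe d.X_le).toEquiv, Nat.card_zpowers, hx, hF] at h1
    omega
  have h2 : ((zpowers x).subgroupOf F).index ∣ 2 := by
    rw [index_dvd_two_iff]
    by_cases hall : ∀ t ∈ F, t * x * t⁻¹ = x
    · exact ⟨1, fun b => Or.inr (hmem b b.2 (hall b b.2))⟩
    · push Not at hall
      obtain ⟨a, ha, hax⟩ := hall
      refine ⟨⟨a, ha⟩, fun b => ?_⟩
      rcases key b b.2 with h1 | h1
      · exact Or.inr (hmem b b.2 h1)
      · refine Or.inl (hmem _ (mul_mem b.2 ha) ?_)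
        change (b : G) * a * x * ((b : G) * a)⁻¹ = x
        calc (b : G) * a * x * ((b : G) * a)⁻¹ = b * (a * x * a⁻¹) * (b : G)⁻¹ := by group
          _ = (b * x * (b : G)⁻¹)⁻¹ := by rw [(key a ha).resolve_left hax]; group
          _ = x := by rw [h1, inv_inv]
  rw [hidx] at h2
  norm_num at h2

/-- an element of order prime to `r` normalizing but not centralizing `⟨u⟩` -/
theorem exists_norm' [Finite U] (hs : IsSimpleGroup U) (hn : ¬ IsMulCommutative U) {u : U} {r : ℕ} (hr : r.Prime)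
    (hu : orderOf u = r) (hsq : ¬ r ^ 2 ∣ Nat.card U) :
    ∃ (v : U) (j m : ℕ), v * u * v⁻¹ = u ^ j ∧ v * u ≠ u * v ∧ v ^ m = 1 ∧ m.Coprime r := by
  obtain ⟨v, hv, hne⟩ := exists_norm hs hn hr hu hsq
  have hN : v ∈ normalizer ((zpowers u : Subgroup U) : Set U) := mem_normalizer_of (by
    rintro _ ⟨i, rfl⟩
    change v * u ^ i * v⁻¹ ∈ _
    rw [← conj_zpow]
    exact zpow_mem hv i)
  obtain ⟨e, m, hm, hem⟩ := Nat.exists_eq_pow_mul_and_not_dvd (orderOf_pos v).ne' r hr.ne_one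
  obtain ⟨j, hj⟩ := (mem_powers_iff_mem_zpowers).2 (conj_mem_of_norm (pow_mem hN (r ^ e)) (mem_zpowers u))
  refine ⟨v ^ r ^ e, j, m, hj.symm, fun h => hne ?_, by rw [← pow_mul, ← hem, pow_orderOf_eq_one],
    ((Nat.Prime.coprime_iff_not_dvd hr).2 hm).symm⟩
  -- the image of `v` in the automorphism group has order dividing `r ^ e` and `r - 1`
  let a := (zpowers u).normalizerMonoidHom ⟨v, hN⟩
  have h1 : a ^ r ^ e = 1 := by
    rw [← map_pow]
    ext ⟨_, i, rfl⟩
    change v ^ r ^ e * u ^ i * (v ^ r ^ e)⁻¹ = u ^ i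
    rw [← conj_zpow, h, mul_inv_cancel_right]
  have h2 : a ^ (r - 1) = 1 := by
    rw [← Nat.totient_prime hr, ← hu, ← Nat.card_zpowers, ← IsCyclic.card_mulAut]
    exact pow_card_eq_one'
  have h3 : a = 1 := by
    rw [← pow_one a, ← show Nat.gcd (r ^ e) (r - 1) = 1 from Nat.Coprime.pow_left _ ?_, pow_gcd_eq_one]
    · exact ⟨h1, h2⟩
    · rw [Nat.coprime_self_sub_right hr.one_le]
      exact Nat.coprime_one_right r
  have h5 : ((a ⟨u, mem_zpowers u⟩ : zpowers u) : U) = u := by rw [h3]; rfl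
  have h4 : v * u * v⁻¹ = u := h5
  calc v * u = v * u * v⁻¹ * v := by group
    _ = _ := by rw [h4]

theorem noCore_fi24 [Finite L] (big : Big) (h : Spor.IsoFi24' L) : NoCore L := by
  obtain ⟨e⟩ := h
  have : Finite Spor.Fi24' := Finite.of_equiv _ e.toEquiv
  have hidx := R08.FiTwentyFour.index_commutator
  have : Finite Spor.Fi24 := Nat.finite_of_card_ne_zero (by
    rw [← card_mul_index (commutator Spor.Fi24), hidx]
    exact Nat.mul_ne_zero Nat.card_pos.ne' (by norm_num))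
  refine NoCore.of_equiv (fun U _ _ τ α β R R' c => ?_) e
  have hι := (commutator Spor.Fi24).subtype_injective
  by_cases h7 : 7 ∣ Nat.card U
  · obtain ⟨u, hu, -⟩ := Core.exists_orderOf (U := U) (r := 7) (by norm_num) h7
    have hx : orderOf (τ u) = 7 := (c.pair.orderOf_eq u).trans hu
    have h49 : ¬ 7 ^ 2 ∣ Nat.card U := fun h => by
      have h1 := (pow_dvd_pow_of_dvd h 2).trans (c.pair.card_sq_dvd c.simple c.noncomm)
      rw [NotCT.Orders.fi24 ⟨MulEquiv.refl _⟩] at h1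
      norm_num at h1
    obtain ⟨g, hg | hg⟩ := H842.SevenSyl.cases7 (X := zpowers ((commutator Spor.Fi24).subtype (τ u)))
      (by rw [Nat.card_zpowers, orderOf_injective _ hι, hx])
    · have h1 := H842.SevenSyl.np_y7.map (MulAut.conj g⁻¹)
      rw [← hg, Subgroup.map_map, show (MulAut.conj g⁻¹).toMonoidHom.comp (MulAut.conj g).toMonoidHom = MonoidHom.id _ by
        ext y; simp [mul_assoc], Subgroup.map_id] at h1
      obtain ⟨F, K, d, -, ⟨f⟩⟩ := dp_of_np h1
      obtain ⟨v, j, m, hv, hne, hm, hco⟩ := exists_norm' c.simple c.noncomm (by norm_num) hu h49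
      obtain ⟨ρ, k, w, hρ, hk, hk1, hk2, -⟩ := c.exists_dp hι d hv hne
      have h2 := H220.EP.card_cent_seven (y := f (ρ u)) (by rw [MulEquiv.orderOf_eq, orderOf_injective _ hρ, hu])
      have h3 : f k ∈ centralizer ({f (ρ u)} : Set (Perm (Fin 7))) :=
        mem_centralizer_singleton_iff.2 (by rw [← map_mul, ← map_mul, hk])
      have h4 : f k ^ 7 = 1 := by
        have := congrArg Subtype.val (pow_card_eq_one' (x := (⟨f k, h3⟩ : centralizer ({f (ρ u)} : Set (Perm (Fin 7))))))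
        rwa [h2] at this
      apply hk1
      rw [← pow_one k, ← show Nat.gcd m 7 = 1 from hco, pow_gcd_eq_one]
      exact ⟨hk2 m hm, f.injective (by rw [map_pow, h4, map_one])⟩
    · refine CpAutFiSeven.not_four_cent hx (fun d hd hxd => ?_) ?_
      · obtain ⟨_, ⟨i, rfl⟩, h2⟩ := hg.ge (mem_zpowers _)
        refine H842.SevenSyl.not_comm_c (R08.FiTwentyFour.conj hd g) ?_
        rw [← h2]
        exact ((Commute.zpow_left (show Commute (τ u : Spor.Fi24) d from hxd) i).map (MulAut.conj g).toMonoidHom).eq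
      · refine Dvd.dvd.trans (Dvd.dvd.mul_left ?_ _) (c.pair.order_mul_dvd' c.simple c.noncomm u)
        exact (by decide +kernel : ∀ o ∈ ords (root [(2, 21), (3, 16), (5, 2), (7, 3), (11, 1), (13, 1), (17, 1), (23, 1),
          (29, 1)] 2) 235146240, 4 ∣ o) _ (c.card_mem_root big (NotCT.Orders.fi24 ⟨MulEquiv.refl _⟩) (by decide +kernel)
          (by decide +kernel))
  · have hU := (cand_fi24 big ⟨MulEquiv.refl _⟩ c).resolve_left h7
    obtain ⟨h5, h25⟩ := five_of hU
    obtain ⟨u, hu, -⟩ := Core.exists_orderOf (U := U) (r := 5) (by norm_num) h5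
    have hx : orderOf ((commutator Spor.Fi24).subtype (τ u)) = 5 := by
      rw [orderOf_injective _ hι]; exact (c.pair.orderOf_eq u).trans hu
    obtain ⟨F, K, d, hF, ⟨f⟩⟩ := dp_of_np (H898.FiveNorm.np_all (zpowers ((commutator Spor.Fi24).subtype (τ u)))
      (by rw [Nat.card_zpowers, hx]))
    rcases hU with hU | hU
    · obtain ⟨t, ht, htx⟩ := d.exists_inv hx hF
      have h1 : t * t ∈ commutator Spor.Fi24 := mul_self_mem_of_index_two hidx t
      exact c.false_of_sixty hU hu (s := ⟨t * t, h1⟩) (d.mem_cent_perf hι (mul_mem ht ht)) (Subtype.ext htx)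
    · have h360 : 360 ∣ Nat.card U := by rcases hU with hU | hU <;> rw [hU] <;> norm_num
      obtain ⟨m, hm, hmn, hd⟩ := c.dvd_of_perm hι hu h25 d f
      have h3 : m ≤ 4 := by omega
      interval_cases m <;> exact absurd (h360.trans hd) (by decide)

end Cfsg.Agent.Cam.Spor
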