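import Cfsg.Agent.Cam.Spor.Gen
import Cfsg.Agent.CpAutHNFive.Main
import Cfsg.Agent.S0204

/-!
# S3689, S3690: the row HN (helper67)
-/

set_option autoImplicit false

namespace Cfsg.Agent.Cam.Spor

open Cfsg Subgroup Cfsg.Agent.TwoFusion.PerfCore
open Cfsg.Agent.CpAutHNFive.QD

section QD
variable {G : Type} [Group G] {x g h z : G}

theorem qd_into [Finite G] (D : QDat g h) {Y : Subgroup G} (hg : g ∈ Y) (hh : h ∈ Y) (h32 : ¬ 32 ∣ Nat.card Y) {a b : G}
    (ha : a ∈ Y) (hb : b ∈ Y) (ha2 : a * a = 1) (hb2 : b * b = 1) (hab : a * b = b * a) :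
    ∃ k ∈ Y, k * a * k⁻¹ ∈ closure ({g, h} : Set G) ∧ k * b * k⁻¹ ∈ closure ({g, h} : Set G) := by
  have D' : QDat (⟨g, hg⟩ : Y) ⟨h, hh⟩ := ⟨by rw [← Subgroup.orderOf_coe]; exact D.hg,
    by rw [← Subgroup.orderOf_coe]; exact D.hh, Subtype.ext D.hgh⟩
  obtain ⟨P, hP⟩ := D'.exists_syl h32
  have hT : IsPGroup 2 (closure ({⟨a, ha⟩, ⟨b, hb⟩} : Set Y)) := isPGroup_closure (by
    rintro y (rfl | rfl)
    · exact Subtype.ext ha2
    · exact Subtype.ext hb2) (by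
    rintro y (rfl | rfl) y' (rfl | rfl)
    · rfl
    · exact Subtype.ext hab
    · exact Subtype.ext hab.symm
    · rfl)
  obtain ⟨k, hk⟩ := exists_conj_mem P hT
  rw [hP] at hk
  have hm : ∀ y : Y, y ∈ closure ({⟨g, hg⟩, ⟨h, hh⟩} : Set Y) → (y : G) ∈ closure ({g, h} : Set G) := fun y hy => by
    have := mem_map_of_mem Y.subtype hy
    rwa [MonoidHom.map_closure, Set.image_pair] at this
  exact ⟨k, k.2, hm _ (hk ⟨a, ha⟩ (subset_closure (by simp))), hm _ (hk ⟨b, hb⟩ (subset_closure (by simp)))⟩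

theorem qd_inv (D : QDat g h) {y : G} (hy : y ∈ closure ({g, h} : Set G)) (hy2 : orderOf y = 2) :
    y = g ^ 4 ∨ ∃ j : ℕ, g ^ j * h * (g ^ j)⁻¹ = y := by
  have h1 := sq_of_order hy2
  obtain ⟨i, hi8, rfl | rfl⟩ := D.mem_form' hy
  · refine Or.inl (D.pow_sq h1 fun h2 => ?_)
    rw [h2, orderOf_one] at hy2
    omega
  · right
    have h2 : g ^ (i + 3 * i) = 1 := by
      rw [← h1, pow_add]
      calc g ^ i * g ^ (3 * i) = g ^ i * (g ^ (3 * i) * h) * h := by rw [mul_assoc, mul_assoc, D.hh2, mul_one]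
        _ = _ := by rw [← D.comm]; group
    have h3 := orderOf_dvd_of_pow_eq_one h2
    rw [D.hg] at h3
    refine ⟨3 * (i / 2), ?_⟩
    rw [mul_inv_eq_iff_eq_mul, mul_assoc, D.comm, ← mul_assoc, ← pow_add,
      show i + 3 * (3 * (i / 2)) = 3 * (i / 2) + 8 * (i / 2) by omega, pow_add, pow_mul g 8, D.g8, one_pow, mul_one]

theorem qd_order (D : QDat g h) : orderOf (g ^ 4) = 2 := by rw [orderOf_pow' _ (by norm_num), D.hg]; norm_num

/-- the situation of an element of the class 5A of `HN` -/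
structure HD (x g h z : G) : Prop where
  gx : g * x = x * g
  hx : h * x = x * h
  D : QDat g h
  n32 : ¬ 32 ∣ Nat.card (centralizer ({x} : Set G))
  z2 : z * z = 1
  zx : z * x * z⁻¹ = x⁻¹
  mem : ∀ c, c * x = x * c → c * g ^ 4 = g ^ 4 * c → c ∈ Yz x z

theorem HD.conj (H : HD x g h z) (k : G) : HD (k * x * k⁻¹) (k * g * k⁻¹) (k * h * k⁻¹) (k * z * k⁻¹) := by
  let θ := MulAut.conj k
  have hθ : ∀ y, k * y * k⁻¹ = θ y := fun y => rfl
  simp only [hθ]
  refine ⟨by rw [← map_mul, H.gx, map_mul], by rw [← map_mul, H.hx, map_mul], ⟨by rw [MulEquiv.orderOf_eq, H.D.hg],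
    by rw [MulEquiv.orderOf_eq, H.D.hh], by rw [← map_inv, ← map_mul, ← map_mul, H.D.hgh, map_pow]⟩, ?_,
    by rw [← map_mul, H.z2, map_one], by rw [← map_inv, ← map_mul, ← map_mul, H.zx, map_inv], fun c h1 h2 => ?_⟩
  · rw [← hθ, ← Nat.card_congr (CpAutHNFive.TauFive.cequiv k x).toEquiv]
    exact H.n32
  · obtain ⟨c, rfl⟩ := θ.surjective c
    rw [← map_pow, ← map_mul, ← map_mul] at h2
    rw [← map_mul, ← map_mul] at h1
    obtain ⟨-, i, hi⟩ := H.mem c (θ.injective h1) (θ.injective h2)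
    refine ⟨by rw [← map_mul, ← map_mul, h1], i, ?_⟩
    change θ x ^ i = _
    rw [← map_zpow, show x ^ i = _ from hi, map_mul, map_mul, map_mul, map_inv, map_inv]

theorem HD.pow (H : HD x g h z) (hx : orderOf x = 5) {m : ℕ} (h1 : 1 ≤ m) (h5 : m < 5) : HD (x ^ m) g h z := by
  have hC := CpAutHNFive.TauFive.centralizer_pow hx h1 h5
  have hz : x ∈ zpowers (x ^ m) := by
    rw [mem_zpowers_pow_iff, hx]
    interval_cases m <;> norm_num
  refine ⟨((show Commute g x from H.gx).pow_right m).eq, ((show Commute h x from H.hx).pow_right m).eq, H.D,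
    by rw [hC]; exact H.n32, H.z2, by rw [← conj_pow, H.zx, inv_pow], fun c h2 h3 => ⟨h2, ?_⟩⟩
  refine (zpowers_le.2 hz) (H.mem c ?_ h3).2
  rw [← mem_centralizer_singleton_iff, ← hC, mem_centralizer_singleton_iff]
  exact h2

/-- an involution inverting `x` and centralizing an `A₄` of `C(x)` -/
theorem HD.mem_of [Finite G] (H : HD x g h z) (hx : orderOf x = 5) {s ρ : G} (hs : s * s = 1) (hsx : s * x * s⁻¹ = x⁻¹)
    (hsg : g ^ 4 * s = s * g ^ 4) (hsh : h * s = s * h) (hρx : ρ * x = x * ρ) (hρs : ρ * s = s * ρ)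
    (h1 : ρ * g ^ 4 * ρ⁻¹ = h) (h2 : ρ * h * ρ⁻¹ = g ^ 4 * h) {c : G} (hc : c * x = x * c) (hcg : c * g ^ 4 = g ^ 4 * c) :
    c ∈ Yz x s := by
  have h5 : x ^ 5 = 1 := by rw [← hx]; exact pow_orderOf_eq_one x
  have hs' : s⁻¹ = s := inv_eq_of_mul_eq_one_left hs
  have hz' : z⁻¹ = z := inv_eq_of_mul_eq_one_left H.z2
  have hgx : Commute (g ^ 4) x := (show Commute g x from H.gx).pow_left 4
  have hhg : h * g ^ 4 = g ^ 4 * h := by rw [H.D.comm, show 3 * 4 = 4 + 8 by rfl, pow_add, H.D.g8, mul_one]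
  have hzg : g ^ 4 * z = z * g ^ 4 := comm_of_mem_Yz h5 (by decide) (H.mem _ hgx.eq rfl) H.D.z_sq
  have hzh : h * z = z * h := comm_of_mem_Yz h5 (by decide) (H.mem _ H.hx hhg) H.D.hh2
  have c0x : Commute (s * z) x := by
    change s * z * x = x * (s * z)
    calc s * z * x = s * (z * x * z⁻¹) * z := by group
      _ = (s * x * s⁻¹)⁻¹ * (s * z) := by rw [H.zx]; group
      _ = _ := by rw [hsx, inv_inv]
  have c0g : Commute (g ^ 4) (s * z) := (show Commute _ s from hsg).mul_right hzg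
  have c0h : Commute h (s * z) := (show Commute _ s from hsh).mul_right hzh
  obtain ⟨i, hi⟩ := (H.mem _ c0x.eq c0g.symm.eq).2
  have hi' : (s * z) ^ 2 = x ^ i := by
    change x ^ i = _ at hi
    rw [hi, mul_inv_rev, hs', hz', pow_two]
    calc s * z * (s * z) = s * z * (z * z) * s * z := by rw [H.z2]; group
      _ = _ := by group
  have h10 : (s * z) ^ 5 * (s * z) ^ 5 = 1 := by
    rw [← pow_add, show 5 + 5 = 2 * 5 by rfl, pow_mul, hi', ← zpow_natCast, ← zpow_mul, mul_comm, zpow_mul,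
      zpow_natCast, h5, one_zpow]
  -- the elements of `C(x) ∩ C(g ^ 4)` commute with `s * (s * z) ^ 5` modulo `⟨x⟩`
  have key : ∀ c, c * x = x * c → c * g ^ 4 = g ^ 4 * c → c ∈ Yz x (s * (s * z) ^ 5) := fun c hc hcg => by
    have h3 : s * (s * z) ^ 5 = z * ((s * z) ^ 2) ^ 2 := by
      rw [← pow_mul, show 5 = 4 + 1 by rfl, pow_succ', ← mul_assoc, ← mul_assoc, hs, one_mul]
    rw [h3, hi']
    exact mem_Yz_mul (H.mem c hc hcg) (((show Commute c x from hc).zpow_right i).pow_right 2).eq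
  have back : ∀ c d, c ∈ Yz x (s * d) → c * d = d * c → c ∈ Yz x s := fun c d h3 h4 => by
    have := mem_Yz_mul h3 (show Commute c d from h4).inv_right.eq
    rwa [mul_inv_cancel_right] at this
  have hV : (s * z) ^ 5 = 1 ∨ (s * z) ^ 5 = g ^ 4 ∨ (s * z) ^ 5 = h ∨ (s * z) ^ 5 = g ^ 4 * h := by
    by_cases h0 : (s * z) ^ 5 = 1
    · exact Or.inl h0
    right
    let g' : centralizer ({x} : Set G) := ⟨g, mem_centralizer_singleton_iff.2 H.gx⟩
    let h' : centralizer ({x} : Set G) := ⟨h, mem_centralizer_singleton_iff.2 H.hx⟩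
    have D' : QDat g' h' := ⟨by rw [← Subgroup.orderOf_coe]; exact H.D.hg,
      by rw [← Subgroup.orderOf_coe]; exact H.D.hh, Subtype.ext H.D.hgh⟩
    have h3 := rank_two D' H.n32 (a := g' ^ 4) (b := h')
      (y := ⟨(s * z) ^ 5, mem_centralizer_singleton_iff.2 (c0x.pow_left 5).eq⟩) (qd_order D') D'.hh
      (by rw [← Subgroup.orderOf_coe]; exact orderOf_eq_prime (by rw [pow_two]; exact h10) h0)
      (Subtype.ext hhg.symm) (Subtype.ext (c0g.pow_right 5).eq) (Subtype.ext (c0h.pow_right 5).eq)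
      (fun h3 => D'.not_comm (by rw [← h3]; exact ((Commute.refl g').pow_left 4).eq))
    exact h3.imp (congrArg Subtype.val) (Or.imp (congrArg Subtype.val) (congrArg Subtype.val))
  have hbad : (∀ c, c * x = x * c → c * g ^ 4 = g ^ 4 * c → c ∈ Yz x (s * h)) → False := fun hY => by
    have q1 : g ^ 2 * g ^ 4 * (g ^ 2)⁻¹ = g ^ 4 := by group
    have q2 : g ^ 2 * h * (g ^ 2)⁻¹ = g ^ 4 * h := by
      rw [mul_inv_eq_iff_eq_mul, mul_assoc, H.D.comm, ← mul_assoc, ← pow_add, show 4 + 3 * 2 = 2 + 8 by rfl, pow_add,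
        H.D.g8, mul_one]
    have hqx : Commute (g ^ 2) x := (show Commute g x from H.gx).pow_left 2
    have hq := hY _ hqx.eq (by group)
    have e1 := H.D.z_sq
    have e2 := H.D.hh2
    generalize g ^ 2 = q at q1 q2 hqx hq
    have ht := qd_order H.D
    have hth : g ^ 4 * h ≠ 1 := fun h3 => H.D.not_comm (by
      rw [eq_inv_of_mul_eq_one_right h3]; exact ((Commute.refl g).pow_left 4).inv_left.eq)
    generalize g ^ 4 = t at *
    have q1' : q⁻¹ * t * q = t := by rw [← q1]; nth_rewrite 2 [q1]; group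
    have q2' : q⁻¹ * h * q = t * h := by
      have h3 : h = t * (q * h * q⁻¹) := by rw [q2, ← mul_assoc, e1, one_mul]
      calc q⁻¹ * h * q = q⁻¹ * (t * (q * h * q⁻¹)) * q := by rw [← h3]
        _ = (q⁻¹ * t * q) * h := by group
        _ = _ := by rw [q1']
    have h3 : ρ * (t * h) * ρ⁻¹ = t := by
      calc ρ * (t * h) * ρ⁻¹ = (ρ * t * ρ⁻¹) * (ρ * h * ρ⁻¹) := by group
        _ = t * (h * h) := by rw [h1, h2, ← mul_assoc, hhg, mul_assoc]
        _ = t := by rw [e2, mul_one]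
    have c1 : q * ρ * q⁻¹ * ρ * t = t * (q * ρ * q⁻¹ * ρ) := by
      calc q * ρ * q⁻¹ * ρ * t = q * (ρ * (q⁻¹ * (ρ * t * ρ⁻¹) * q) * ρ⁻¹) * q⁻¹ * (q * ρ * q⁻¹ * ρ) := by group
        _ = _ := by rw [h1, q2', h3, q1]
    have c2 : q * ρ * q⁻¹ * ρ * h = h * (q * ρ * q⁻¹ * ρ) := by
      calc q * ρ * q⁻¹ * ρ * h = q * (ρ * (q⁻¹ * (ρ * h * ρ⁻¹) * q) * ρ⁻¹) * q⁻¹ * (q * ρ * q⁻¹ * ρ) := by group
        _ = q * (ρ * ((q⁻¹ * t * q) * (q⁻¹ * h * q)) * ρ⁻¹) * q⁻¹ * (q * ρ * q⁻¹ * ρ) := by rw [h2]; group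
        _ = q * (ρ * h * ρ⁻¹) * q⁻¹ * (q * ρ * q⁻¹ * ρ) := by rw [q1', q2', ← mul_assoc t, e1, one_mul]
        _ = (q * t * q⁻¹) * (q * h * q⁻¹) * (q * ρ * q⁻¹ * ρ) := by rw [h2]; group
        _ = _ := by rw [q1, q2, ← mul_assoc t, e1, one_mul]
    have hρx' : Commute ρ x := hρx
    have m1 := back _ _ (hY _ (((hqx.mul_left hρx').mul_left hqx.inv_left).mul_left hρx').eq c1) c2
    have m2 : ρ ∈ Yz x s := mem_Yz_of_comm hρx hρs
    have m3 := mul_mem m1 (inv_mem m2)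
    rw [mul_inv_cancel_right] at m3
    -- conjugation by `q⁻¹`
    obtain ⟨j, hj⟩ := (inv_mem hq).2
    obtain ⟨l, hl⟩ := m3.2
    change x ^ j = _ at hj
    change x ^ l = _ at hl
    have e3 : q⁻¹ * s * q = x ^ j * (s * t) := by
      have h' : h⁻¹ = h := inv_eq_of_mul_eq_one_left e2
      have t' : t⁻¹ = t := inv_eq_of_mul_eq_one_left e1
      calc q⁻¹ * s * q = q⁻¹ * (s * h) * q * (q⁻¹ * h * q)⁻¹ := by group
        _ = x ^ j * (s * h) * (t * h)⁻¹ := by rw [q2', hj]; group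
        _ = x ^ j * (s * (h * h⁻¹) * t⁻¹) := by group
        _ = _ := by rw [mul_inv_cancel, mul_one, t']
    have e4 : ρ * (q⁻¹ * s * q) * ρ⁻¹ = x ^ l * (q⁻¹ * s * q) := by
      calc ρ * (q⁻¹ * s * q) * ρ⁻¹ = q⁻¹ * (x ^ l * q) * (q⁻¹ * s * q) := by rw [hl]; group
        _ = _ := by rw [← (hqx.zpow_right l).eq, inv_mul_cancel_left]
    rw [e3] at e4
    have e5 : ρ * (x ^ j * (s * t)) * ρ⁻¹ = x ^ j * (s * h) := by
      calc ρ * (x ^ j * (s * t)) * ρ⁻¹ = (ρ * x ^ j) * (ρ⁻¹ * (ρ * s) * ρ⁻¹) * (ρ * t * ρ⁻¹) := by group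
        _ = _ := by rw [(hρx'.zpow_right j).eq, h1, hρs]; group
    have e6 : x ^ l = t * h := by
      have h4 : x ^ j * (s * h) = x ^ j * (x ^ l * (s * t)) := by
        rw [← e5, e4, ← mul_assoc, ← mul_assoc, (Commute.zpow_zpow_self x l j).eq]; group
      have t' : t⁻¹ = t := inv_eq_of_mul_eq_one_left e1
      calc x ^ l = x ^ l * (s * t) * t⁻¹ * s⁻¹ := by group
        _ = s * (h * t) * s⁻¹ := by rw [← mul_left_cancel h4, t']; group
        _ = _ := by rw [← mul_assoc, ← hsh, mul_assoc h, ← hsg, ← hhg]; group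
    apply hth
    rw [← pow_one (t * h), ← show Nat.gcd 2 5 = 1 by rfl, pow_gcd_eq_one]
    refine ⟨?_, by rw [← e6, ← zpow_natCast, ← zpow_mul, mul_comm, zpow_mul, zpow_natCast, h5, one_zpow]⟩
    rw [pow_two, mul_assoc, ← mul_assoc h, hhg, mul_assoc, e2, mul_one, e1]
  rcases hV with h3 | h3 | h3 | h3 <;> rw [h3] at key
  · exact back _ _ (key c hc hcg) (by rw [one_mul, mul_one])
  · exact back _ _ (key c hc hcg) hcg
  · exact (hbad key).elim
  · refine (hbad fun c hc hcg => ?_).elim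
    have := mem_Yz_mul (key c hc hcg) hcg
    rwa [mul_assoc, mul_assoc, hhg, ← mul_assoc (g ^ 4), H.D.z_sq, one_mul] at this

/-- the configuration is impossible -/
theorem HD.false_of_core [Finite G] {U : Type} [Group U] {τ α β : U →* G} {R R' : Subgroup G} (c : Core τ α β R R')
    {u v a b r : U} (d : A5Dat u v a b r) (H : HD (τ u) g h z) : False := by
  obtain ⟨φ, hφ, hm⟩ := c.pair.copy
  have dφ := d.map hφ
  have hx : orderOf (τ u) = 5 := (c.pair.orderOf_eq u).trans d.hu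
  have hC : ∀ w, φ w ∈ centralizer ({τ u} : Set G) := fun w => c.pair.le_cent u (hm w)
  have hg := mem_centralizer_singleton_iff.2 H.gx
  have hh := mem_centralizer_singleton_iff.2 H.hx
  have ha2 := sq_of_order dφ.ha
  have hb2 := sq_of_order dφ.hb
  have h1 : ∃ k ∈ centralizer ({τ u} : Set G), k * φ a * k⁻¹ = g ^ 4 ∧ k * φ b * k⁻¹ ∈ closure ({g, h} : Set G) := by
    obtain ⟨k, hk, m1, m2⟩ := qd_into H.D hg hh H.n32 (hC a) (hC b) ha2 hb2 dφ.hab
    have m3 := mul_mem m1 m2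
    have e : ∀ y y' : G, k * y * k⁻¹ * (k * y' * k⁻¹) = k * (y * y') * k⁻¹ := fun y y' => by group
    have e' : ∀ y : G, k * φ r * y * (k * φ r)⁻¹ = k * (φ r * y * (φ r)⁻¹) * k⁻¹ := fun y => by group
    have e'' : ∀ y : G, k * φ r * φ r * y * (k * φ r * φ r)⁻¹ = k * (φ r * (φ r * y * (φ r)⁻¹) * (φ r)⁻¹) * k⁻¹ :=
      fun y => by group
    rcases H.D.four_mem m1 m2 (by rw [order_conj, dφ.ha]) (by rw [order_conj, dφ.hb]) (by rw [e, e, dφ.hab])
      (fun h => dφ.hne (mul_left_cancel (mul_right_cancel h))) with h2 | h2 | h2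
    · exact ⟨k, hk, h2.symm, m2⟩
    · exact ⟨k * φ r, mul_mem hk (hC r), by rw [e', dφ.ra, h2], by rw [e', dφ.rb, ← e]; exact m3⟩
    · refine ⟨k * φ r * φ r, mul_mem (mul_mem hk (hC r)) (hC r), by rw [e'', dφ.ra, dφ.rb, h2, e], ?_⟩
      have h3 : φ r * (φ a * φ b) * (φ r)⁻¹ = φ a := by
        calc φ r * (φ a * φ b) * (φ r)⁻¹ = (φ r * φ a * (φ r)⁻¹) * (φ r * φ b * (φ r)⁻¹) := by group
          _ = φ a * (φ b * φ b) := by rw [dφ.ra, dφ.rb, ← mul_assoc, ← dφ.hab, mul_assoc]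
          _ = _ := by rw [hb2, mul_one]
      rwa [e'', dφ.rb, h3]
  have h2 : ∃ k ∈ centralizer ({τ u} : Set G), k * g ^ 4 * k⁻¹ = φ a ∧ k * h * k⁻¹ = φ b := by
    obtain ⟨k, hk, m1, m2⟩ := h1
    rcases qd_inv H.D m2 (by rw [order_conj, dφ.hb]) with h2 | ⟨j, h2⟩
    · exact (dφ.hne (mul_left_cancel (mul_right_cancel (m1.trans h2.symm)))).elim
    · refine ⟨k⁻¹ * g ^ j, mul_mem (inv_mem hk) (pow_mem hg j), ?_, ?_⟩
      · calc k⁻¹ * g ^ j * g ^ 4 * (k⁻¹ * g ^ j)⁻¹ = k⁻¹ * g ^ 4 * k := by group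
          _ = _ := by rw [← m1]; group
      · calc k⁻¹ * g ^ j * h * (k⁻¹ * g ^ j)⁻¹ = k⁻¹ * (g ^ j * h * (g ^ j)⁻¹) * k := by group
          _ = _ := by rw [h2]; group
  obtain ⟨k, hk, e1, e2⟩ := h2
  have H' := H.conj k
  rw [mem_centralizer_singleton_iff.1 hk, mul_inv_cancel_right, e2] at H'
  rw [← conj_pow] at e1
  generalize k * g * k⁻¹ = g' at H' e1
  have hs : τ v * τ v = 1 := by rw [← map_mul, d.hv, map_one]
  have hsx : τ v * τ u * (τ v)⁻¹ = (τ u)⁻¹ := by rw [← map_inv, ← map_inv, ← map_mul, ← map_mul, d.hvu]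
  have hφs : ∀ w, φ w * τ v = τ v * φ w := fun w => (c.pair.comm v _ (hm w)).symm
  have hφx : ∀ w, φ w * τ u = τ u * φ w := fun w => (c.pair.comm u _ (hm w)).symm
  have hY : ∀ w, φ w ∈ Yz (τ u) (τ v) := fun w => mem_Yz_of_comm (hφx w) (hφs w)
  have key : ∀ y, y * τ u = τ u * y → y * φ a = φ a * y → y ∈ Yz (τ u) (τ v) := fun y h3 h4 =>
    H'.mem_of hx hs hsx (by rw [e1, hφs]) (hφs b) (hφx r) (hφs r) (by rw [e1, dφ.ra]) (by rw [e1, dφ.rb]) h3
      (by rw [e1, h4])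
  have hgY : g' ∈ Yz (τ u) (τ v) := key _ H'.gx (by rw [← e1]; group)
  have hle : centralizer ({τ u} : Set G) ≤ Yz (τ u) (τ v) := by
    refine le_of_gen (t := φ a) (Yz_le _ _) (fun hs => not_solvable c.simple c.noncomm
      (Group.isSolvable_of_isSolvable_injective (f := φ.codRestrict _ hY) fun a b h => hφ (congrArg Subtype.val h)))
      (hC a) (hC b) dφ.ha dφ.hb dφ.hab dφ.hne (fun y hy hy2 => ?_)
      fun y hy h3 => key y (mem_centralizer_singleton_iff.1 hy) h3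
    obtain ⟨l, hl, m, -⟩ := qd_into H'.D hgY (hY b) (fun h3 => H.n32 (h3.trans (card_dvd_of_le (Yz_le _ _)))) hy
      (one_mem _) (sq_of_order hy2) (one_mul 1) (by rw [one_mul, mul_one])
    rcases qd_inv H'.D m (by rw [order_conj, hy2]) with h3 | ⟨j, h3⟩
    · exact ⟨l⁻¹, inv_mem hl, by rw [← e1, ← h3]; group⟩
    · refine ⟨l⁻¹ * g' ^ j * φ r, mul_mem (mul_mem (inv_mem hl) (pow_mem hgY j)) (hY r), ?_⟩
      calc l⁻¹ * g' ^ j * φ r * φ a * (l⁻¹ * g' ^ j * φ r)⁻¹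
          = l⁻¹ * (g' ^ j * (φ r * φ a * (φ r)⁻¹) * (g' ^ j)⁻¹) * l := by group
        _ = _ := by rw [dφ.ra, h3]; group
  obtain ⟨i, hi⟩ := (hle (c.alpha_mem_cent (rfl : u * u = u * u))).2
  refine c.alpha_not_mem (u := u * u) (fun h3 => ?_) (mem_sup_left ⟨u ^ i, rfl⟩) ?_
  · have h4 := orderOf_dvd_of_pow_eq_one (show u ^ 2 = 1 by rw [pow_two, h3])
    rw [d.hu] at h4
    norm_num at h4
  · have h3 := c.conj_alpha u⁻¹ v
    have h4 : v * u⁻¹ * v⁻¹ = u := by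
      calc v * u⁻¹ * v⁻¹ = (v * u * v⁻¹)⁻¹ := by group
        _ = u := by rw [d.hvu, inv_inv]
    rw [h4, map_inv] at h3
    rw [map_zpow, show τ u ^ i = _ from hi, map_mul]
    nth_rewrite 2 [← h3]
    group

end QD

section HN

open Cfsg.Agent.HN.Pres Cfsg.Agent.HN.H0Basic
open Cfsg.Agent.HN.P1408 hiding ψ
open Cfsg.Agent.HN.XWords (W0)
open Cfsg.Agent.HN.NormalH (ψ)
open Cfsg.Agent.KFacts.HN
open Cfsg.Agent.CpAutHNFive Cfsg.Agent.CpAutHNFive.TFive Cfsg.Agent.CpAutHNFive.HTab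
open Cfsg.Agent.CpAutHNFive.HFacts Cfsg.Agent.CpAutHNFive.TauFive Cfsg.Agent.CpAutHNFive.Main

/-- an involution inverting `w2` -/
def hnWz : List ℕ := [0, 4, 3, 4, 2, 1, 2, 4, 3, 4, 2, 4, 3, 1, 3, 4, 3]

theorem hn_Yz : centralizer ({hw w2} : Set H0) ≤ Yz (hw w2) (hw hnWz) := by
  have := finite_H0
  have m1 : hw wg ∈ Yz (hw w2) (hw hnWz) := mem_Yz_of_comm g_comm (comm_of (by decide +kernel))
  have m2 : hw wh ∈ Yz (hw w2) (hw hnWz) := mem_Yz_of_comm h_comm (comm_of (by decide +kernel))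
  have m3 : hw wt ∈ Yz (hw w2) (hw hnWz) := mem_Yz_of_comm t_comm (comm_of (by decide +kernel))
  have m4 : hw we ∈ Yz (hw w2) (hw hnWz) := ⟨e_comm, (4 : ℕ), by
    change hw w2 ^ ((4 : ℕ) : ℤ) = _
    rw [zpow_natCast, ← hw_iw, ← hw_iw, ← hw_append, ← hw_append, ← hw_append]
    exact pow_of (by decide +kernel)⟩
  have m5 : hw w2 ∈ Yz (hw w2) (hw hnWz) := ⟨rfl, (2 : ℕ), by
    change hw w2 ^ ((2 : ℕ) : ℤ) = _
    rw [zpow_natCast, ← hw_iw, ← hw_iw, ← hw_append, ← hw_append, ← hw_append]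
    exact pow_of (by decide +kernel)⟩
  have h25 : 25 ∣ Nat.card (Yz (hw w2) (hw hnWz)) := by
    have h1 := mul_order_dvd (C := Yz (hw w2) (hw hnWz)) (a := ⟨hw we, m4⟩) (b := ⟨hw w2, m5⟩)
      (Subtype.ext e_comm) (inf_eq_bot_of_prime Nat.prime_five (by rw [← Subgroup.orderOf_coe]; exact order_e) (by
        intro h
        apply e_not_mem
        obtain ⟨k, hk⟩ := mem_zpowers_iff.1 h
        exact mem_zpowers_iff.2 ⟨k, congrArg Subtype.val hk⟩))
    rw [← Subgroup.orderOf_coe, ← Subgroup.orderOf_coe] at h1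
    change orderOf (hw we) * orderOf (hw w2) ∣ _ at h1
    rwa [order_e, order_w2] at h1
  have h3 : 3 ∣ Nat.card (Yz (hw w2) (hw hnWz)) := order_t ▸ orderOf_dvd_natCard _ m3
  have h16 : 16 ∣ Nat.card (Yz (hw w2) (hw hnWz)) := by
    rw [← QDat.card ⟨order_g, order_h, hgh⟩]
    exact card_dvd_of_le ((closure_le _).2 (Set.pair_subset m1 m2))
  have h := Nat.le_of_dvd Nat.card_pos (Nat.Coprime.mul_dvd_of_dvd_of_dvd (by norm_num) h16
    (Nat.Coprime.mul_dvd_of_dvd_of_dvd (m := 3) (n := 25) (by norm_num) h3 h25))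
  exact (eq_of_le_of_card_ge (Yz_le _ _) (HCert.card_le_two.trans h)).ge

theorem hn_hd : HD (ψ (hw w2)) (ψ (hw wg)) (ψ (hw wh)) (ψ (hw hnWz)) := by
  refine ⟨by rw [← map_mul, ← map_mul, g_comm], by rw [← map_mul, ← map_mul, h_comm],
    ⟨by rw [orderOf_injective _ emb.inj, order_g], by rw [orderOf_injective _ emb.inj, order_h],
      by rw [← map_mul, ← map_inv, ← map_mul, hgh, map_pow]⟩, not32, ?_, ?_, fun c h1 h2 => ?_⟩
  · rw [← map_mul, ← pow_two, pow_one_of (by decide +kernel), map_one]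
  · rw [← map_mul, ← map_inv, ← map_mul, ← map_inv, ← hw_iw, ← hw_iw, ← hw_append, ← hw_append]
    exact congrArg ψ (hw_eq (by decide +kernel))
  · rw [← map_pow, g_four] at h2
    obtain ⟨y, rfl⟩ := emb.cent c h2
    obtain ⟨-, i, hi⟩ := hn_Yz (x := y) (mem_centralizer_singleton_iff.2 (emb.inj (by rw [map_mul, map_mul, h1])))
    refine ⟨h1, i, ?_⟩
    change ψ (hw w2) ^ i = _
    rw [← map_zpow, show hw w2 ^ i = _ from hi, map_mul, map_mul, map_mul, map_inv, map_inv]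

/-- `CpAutHNFive.TauFive.main_cases` with the conjugacy class -/
theorem hn_cases {x u : G} (hx : orderOf x = 5) (hu : orderOf u = 2) (hux : u * x = x * u) :
    Good (centralizer ({x} : Set G)) ∨ ∃ g h z, HD x g h z := by
  have FT : ∀ (K : Type) [Group K] [Finite K], Odd (Nat.card K) → Group.IsSolvable K := fun K _ _ h => S0205.result h
  have h204 : ∀ (K : Type) [Group K] [Finite K] [IsSimpleGroup K], ¬ IsCyclic K → ∃ E : Subgroup K, IsKleinFour E :=
    fun K _ _ _ h => S0204.result h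
  have key : ∀ v : G, IsConj (ψ τ) v → v * x = x * v → Good (centralizer ({x} : Set G)) ∨ ∃ g h z, HD x g h z := by
    intro v hv hvx
    obtain ⟨c, hc⟩ := isConj_iff.1 hv.symm
    have h1 : c * x * c⁻¹ * ψ τ = ψ τ * (c * x * c⁻¹) := by
      rw [← hc]
      calc c * x * c⁻¹ * (c * v * c⁻¹) = c * (x * v) * c⁻¹ := by group
        _ = c * (v * x) * c⁻¹ := by rw [hvx]
        _ = _ := by group
    obtain ⟨y, hy⟩ := emb.cent _ h1
    have hy5 : orderOf y = 5 := by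
      rw [← orderOf_injective ψ emb.inj, hy, ← hx]
      exact MulEquiv.orderOf_eq (MulAut.conj c) x
    obtain ⟨g, m, hm1, hm5, w, hw', hg⟩ := five_conj hy5
    have hw5 : orderOf (ψ (hw w)) = 5 := by
      rw [orderOf_injective _ emb.inj]
      rcases hw' with rfl | rfl | rfl
      · exact order_w1
      · exact order_w2
      · exact order_w3
    have h2 : (ψ g * c)⁻¹ * ψ (hw w) ^ m * ((ψ g * c)⁻¹)⁻¹ = x := by
      rw [← map_pow, ← hg, map_mul, map_mul, map_inv, hy]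
      group
    obtain ⟨e⟩ := cequiv_pow hw5 hm1 hm5 h2
    rcases hw' with rfl | rfl | rfl
    · exact Or.inl ((good_one FT h204).congr e)
    · exact Or.inr ⟨_, _, _, h2 ▸ (hn_hd.pow hw5 hm1 hm5).conj _⟩
    · exact Or.inl (Good.congr e (Or.inr (solvable_three FT)))
  rcases Classes.inv_class hu with h | h
  · exact key u h.symm hux
  · obtain ⟨c, hc⟩ := isConj_iff.1 h
    have h1 : c * x * c⁻¹ * W0 = W0 * (c * x * c⁻¹) := by
      rw [← hc]
      calc c * x * c⁻¹ * (c * u * c⁻¹) = c * (x * u) * c⁻¹ := by group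
        _ = c * (u * x) * c⁻¹ := by rw [hux]
        _ = _ := by group
    have h5 : orderOf (c * x * c⁻¹) = 5 := by
      rw [← hx]
      exact MulEquiv.orderOf_eq (MulAut.conj c) x
    rcases cases_PP FT h204 h5 h1 with h2 | ⟨⟨v, hv, hvx⟩, -⟩
    · exact Or.inl (h2.congr (cequiv c x).symm)
    · refine key (c⁻¹ * v * c) (hv.trans (isConj_iff.2 ⟨c⁻¹, by rw [inv_inv]⟩)) ?_
      calc c⁻¹ * v * c * x = c⁻¹ * (v * (c * x * c⁻¹)) * c := by group
        _ = c⁻¹ * (c * x * c⁻¹ * v) * c := by rw [hvx]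
        _ = _ := by group

theorem noCore_hn {L : Type} [Group L] [Finite L] (big : Big) (h : Spor.IsoHN L) : NoCore L := by
  obtain ⟨e⟩ := h
  refine NoCore.of_equiv (fun U _ _ τ α β R R' c => ?_) e
  obtain ⟨u, v, a, b, r, d⟩ := exists_a5Dat c.simple (cand_hn big ⟨MulEquiv.refl _⟩ c)
  obtain ⟨φ, hφ, hm⟩ := c.pair.copy
  have dφ := d.map hφ
  have hC : ∀ w, φ w ∈ centralizer ({τ u} : Set Spor.HN) := fun w => c.pair.le_cent u (hm w)
  rcases hn_cases ((c.pair.orderOf_eq u).trans d.hu) dφ.ha (mem_centralizer_singleton_iff.1 (hC a)) with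
    (⟨h1, -⟩ | h1) | ⟨g, h, z, H⟩
  · exact dφ.hne (congrArg Subtype.val (h1 ⟨_, hC a⟩ ⟨_, hC b⟩ (by rw [← Subgroup.orderOf_coe]; exact dφ.ha)
      (by rw [← Subgroup.orderOf_coe]; exact dφ.hb) (Subtype.ext dφ.hab)))
  · exact not_solvable c.simple c.noncomm
      (Group.isSolvable_of_isSolvable_injective (f := φ.codRestrict _ hC) fun a b h => hφ (congrArg Subtype.val h))
  · exact H.false_of_core c d

end HN

end Cfsg.Agent.Cam.Spor
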