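import Cfsg.Agent.Cam.Spor.SP
import Cfsg.Agent.H582.Ly.FvFour
import Cfsg.Agent.TypeM.FactsLy
import Cfsg.Agent.S0205

/-!
# S3689, S3690: the row Ly (helper67)
-/

set_option autoImplicit false

namespace Cfsg.Agent.Cam.Spor

open Cfsg Subgroup Cfsg.Agent.TwoFusion.PerfCore

variable {L U : Type} [Group L] [Group U] {τ α β : U →* L} {R R' : Subgroup L}

/-- a simple group of even order does not embed in a group with one involution -/
theorem false_of_one_invol [Finite U] (hs : IsSimpleGroup U) (hn : ¬ IsMulCommutative U) (h2 : 2 ∣ Nat.card U)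
    {Y : Type*} [Group Y] {ψ : U →* Y} (hψ : Function.Injective ψ) {t : Y} (h : ∀ y : Y, y * y = 1 → y = 1 ∨ y = t) :
    False := by
  obtain ⟨a, ha, ha1⟩ := Core.exists_orderOf Nat.prime_two h2
  have haa : a * a = 1 := by rw [← pow_two, ← ha, pow_orderOf_eq_one]
  have key : ∀ b : U, b * b = 1 → b ≠ 1 → ψ b = t := fun b hb hb1 =>
    (h (ψ b) (by rw [← map_mul, hb, map_one])).resolve_left fun h1 => hb1 (hψ (h1.trans (map_one ψ).symm))
  refine ha1 (eq_one_of_comm hs hn fun g => ?_)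
  have h1 : g * a * g⁻¹ = a := hψ (by
    rw [key a haa ha1]
    refine key _ ?_ fun h2 => ha1 ?_
    · calc g * a * g⁻¹ * (g * a * g⁻¹) = g * (a * a) * g⁻¹ := by group
        _ = 1 := by rw [haa]; group
    · calc a = g⁻¹ * (g * a * g⁻¹) * g := by group
        _ = 1 := by rw [h2]; group)
  calc a * g = g * a * g⁻¹ * g := by rw [h1]
    _ = g * a := by group

theorem Pair.not_solvable [Finite L] (p : Pair τ R) (hn : ¬ IsMulCommutative U) (u : U) :
    ¬ Group.IsSolvable (centralizer ({τ u} : Set L)) := fun h => p.perf_ne_bot hn u (perf_eq_bot_of_solvable h)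

theorem inj_of_solvable_ker (hs : IsSimpleGroup U) (hn : ¬ IsMulCommutative U) {C Y : Type*} [Group C] [Group Y]
    {φ : U →* C} (hφ : Function.Injective φ) {π : C →* Y} (h : Group.IsSolvable π.ker) :
    Function.Injective (π.comp φ) := by
  rw [← MonoidHom.ker_eq_bot_iff]
  refine (hs.eq_bot_or_eq_top_of_normal _ inferInstance).resolve_right fun h1 => not_solvable hs hn ?_
  exact Group.isSolvable_of_isSolvable_injective (f := φ.codRestrict π.ker fun a => (h1 ▸ mem_top a : a ∈ (π.comp φ).ker))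
    fun a b hab => hφ (congrArg Subtype.val hab)

theorem noCore_ly [Finite L] (big : Big) (h : Spor.IsoLy L) : NoCore L := fun U _ _ τ α β R R' c => by
  have hU : 60 ∣ Nat.card U := by rcases cand_ly big h c with h1 | h1 <;> rw [h1] <;> norm_num
  obtain ⟨u, hu, -⟩ := Core.exists_orderOf (U := U) (r := 5) (by norm_num) (Dvd.dvd.trans (by norm_num) hU)
  have hx : orderOf (τ u) = 5 := (c.pair.orderOf_eq u).trans hu
  obtain ⟨-, -, -, ⟨M⟩⟩ := TypeM.FactsLy.facts h
  rcases H582.Ly.solvable_or (fun K _ _ h => S0205.result h) M hx with h1 | ⟨t, K, S, F⟩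
  · exact c.pair.not_solvable c.noncomm u h1
  have hKn : (K.subgroupOf (centralizer ({τ u} : Set L))).Normal := ⟨fun k hk g => by
    rw [mem_subgroupOf] at hk ⊢
    refine F.h.norm g ?_ k hk
    rw [mem_centralizer_singleton_iff.1 g.2, mul_inv_cancel_right]
    exact mem_zpowers _⟩
  obtain ⟨φ, hφ, hm⟩ := c.pair.copy
  let π := QuotientGroup.mk' (K.subgroupOf (centralizer ({τ u} : Set L)))
  have : Fact (Nat.Prime 5) := ⟨by norm_num⟩
  refine false_of_one_invol c.simple c.noncomm (Dvd.dvd.trans (by norm_num) hU)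
    (inj_of_solvable_ker c.simple c.noncomm (φ := φ.codRestrict _ fun a => c.pair.le_cent u (hm a))
      (fun a b hab => hφ (congrArg Subtype.val hab)) (π := π) ?_) (t := π ⟨t, F.t_mem_cent⟩) fun y hy => ?_
  · rw [QuotientGroup.ker_mk']
    have h5 : IsPGroup 5 (K.subgroupOf (centralizer ({τ u} : Set L))) := F.isPGroup_K.comap_subtype
    have := h5.isNilpotent
    infer_instance
  · obtain ⟨g, rfl⟩ := QuotientGroup.mk'_surjective _ y
    obtain ⟨k, hk, s, hs, hg⟩ := F.h.fac g (mem_centralizer_singleton_iff.1 g.2)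
    have hsC : s ∈ centralizer ({τ u} : Set L) := mem_centralizer_singleton_iff.2 (F.h.Sf s hs)
    have h1 : π g = π ⟨s, hsC⟩ := by
      have hkC : k ∈ centralizer ({τ u} : Set L) := mem_centralizer_singleton_iff.2 (F.h.cent k hk)
      rw [show g = ⟨k, hkC⟩ * ⟨s, hsC⟩ from Subtype.ext hg, map_mul,
        show π ⟨k, hkC⟩ = 1 from (QuotientGroup.eq_one_iff _).2 hk, one_mul]
    change π g * π g = 1 at hy
    change π g = 1 ∨ π g = _
    rw [h1] at hy ⊢
    have h2 : s * s ∈ K := by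
      rw [← map_mul] at hy
      exact mem_subgroupOf.1 ((QuotientGroup.eq_one_iff (N := K.subgroupOf (centralizer ({τ u} : Set L))) _).1 hy)
    have h3 : s ^ 5 * s ^ 5 = 1 := by
      rw [← F.pow_five _ h2, ← pow_two s, ← pow_mul, ← pow_add]
    have h4 : π ⟨s, hsC⟩ = π (⟨s, hsC⟩ ^ 5) := by
      rw [map_pow]
      calc π ⟨s, hsC⟩ = (π ⟨s, hsC⟩ * π ⟨s, hsC⟩) ^ 2 * π ⟨s, hsC⟩ := by rw [hy]; group
        _ = _ := by rw [← pow_two, ← pow_mul, ← pow_succ]
    rw [h4]
    rcases F.uinv _ (pow_mem hs 5) h3 with h5 | h5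
    · exact Or.inl (by rw [show (⟨s, hsC⟩ : centralizer ({τ u} : Set L)) ^ 5 = 1 from Subtype.ext h5, map_one])
    · exact Or.inr (congrArg π (Subtype.ext h5))

end Cfsg.Agent.Cam.Spor
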