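import Cfsg.Agent.Cam.Spor.RowLy
import Cfsg.Agent.H265.SuzCent
import Cfsg.Agent.H868.CopSuz
import Cfsg.Agent.H171.Odd.SuzFive

/-!
# S3689, S3690: automorphisms induced on the simple quotient; the row Suz (helper67)
-/

set_option autoImplicit false

namespace Cfsg.Agent.Cam.Spor

open Cfsg Subgroup Cfsg.Agent.TwoFusion.PerfCore
open scoped commutatorElement

variable {L U X : Type} [Group L] [Group U] [Group X] {τ α β : U →* L} {R R' P : Subgroup L} {f : P →* X}

/-- an element normalizing `P` acts on the simple quotient -/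
theorem QS.exists_act (h : QS P f) : ∃ a : normalizer (P : Set L) →* MulAut X,
    ∀ (s : normalizer (P : Set L)) (p : P), a s (f p) = f (P.normalizerMonoidHom s p) := by
  have hk : f.ker = center P := le_antisymm h.ker fun z hz => by
    refine eq_one_of_comm h.simple h.noncomm fun y => ?_
    obtain ⟨p, rfl⟩ := h.surj y
    rw [← map_mul, ← map_mul, mem_center_iff.1 hz p]
  let e : P ⧸ center P ≃* X := (QuotientGroup.quotientMulEquivOfEq hk.symm).trans
    (QuotientGroup.quotientKerEquivOfSurjective f h.surj)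
  have he : ∀ p : P, e (QuotientGroup.mk p) = f p := fun p => rfl
  let b : MulAut P →* MulAut (P ⧸ center P) :=
    { toFun := fun θ => QuotientGroup.congr (center P) (center P) θ (characteristic_iff_map_eq.1 inferInstance _)
      map_one' := by
        ext v
        induction v using QuotientGroup.induction_on with
        | H q => rfl
      map_mul' := fun a b => by
        ext v
        induction v using QuotientGroup.induction_on with
        | H q => rfl }
  refine ⟨(MulAut.congr e).toMonoidHom.comp (b.comp P.normalizerMonoidHom), fun s p => ?_⟩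
  change e (b (P.normalizerMonoidHom s) (e.symm (f p))) = _
  rw [← he p, MulEquiv.symm_apply_apply]
  rfl

/-- an element acting trivially on the simple quotient centralizes `P` -/
theorem QS.mem_cent (h : QS P f) (hP : ⁅P, P⁆ = P) (s : normalizer (P : Set L))
    (hs : ∀ p : P, f (P.normalizerMonoidHom s p) = f p) : (s : L) ∈ centralizer (P : Set L) := by
  have key : ∀ p ∈ P, ∀ q ∈ P, ((s : L) * p * (s : L)⁻¹ * p⁻¹) * q = q * ((s : L) * p * (s : L)⁻¹ * p⁻¹) := by
    intro p hp q hq
    have h1 : P.normalizerMonoidHom s ⟨p, hp⟩ * (⟨p, hp⟩ : P)⁻¹ ∈ f.ker := by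
      rw [MonoidHom.mem_ker, map_mul, map_inv, hs, mul_inv_cancel]
    exact (congrArg Subtype.val (mem_center_iff.1 (h.ker h1) ⟨q, hq⟩)).symm
  -- `p ↦ [s, p]` is a homomorphism to an abelian group
  let D : Subgroup L := P ⊓ centralizer ({(s : L)} : Set L)
  have hD : ⁅P, P⁆ ≤ D := by
    rw [Subgroup.commutator_le]
    intro p hp q hq
    refine mem_inf.2 ⟨hP ▸ commutator_mem_commutator hp hq, mem_centralizer_singleton_iff.2 ?_⟩
    have e1 : (s : L) * p * (s : L)⁻¹ = ((s : L) * p * (s : L)⁻¹ * p⁻¹) * p := by group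
    have e2 : (s : L) * q * (s : L)⁻¹ = ((s : L) * q * (s : L)⁻¹ * q⁻¹) * q := by group
    have m1 : (s : L) * p * (s : L)⁻¹ * p⁻¹ ∈ P := mul_mem (conj_mem_of_norm s.2 hp) (inv_mem hp)
    have c1 := key p hp
    have c2 := key q hq
    generalize (s : L) * p * (s : L)⁻¹ * p⁻¹ = a at e1 m1 c1
    generalize (s : L) * q * (s : L)⁻¹ * q⁻¹ = b at e2 c2
    have e3 : (s : L) * ⁅p, q⁆ * (s : L)⁻¹ = ⁅a * p, b * q⁆ := by rw [← e1, ← e2, conjugate_commutatorElement]
    have hap : Commute a p := c1 p hp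
    have haq : Commute a q := c1 q hq
    have hbp : Commute b p := c2 p hp
    have hbq : Commute b q := c2 q hq
    have hba : Commute b a := c2 a m1
    have e4 : ⁅a * p, b * q⁆ = ⁅p, q⁆ := by
      simp only [commutatorElement_def, mul_inv_rev]
      calc a * p * (b * q) * (p⁻¹ * a⁻¹) * (q⁻¹ * b⁻¹)
          = a * (p * b) * q * p⁻¹ * (a⁻¹ * q⁻¹) * b⁻¹ := by group
        _ = a * b * (p * q * p⁻¹ * q⁻¹) * a⁻¹ * b⁻¹ := by rw [← hbp.eq, haq.inv_inv.eq]; group
        _ = (p * q * p⁻¹ * q⁻¹) * (a * b) * a⁻¹ * b⁻¹ := by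
          rw [(((((hap.mul_left hbp).mul_right (haq.mul_left hbq)).mul_right (hap.mul_left hbp).inv_right).mul_right
            (haq.mul_left hbq).inv_right)).eq]
        _ = _ := by rw [← hba.eq]; group
    calc ⁅p, q⁆ * s = (s : L) * ⁅p, q⁆ * (s : L)⁻¹ * s := by rw [e3, e4]
      _ = _ := by group
  rw [hP] at hD
  exact mem_centralizer_iff.2 fun p hp => mem_centralizer_singleton_iff.1 (hD hp).2

/-- an automorphism whose fixed subgroup has index `r + 1` and contains an element of prime order `r` -/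
theorem aut_eq_one [Finite X] (hs : IsSimpleGroup X) {σ : MulAut X} {m r : ℕ} (hr : r.Prime) (hσ : σ ^ m = 1)
    (hm : m.Coprime r) {D : Subgroup X} (hD : ∀ y ∈ D, σ y = y) (hi : D.index = r + 1) {y : X} (hy : y ∈ D)
    (ho : orderOf y = r) : σ = 1 := by
  classical
  have := Fintype.ofFinite (X ⧸ D)
  have hc : Fintype.card (X ⧸ D) = r + 1 := by rw [← Nat.card_eq_fintype_card]; exact hi
  let ρ := MulAction.toPermHom X (X ⧸ D)
  have hρ : Function.Injective ρ := by
    rw [← MonoidHom.ker_eq_bot_iff, ← normalCore_eq_ker]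
    refine (hs.eq_bot_or_eq_top_of_normal _ inferInstance).resolve_right fun h => ?_
    have h1 : D = ⊤ := top_le_iff.1 (h ▸ normalCore_le D)
    rw [h1, index_top] at hi
    have := hr.pos
    omega
  let t : Equiv.Perm (X ⧸ D) := Quotient.congr σ.toEquiv fun a b => by
    rw [QuotientGroup.leftRel_apply, QuotientGroup.leftRel_apply]
    change _ ↔ (σ a)⁻¹ * σ b ∈ D
    rw [← map_inv, ← map_mul]
    refine ⟨fun h => by rwa [hD _ h], fun h => ?_⟩
    rwa [σ.injective (hD _ h)] at h
  have ht : ∀ g : X, t (QuotientGroup.mk g) = QuotientGroup.mk (σ g) := fun g => rfl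
  have htn : ∀ (n : ℕ) (g : X), (t ^ n) (QuotientGroup.mk g) = QuotientGroup.mk ((σ ^ n) g) := fun n => by
    induction n with
    | zero => exact fun g => rfl
    | succ n ih => intro g; rw [pow_succ', pow_succ', Equiv.Perm.mul_apply, ih, ht]; rfl
  have h1 : t ^ m = 1 := by
    ext v
    induction v using QuotientGroup.induction_on with
    | H g => rw [htn, hσ]; rfl
  have hoy : orderOf (ρ y) = r := by rw [orderOf_injective ρ hρ, ho]
  have hct : (ρ y).cycleType = {r} := by
    have h2 := Equiv.Perm.isCycle_of_prime_order' (σ := ρ y) (by rw [hoy]; exact hr)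
      (by rw [hoy, hc]; have := hr.two_le; omega)
    rw [h2.cycleType, ← h2.orderOf, hoy]
  have hcard : Nat.card (centralizer ({ρ y} : Set (Equiv.Perm (X ⧸ D)))) = r := by
    rw [Equiv.Perm.nat_card_centralizer, hct, hc]
    simp
  have h2 : t ∈ centralizer ({ρ y} : Set (Equiv.Perm (X ⧸ D))) := by
    refine mem_centralizer_singleton_iff.2 ?_
    ext v
    induction v using QuotientGroup.induction_on with
    | H g =>
      change t (QuotientGroup.mk (y * g)) = QuotientGroup.mk (y * σ g)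
      rw [ht, map_mul, hD y hy]
  have h3 : t ^ r = 1 := by
    have := congrArg Subtype.val (pow_card_eq_one' (x := (⟨t, h2⟩ : centralizer ({ρ y} : Set (Equiv.Perm (X ⧸ D))))))
    rwa [hcard] at this
  have h4 : t = 1 := by
    rw [← pow_one t, ← show Nat.gcd m r = 1 from hm, pow_gcd_eq_one]
    exact ⟨h1, h3⟩
  ext g
  refine hρ ?_
  ext v
  induction v using QuotientGroup.induction_on with
  | H z =>
    have h5 : (QuotientGroup.mk (σ z) : X ⧸ D) = QuotientGroup.mk z := by rw [← ht, h4]; rfl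
    have h6 : (QuotientGroup.mk (σ (g * z)) : X ⧸ D) = QuotientGroup.mk (g * z) := by rw [← ht, h4]; rfl
    change σ g • (QuotientGroup.mk z : X ⧸ D) = QuotientGroup.mk (g * z)
    rw [← h5, ← h6, map_mul]
    rfl

/-- the automorphism of the simple quotient induced by `τ v` -/
theorem Core.exists_aut [Finite L] (c : Core τ α β R R') {u v : U} (hv : v * u * v⁻¹ ∈ zpowers u) (hne : v * u ≠ u * v)
    {f : perf (centralizer ({τ u} : Set L)) →* X} (h : QS _ f) : ∃ (σ : MulAut X) (ρ : U →* X),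
      Function.Injective ρ ∧ (∀ a, σ (ρ a) = ρ a) ∧ σ ≠ 1 ∧ ∀ n : ℕ, v ^ n = 1 → σ ^ n = 1 := by
  obtain ⟨φ, hφ, hm⟩ := c.pair.copy
  obtain ⟨a, ha⟩ := h.exists_act
  have hN : τ v ∈ normalizer ((perf (centralizer ({τ u} : Set L)) : Subgroup L) : Set L) := by
    refine normalizer_le_normalizer_perf _ (mem_normalizer_of fun y hy => mem_centralizer_singleton_iff.2 ?_)
    have h1 : v⁻¹ ∈ normalizer ((zpowers u : Subgroup U) : Set U) := by
      have : Finite U := Finite.of_injective τ c.pair.inj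
      refine inv_mem (mem_normalizer_of ?_)
      rintro _ ⟨i, rfl⟩
      change v * u ^ i * v⁻¹ ∈ _
      rw [← conj_zpow]
      exact zpow_mem hv i
    obtain ⟨i, hi⟩ := conj_mem_of_norm h1 (mem_zpowers u)
    have h2 : (τ v)⁻¹ * τ u * τ v = τ u ^ i := by
      rw [← map_zpow, show u ^ i = v⁻¹ * u * v⁻¹⁻¹ from hi, inv_inv, map_mul, map_mul, map_inv]
    have h3 : Commute y (τ u ^ i) := (show Commute y (τ u) from mem_centralizer_singleton_iff.1 hy).zpow_right i
    calc τ v * y * (τ v)⁻¹ * τ u = τ v * (y * ((τ v)⁻¹ * τ u * τ v)) * (τ v)⁻¹ := by group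
      _ = τ v * (((τ v)⁻¹ * τ u * τ v) * y) * (τ v)⁻¹ := by rw [h2, h3.eq]
      _ = _ := by group
  refine ⟨a ⟨τ v, hN⟩, _, h.inj c.simple c.noncomm hφ fun b => c.pair.le_perf_cent u (hm b), fun b => ?_, fun h1 => ?_,
    fun n hn => ?_⟩
  · refine (ha _ _).trans (congrArg f (Subtype.ext ?_))
    change τ v * φ b * (τ v)⁻¹ = φ b
    rw [c.pair.comm v _ (hm b), mul_inv_cancel_right]
  · refine hne (c.comm_of_cent_perf (h.mem_cent (perf_perfect _) ⟨τ v, hN⟩ fun p => ?_))
    rw [← ha, h1]
    rfl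
  · rw [← map_pow, show (⟨τ v, hN⟩ : normalizer _) ^ n = 1 from Subtype.ext (by
      change τ v ^ n = 1
      rw [← map_pow, hn, map_one]), map_one]

/-- the simple quotient does not have order 360 when `U` has order 60 -/
theorem Core.false_of_six [Finite L] [Finite U] [Finite X] (c : Core τ α β R R') {u : U} (hu : orderOf u = 5)
    (hU : Nat.card U = 60) {f : perf (centralizer ({τ u} : Set L)) →* X} (h : QS _ f) (hX : Nat.card X = 360) :
    False := by
  obtain ⟨v, k, hvk, hv⟩ := exists_inv c.simple c.noncomm hu (by rw [hU]; norm_num)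
  obtain ⟨σ, ρ, hρ, hσ, hσ1, hσn⟩ := c.exists_aut (hv ▸ inv_mem (mem_zpowers u)) (not_comm_of_inv hu hv) h
  refine hσ1 (aut_eq_one h.simple (r := 5) (by norm_num) (hσn _ hvk) (Nat.Coprime.pow_left _ (by norm_num))
    (D := ρ.range) (by rintro _ ⟨a, rfl⟩; exact hσ a) ?_ ⟨u, rfl⟩ (by rw [orderOf_injective ρ hρ, hu]))
  have h1 := card_mul_index ρ.range
  rw [← Nat.card_congr (MonoidHom.ofInjective hρ).toEquiv, hU, hX] at h1
  omega

theorem noCore_suz [Finite L] (big : Big) (h : Spor.IsoSuz L) : NoCore L := by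
  obtain ⟨e⟩ := h
  have : Finite Spor.Suz := Finite.of_equiv _ e.toEquiv
  refine NoCore.of_equiv (fun U _ _ τ α β R R' c => ?_) e
  have hU := cand_suz big ⟨MulEquiv.refl _⟩ c
  obtain ⟨u, hu, hu1⟩ := Core.exists_orderOf (U := U) (r := 5) (by norm_num)
    (by rcases hU with h1 | h1 <;> rw [h1] <;> norm_num)
  have hx : orderOf (τ u) = 5 := (c.pair.orderOf_eq u).trans hu
  have h1 := dvd_of_not_dvd (j := 4) Nat.prime_two (H265.SuzCent.dvd_five hx) (H868.CopSuz.cb_five_two _ hx)
  have h2 := dvd_of_not_dvd (k := 4) (j := 2) (N := 400) Nat.prime_three h1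
    (H171.Odd.SuzFive.suz_five ⟨MulEquiv.refl _⟩ hx)
  obtain ⟨X, _, _, f, hf, hX⟩ := c.exists_qs big (by norm_num) hu (l := [(2, 4), (3, 2), (5, 1)]) (N := 720)
    (by decide +kernel) h2 (by decide +kernel) (ex := []) (by decide +kernel) (by simp)
  rcases (by decide +kernel : ∀ o ∈ ords [(2, 4), (3, 2), (5, 1)] 720, o = 60 ∨ o = 360) _ hX with h3 | h3
  · exact c.false_of_qs hu1 hf (by omega)
  · rcases hU with h4 | h4
    · exact c.false_of_six hu h4 hf h3
    · exact c.false_of_qs hu1 hf (by omega)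

end Cfsg.Agent.Cam.Spor
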