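import Cfsg.Agent.Cam.Spor.BSq

/-!
# S3689, S3690: a double cover `C(t) → L` (helper66)
-/

set_option autoImplicit false

namespace Cfsg.Agent.Cam.Spor

open Cfsg Subgroup

/-- `π : C(t) → L` is onto with kernel `⟨t⟩` of order 2 -/
structure Cov {M L : Type} [Group M] [Group L] (t : M) (π : centralizer ({t} : Set M) →* L) : Prop where
  surj : Function.Surjective π
  ker : ∀ g, π g = 1 ↔ (g : M) = 1 ∨ (g : M) = t
  ord : orderOf t = 2

variable {M L : Type} [Group M] [Group L] {t : M} {π : centralizer ({t} : Set M) →* L}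

theorem exists_cov [Finite M] (ht : orderOf t = 2) (h2 : Nat.card (center (centralizer ({t} : Set M))) = 2)
    (e : centralizer ({t} : Set M) ⧸ center (centralizer ({t} : Set M)) ≃* L) :
    ∃ π : centralizer ({t} : Set M) →* L, Cov t π := by
  classical
  let t' : centralizer ({t} : Set M) := ⟨t, mem_centralizer_singleton_iff.2 rfl⟩
  have h1 : zpowers t' = center (centralizer ({t} : Set M)) := by
    refine eq_of_le_of_card_ge (zpowers_le.2 (mem_center_iff.2 fun g =>
      Subtype.ext (mem_centralizer_singleton_iff.1 g.2))) ?_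
    rw [h2, Nat.card_zpowers, ← Subgroup.orderOf_coe, ht]
  refine ⟨e.toMonoidHom.comp (QuotientGroup.mk' _), e.surjective.comp (QuotientGroup.mk'_surjective _), fun g => ?_, ht⟩
  have h3 : orderOf t' = 2 := by rw [← Subgroup.orderOf_coe, ht]
  change e (QuotientGroup.mk g) = 1 ↔ _
  rw [map_eq_one_iff e e.injective, QuotientGroup.eq_one_iff, ← h1, mem_zpowers_iff_mem_range_orderOf, h3]
  simp only [Finset.mem_image, Finset.mem_range]
  constructor
  · rintro ⟨i, hi, rfl⟩
    interval_cases i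
    · exact Or.inl (by rw [pow_zero]; rfl)
    · exact Or.inr (by rw [pow_one])
  · rintro (h | h)
    · exact ⟨0, by norm_num, Subtype.ext (by rw [pow_zero, h]; rfl)⟩
    · exact ⟨1, by norm_num, Subtype.ext (by rw [pow_one, h])⟩

theorem Cov.tt (c : Cov t π) : t * t = 1 := by rw [← pow_two, ← c.ord, pow_orderOf_eq_one]

theorem Cov.t_ne (c : Cov t π) : t ≠ 1 := fun h => by
  have := c.ord
  rw [h, orderOf_one] at this
  norm_num at this

theorem comm_t (g : centralizer ({t} : Set M)) : (g : M) * t = t * g := mem_centralizer_singleton_iff.1 g.2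

theorem Cov.eq_iff (c : Cov t π) {a b : centralizer ({t} : Set M)} : π a = π b ↔ (a : M) = b ∨ (a : M) = b * t := by
  rw [← mul_inv_eq_one, ← map_inv, ← map_mul, c.ker, Subgroup.coe_mul, Subgroup.coe_inv, mul_inv_eq_one,
    mul_inv_eq_iff_eq_mul, comm_t]

theorem Cov.conj (c : Cov t π) (g : M) : ∃ π' : centralizer ({g * t * g⁻¹} : Set M) →* L, Cov (g * t * g⁻¹) π' ∧
    ∀ (y : centralizer ({t} : Set M)) (y' : centralizer ({g * t * g⁻¹} : Set M)), (y' : M) = g * y * g⁻¹ →
      π' y' = π y := by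
  have hm : ∀ y : centralizer ({g * t * g⁻¹} : Set M), g⁻¹ * y * g ∈ centralizer ({t} : Set M) := fun y =>
    mem_centralizer_singleton_iff.2 (by
      calc g⁻¹ * y * g * t = g⁻¹ * (y * (g * t * g⁻¹)) * g := by group
        _ = _ := by rw [comm_t y]; group)
  let j : centralizer ({g * t * g⁻¹} : Set M) →* centralizer ({t} : Set M) :=
    { toFun := fun y => ⟨_, hm y⟩
      map_one' := Subtype.ext (by change g⁻¹ * 1 * g = 1; group)
      map_mul' := fun a b => Subtype.ext (by
        change g⁻¹ * (a * b) * g = g⁻¹ * a * g * (g⁻¹ * b * g)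
        group) }
  have hj : ∀ (y : centralizer ({t} : Set M)) (y' : centralizer ({g * t * g⁻¹} : Set M)), (y' : M) = g * y * g⁻¹ →
      j y' = y := fun y y' h => Subtype.ext (by
    change g⁻¹ * y' * g = y
    rw [h]
    group)
  refine ⟨π.comp j, ⟨fun x => ?_, fun y => ?_, ?_⟩, fun y y' h => congrArg π (hj y y' h)⟩
  · obtain ⟨y, rfl⟩ := c.surj x
    refine ⟨⟨g * y * g⁻¹, mem_centralizer_singleton_iff.2 ?_⟩, congrArg π (hj y _ rfl)⟩
    calc g * y * g⁻¹ * (g * t * g⁻¹) = g * (y * t) * g⁻¹ := by group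
      _ = _ := by rw [comm_t y]; group
  · rw [MonoidHom.comp_apply, c.ker]
    change g⁻¹ * y * g = 1 ∨ g⁻¹ * y * g = t ↔ _
    refine or_congr ⟨fun h => ?_, fun h => by rw [h]; group⟩ ⟨fun h => ?_, fun h => by rw [h]; group⟩
    · calc (y : M) = g * (g⁻¹ * y * g) * g⁻¹ := by group
        _ = 1 := by rw [h]; group
    · calc (y : M) = g * (g⁻¹ * y * g) * g⁻¹ := by group
        _ = _ := by rw [h]
  · rw [← c.ord]
    exact (SemiconjBy.orderOf_eq g (show SemiconjBy g t (g * t * g⁻¹) by unfold SemiconjBy; group)).symm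

theorem Cov.sq (c : Cov t π) {g : centralizer ({t} : Set M)} (h : π g = 1) : g * g = 1 := by
  apply Subtype.ext
  rcases (c.ker g).1 h with h | h
  · rw [Subgroup.coe_mul, h, one_mul, Subgroup.coe_one]
  · rw [Subgroup.coe_mul, h, c.tt, Subgroup.coe_one]

/-- lifting an element of odd prime order -/
theorem Cov.lift (c : Cov t π) {x : L} {p : ℕ} (hp : p.Prime) (hp2 : Odd p) (hx : orderOf x = p) :
    ∃ a : centralizer ({t} : Set M), orderOf (a : M) = p ∧ π a = x := by
  have : Fact p.Prime := ⟨hp⟩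
  obtain ⟨b, rfl⟩ := c.surj x
  have h1 : π (b ^ (p + 1)) = π b := by rw [map_pow, pow_succ, ← hx, pow_orderOf_eq_one, one_mul]
  refine ⟨b ^ (p + 1), ?_, h1⟩
  rw [Subgroup.orderOf_coe]
  refine orderOf_eq_prime ?_ fun h => ?_
  · obtain ⟨k, hk⟩ := hp2
    have h2 := c.sq (g := b ^ p) (by rw [map_pow, ← hx, pow_orderOf_eq_one])
    rw [← pow_mul, mul_comm, pow_mul, show p + 1 = 2 * (k + 1) by omega, pow_mul, pow_two, h2, one_pow]
  · rw [h, map_one] at h1
    rw [← h1, orderOf_one] at hx
    exact hp.one_lt.ne hx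

/-- conjugation relations between elements of odd order lift -/
theorem Cov.eq_of_odd (c : Cov t π) {a b : centralizer ({t} : Set M)} {n : ℕ} (hn : Odd n) (ha : (a : M) ^ n = 1)
    (hb : (b : M) ^ n = 1) (h : π a = π b) : (a : M) = b := by
  refine (c.eq_iff.1 h).resolve_right fun h1 => c.t_ne ?_
  obtain ⟨k, rfl⟩ := hn
  rw [h1, (show Commute (b : M) t from comm_t b).mul_pow, hb, one_mul, pow_succ, pow_mul, pow_two, c.tt, one_pow,
    one_mul] at ha
  exact ha

theorem Cov.comm (c : Cov t π) {a g : centralizer ({t} : Set M)} {n : ℕ} (hn : Odd n) (ha : (a : M) ^ n = 1)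
    (h : π g * π a = π a * π g) : (g : M) * a = a * g := by
  have h1 := c.eq_of_odd (a := g * a * g⁻¹) (b := a) hn
    (by rw [Subgroup.coe_mul, Subgroup.coe_mul, Subgroup.coe_inv, conj_pow, ha, mul_one, mul_inv_cancel]) ha
    (by rw [map_mul, map_mul, map_inv, h, mul_inv_cancel_right])
  exact mul_inv_eq_iff_eq_mul.1 h1

theorem Cov.card_comap [Finite M] (c : Cov t π) (Y : Subgroup L) : Nat.card (Y.comap π) = 2 * Nat.card Y := by
  have : Finite L := Finite.of_surjective _ c.surj
  have hk : π.ker = zpowers ⟨t, mem_centralizer_singleton_iff.2 rfl⟩ := by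
    refine le_antisymm (fun g hg => ?_) (zpowers_le.2 ((c.ker _).2 (Or.inr rfl)))
    rcases (c.ker g).1 hg with h | h
    · rw [show g = 1 from Subtype.ext h]
      exact one_mem _
    · rw [show g = ⟨t, mem_centralizer_singleton_iff.2 rfl⟩ from Subtype.ext h]
      exact mem_zpowers _
  have h1 : Nat.card (centralizer ({t} : Set M)) = Nat.card L * 2 := by
    rw [card_eq_card_quotient_mul_card_subgroup π.ker,
      Nat.card_congr (QuotientGroup.quotientKerEquivOfSurjective π c.surj).toEquiv, hk, Nat.card_zpowers,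
      ← Subgroup.orderOf_coe, c.ord]
  have h2 := (Y.comap π).card_mul_index
  rw [index_comap_of_surjective _ c.surj, h1, ← Y.card_mul_index] at h2
  exact Nat.eq_of_mul_eq_mul_right (Nat.pos_of_ne_zero index_ne_zero_of_finite) (by rw [h2]; ring)

theorem card_subgroupOf (A B : Subgroup M) : Nat.card (A.subgroupOf B) = Nat.card (A ⊓ B : Subgroup M) := by
  rw [← inf_subgroupOf_right]
  exact Nat.card_congr (subgroupOfEquivOfLe inf_le_right).toEquiv

theorem Cov.comap_cent (c : Cov t π) {a : centralizer ({t} : Set M)} {n : ℕ} (hn : Odd n) (ha : (a : M) ^ n = 1) :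
    (centralizer ({π a} : Set L)).comap π = (centralizer ({(a : M)} : Set M)).subgroupOf _ := by
  ext g
  rw [mem_comap, mem_subgroupOf, mem_centralizer_singleton_iff, mem_centralizer_singleton_iff]
  exact ⟨c.comm hn ha, fun h => by rw [← map_mul, ← map_mul]; exact congrArg π (Subtype.ext h)⟩

theorem Cov.card_cent [Finite M] (c : Cov t π) {a : centralizer ({t} : Set M)} {n : ℕ} (hn : Odd n)
    (ha : (a : M) ^ n = 1) : Nat.card (centralizer ({(a : M)} : Set M) ⊓ centralizer ({t} : Set M) : Subgroup M) =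
      2 * Nat.card (centralizer ({π a} : Set L)) := by
  rw [← c.card_comap, c.comap_cent hn ha, card_subgroupOf]

end Cfsg.Agent.Cam.Spor
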