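import Cfsg.Agent.Cam.Spor.BCov
import Cfsg.Agent.H895.SLT.ResCard

/-!
# S3689, S3690: the class `5A` of the Baby Monster, the local argument (helper66)
-/

set_option autoImplicit false

namespace Cfsg.Agent.Cam.Spor

open Cfsg Subgroup Cfsg.Agent.TwoFusion.PerfCore

variable {L U : Type} [Group L] [Group U] {τ α β : U →* L} {R R' : Subgroup L}

theorem card_aut_360 [Finite U] (hs : IsSimpleGroup U) (h : Nat.card U = 360) : Nat.card (MulAut U) = 1440 := by
  obtain ⟨e⟩ := S0497.result h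
  rw [Nat.card_congr (MulAut.congr e).toEquiv, H895.SLT.card_aut_a6]

/-- the automorphisms of `A₆` fixing an element of order five -/
theorem card_stab_360 [Finite U] (hs : IsSimpleGroup U) (h : Nat.card U = 360) {u : U} (hu : orderOf u = 5)
    {D : Type} [Group D] {a : D →* MulAut U} (ha : Function.Injective a) (hD : ∀ d, a d u = u) : Nat.card D ≤ 10 := by
  obtain ⟨e⟩ := S0497.result h
  let b : D →* MulAut (alternatingGroup (Fin 6)) := (MulAut.congr e).toMonoidHom.comp a
  have hb : Function.Injective b := (MulAut.congr e).injective.comp ha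
  have hpc : Function.Injective StdAlt.Six.pc := fun _ _ h => StdAlt.Six.pc_inj h
  have h1 : StdAlt.Six.pc.range.index = 2 := by
    have h2 := StdAlt.Six.pc.range.card_mul_index
    rw [← Nat.card_congr (MonoidHom.ofInjective hpc).toEquiv, Nat.card_perm, Nat.card_eq_fintype_card (α := Fin 6),
      Fintype.card_fin, H895.SLT.card_aut_a6, show Nat.factorial 6 = 720 from rfl] at h2
    omega
  have hn := normal_of_index_eq_two h1
  have ho : orderOf ((e u : alternatingGroup (Fin 6)) : Equiv.Perm (Fin 6)) = 5 := by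
    rw [Subgroup.orderOf_coe, MulEquiv.orderOf_eq, hu]
  have hct : ((e u : alternatingGroup (Fin 6)) : Equiv.Perm (Fin 6)).cycleType = {5} := by
    have h1 := Equiv.Perm.isCycle_of_prime_order' (σ := ((e u : alternatingGroup (Fin 6)) : Equiv.Perm (Fin 6)))
      (by rw [ho]; norm_num) (by rw [ho, Fintype.card_fin]; norm_num)
    rw [h1.cycleType, ← h1.orderOf, ho]
  have h2 := H291.RowsA.card_cent_cycle hct (Or.inr rfl)
  have h3 : b.range.comap StdAlt.Six.pc ≤
      centralizer ({((e u : alternatingGroup (Fin 6)) : Equiv.Perm (Fin 6))} : Set (Equiv.Perm (Fin 6))) := by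
    rintro σ ⟨d, hd⟩
    refine mem_centralizer_singleton_iff.2 (mul_inv_eq_iff_eq_mul.1 ?_)
    rw [← StdAlt.Six.pc_apply, ← hd]
    change ((e (a d (e.symm (e u))) : alternatingGroup (Fin 6)) : Equiv.Perm (Fin 6)) = _
    rw [e.symm_apply_apply, hD]
  have h4 := card_le_of_le h3
  rw [h2, Nat.card_congr ((b.range.comap StdAlt.Six.pc).equivMapOfInjective _ hpc).toEquiv, map_comap_eq] at h4
  have h5 := (StdAlt.Six.pc.range.subgroupOf b.range).card_mul_index
  have h6 : (StdAlt.Six.pc.range.subgroupOf b.range).index ≤ 2 :=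
    Nat.le_of_dvd (by norm_num) (h1 ▸ relIndex_dvd_index_of_normal _ _)
  rw [card_subgroupOf] at h5
  rw [Nat.card_congr (MonoidHom.ofInjective hb).toEquiv, ← h5]
  exact Nat.mul_le_mul h4 h6

/-- the situation of an element of the class `5A` of `B` -/
structure F5A (x s : L) (K : Subgroup L) : Prop where
  sd : SD x s K
  card : Nat.card (centralizer ({x} : Set L)) = 443520000
  inv : ∀ k ∈ K, orderOf k = 2 → ¬ 9 ∣ Nat.card (centralizer ({x} : Set L) ⊓ centralizer ({k} : Set L) : Subgroup L) ∨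
    Nat.card (centralizer ({x} : Set L) ⊓ centralizer ({k} : Set L) : Subgroup L) = 28800 ∨
    ∀ w, w ^ 5 = 1 → k * w * k⁻¹ = w⁻¹ → w = 1

theorem Core.false_28800 [Finite L] [Finite U] (big : Big) (c : Core τ α β R R') (hU : Nat.card U = 360) {u : U}
    (hu : orderOf u = 5) {k : L} (hk : orderOf k = 2) (hkx : k * τ u = τ u * k) (hkR : ∀ r ∈ R, k * r = r * k)
    (h : Nat.card (centralizer ({τ u} : Set L) ⊓ centralizer ({k} : Set L) : Subgroup L) = 28800) : False := by
  have hRY : R ≤ centralizer ({τ u} : Set L) ⊓ centralizer ({k} : Set L) :=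
    le_inf (c.pair.le_cent u) fun r hr => mem_centralizer_singleton_iff.2 (hkR r hr).symm
  have hYx : ∀ y ∈ centralizer ({τ u} : Set L) ⊓ centralizer ({k} : Set L), y * τ u = τ u * y := fun y hy =>
    mem_centralizer_singleton_iff.1 hy.1
  have hYz : ∀ y ∈ centralizer ({τ u} : Set L) ⊓ centralizer ({k} : Set L), Commute y (τ u * k) := fun y hy =>
    (show Commute y (τ u) from hYx y hy).mul_right (mem_centralizer_singleton_iff.1 hy.2)
  have hz : τ u * k ∈ centralizer ({τ u} : Set L) ⊓ centralizer ({k} : Set L) :=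
    ⟨mem_centralizer_singleton_iff.2 (by rw [mul_assoc, hkx]),
      mem_centralizer_singleton_iff.2 (by rw [← mul_assoc, hkx])⟩
  generalize centralizer ({τ u} : Set L) ⊓ centralizer ({k} : Set L) = Y at h hRY hYx hYz hz
  have h1 : (zpowers (τ u * k)).relIndex Y = 2880 := by
    have h2 := ((zpowers (τ u * k)).subgroupOf Y).card_mul_index
    rw [Nat.card_congr (subgroupOfEquivOfLe (zpowers_le.2 hz)).toEquiv, Nat.card_zpowers, h,
      (show Commute (τ u) k from hkx.symm).orderOf_mul_eq_mul_orderOf_of_coprime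
        (by rw [c.pair.orderOf_eq, hu, hk]; norm_num), c.pair.orderOf_eq, hu, hk] at h2
    exact Nat.eq_of_mul_eq_mul_left (by norm_num : 0 < 5 * 2) h2
  obtain ⟨φ, hφ, hφR⟩ := c.pair.copy
  have hRP : R ≤ perf Y := le_perf hRY c.pair.perfect
  obtain ⟨X, _, _, f, hf, hX⟩ := exists_qs_of big c.simple c.noncomm (C := Y) (Z := zpowers (τ u * k))
    (by rintro _ ⟨i, rfl⟩ y hy; exact ((hYz y hy).zpow_right i).eq) (l := [(2, 6), (3, 2), (5, 1)]) (N := 2880)
    (by decide +kernel) (by rw [h1]) (by decide +kernel) hφ (fun w => hRP (hφR w)) (m := 360)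
    (by rw [hU]; decide +kernel) (by decide +kernel)
  have hφ' : φ.range ≤ R := by rintro _ ⟨w, rfl⟩; exact hφR w
  have h2 : perf Y ≤ φ.range := hf.le_of_card (perf_perfect Y) c.simple c.noncomm hφ (fun w => ⟨w, rfl⟩)
    (hφ'.trans hRP) (by rw [hX, hU])
  have h3 : perf Y = R := le_antisymm (h2.trans hφ') hRP
  have h4 : φ.range = R := le_antisymm hφ' (hRP.trans h2)
  have hYN : Y ≤ normalizer (R : Set L) := h3 ▸ le_normalizer.trans (normalizer_le_normalizer_perf Y)
  let b : Y →* MulAut R := R.normalizerMonoidHom.comp (inclusion hYN)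
  have h5 : Nat.card (MulAut R) = 1440 := by
    rw [← h4, ← Nat.card_congr (MulAut.congr (MonoidHom.ofInjective hφ)).toEquiv, card_aut_360 c.simple hU]
  have h6 := b.ker.card_mul_index
  have h7 : b.ker.index ≤ 1440 := by
    rw [index_ker, ← h5]
    exact card_le_card_group _
  obtain ⟨a, ha, ha'⟩ := c.pair.exists_act
  have hm : ∀ d : b.ker, ((d : Y) : L) ∈ centralizer (R : Set L) := fun d => mem_centralizer_iff.2 fun r hr => by
    have h8 : ((d : Y) : L) * r * ((d : Y) : L)⁻¹ = r :=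
      congrArg (fun θ : MulAut R => ((θ ⟨r, hr⟩ : R) : L)) (show b d = 1 from d.2)
    exact (mul_inv_eq_iff_eq_mul.1 h8).symm
  have h8 := card_stab_360 c.simple hU hu (a := a.comp ((Y.subtype.comp b.ker.subtype).codRestrict _ hm))
    (ha.comp fun p q h => Subtype.ext (Subtype.ext (congrArg (fun z : centralizer (R : Set L) => (z : L)) h)))
    fun d => c.pair.inj (by
      refine (ha' _ u).trans ?_
      change ((d : Y) : L) * τ u * ((d : Y) : L)⁻¹ = τ u
      rw [hYx _ (d : Y).2, mul_inv_cancel_right])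
  have h9 := Nat.mul_le_mul h8 h7
  rw [h6, h] at h9
  norm_num at h9

/-- **the class `5A`** -/
theorem Core.false_5A [Finite L] [Finite U] (big : Big) (c : Core τ α β R R') {u : U} (hu : orderOf u = 5) {s : L}
    {K : Subgroup L} (F : F5A (τ u) s K) (hU : Nat.card U = 60 ∨ Nat.card U = 25920 ∨
      (Nat.card U = 360 ∧ ∃ v, v * v = 1 ∧ v * u * v⁻¹ = u⁻¹)) : False := by
  rcases hU with h | h | ⟨h, v, hv, hvu⟩
  · exact c.false_of_sixty h hu F.sd.mem_cent F.sd.inv
  · have h1 := c.pair.order_mul_dvd' c.simple c.noncomm u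
    rw [hu, h, F.card] at h1
    norm_num at h1
  obtain ⟨hR, k, hkK, hk, hkR, i, hi⟩ := c.exists_k F.sd hv hvu (not_comm_of_inv hu hvu)
  have hkx : k * τ u = τ u * k := mem_centralizer_singleton_iff.1 (F.sd.le hkK)
  rcases F.inv k hkK hk with h1 | h1 | h1
  · refine h1 (Dvd.dvd.trans ?_ (c.pair.card_dvd_R.trans (card_dvd_of_le (le_inf (c.pair.le_cent u)
      fun r hr => mem_centralizer_singleton_iff.2 (hkR r hr).symm))))
    rw [h]
    norm_num
  · exact c.false_28800 big h hu hk hkx hkR h1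
  obtain ⟨j, w, hw, e⟩ := F.sd.split (α u) (mem_centralizer_singleton_iff.1 (c.alpha_mem_cent (rfl : u * u = u * u)))
  have hwx : Commute w (τ u) := mem_centralizer_singleton_iff.1 (F.sd.le hw)
  have hu5 : u ^ 5 = 1 := by rw [← hu, pow_orderOf_eq_one]
  have h2 : w = 1 := by
    refine h1 w ?_ ?_
    · have h3 : α u ^ 5 = 1 := by rw [← map_pow, hu5, map_one]
      rwa [e, (hwx.zpow_right j).symm.mul_pow, ← zpow_natCast, ← zpow_mul, mul_comm j, zpow_mul, zpow_natCast,
        ← map_pow, hu5, map_one, one_zpow, one_mul] at h3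
    · have h3 := c.conj_alpha u v
      rw [hvu, map_inv α, hi, e] at h3
      have h4 : s * τ u ^ j * s⁻¹ = (τ u ^ j)⁻¹ := by rw [← conj_zpow, F.sd.inv, inv_zpow]
      have h5 : k * w * k⁻¹ ∈ K := mul_mem (mul_mem hkK hw) (inv_mem hkK)
      have h6 : Commute (k * w * k⁻¹) (τ u ^ i) :=
        (show Commute _ (τ u) from mem_centralizer_singleton_iff.1 (F.sd.le h5)).zpow_right i
      have h7 : Commute k (τ u ^ j) := (show Commute k (τ u) from hkx).zpow_right j
      refine mul_left_cancel (a := (τ u ^ j)⁻¹) ?_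
      calc (τ u ^ j)⁻¹ * (k * w * k⁻¹) = s * τ u ^ j * (s⁻¹ * (k * w * k⁻¹ * s)) * s⁻¹ := by rw [← h4]; group
        _ = s * τ u ^ j * (k * w * k⁻¹ * τ u ^ i) * (τ u ^ i)⁻¹ * s⁻¹ := by rw [F.sd.cent _ h5]; group
        _ = s * τ u ^ i * (τ u ^ j * k) * w * (s * τ u ^ i * k)⁻¹ := by rw [h6.eq]; group
        _ = (τ u ^ j * w)⁻¹ := by rw [← h7.eq, ← h3]; group
        _ = _ := by rw [← (hwx.zpow_right j).eq, mul_inv_rev]
  rw [h2, mul_one] at e
  exact c.alpha_not_mem (fun h => by rw [h, orderOf_one] at hu; omega)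
    (mem_sup_left (zpow_mem (⟨u, rfl⟩ : τ u ∈ τ.range) j)) e

end Cfsg.Agent.Cam.Spor
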