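import Cfsg.Agent.Cam.Spor.BCov
import Cfsg.Agent.Cam.Spor.RowFi
import Cfsg.Agent.SmallSimple.Simple168
import Cfsg.Agent.SmallSimple.Simple504C
import Cfsg.Agent.H471.U33.Seven

/-!
# S3689, S3690: the elements of order 7 of the Baby Monster (helper66)
-/

set_option autoImplicit false

namespace Cfsg.Agent.Cam.Spor

open Cfsg Subgroup Cfsg.Agent.TwoFusion.PerfCore

section aut
variable {X : Type} [Group X] [Finite X] {σ : MulAut X} {y : X}

theorem fix_norm (hσ : σ ^ 2 = 1) (hy : orderOf y = 7) (hc : Nat.card (centralizer ({y} : Set X)) = 7) (h : σ y = y)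
    {n : X} (hn : n ∈ normalizer ((zpowers y : Subgroup X) : Set X)) : σ n = n := by
  obtain ⟨j, hj⟩ := conj_mem_of_norm hn (mem_zpowers y)
  have hj' : y ^ j = n * y * n⁻¹ := hj
  have h1 : σ n * y * (σ n)⁻¹ = n * y * n⁻¹ := by
    calc σ n * y * (σ n)⁻¹ = σ (n * y * n⁻¹) := by rw [map_mul, map_mul, map_inv, h]
      _ = _ := by rw [← hj', map_zpow, h]
  have h2 : zpowers y = centralizer ({y} : Set X) := eq_of_le_of_card_ge
    (zpowers_le.2 (mem_centralizer_singleton_iff.2 rfl)) (by rw [hc, Nat.card_zpowers, hy])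
  have h3 : n⁻¹ * σ n ∈ zpowers y := by
    rw [h2, mem_centralizer_singleton_iff]
    calc n⁻¹ * σ n * y = n⁻¹ * (σ n * y * (σ n)⁻¹) * σ n := by group
      _ = _ := by rw [h1]; group
  have h4 : (n⁻¹ * σ n) ^ 7 = 1 := by
    have := congrArg Subtype.val (pow_card_eq_one' (x := (⟨_, h3⟩ : zpowers y)))
    rwa [Nat.card_zpowers, hy] at this
  have h5 : (n⁻¹ * σ n) ^ 2 = 1 := by
    have h6 : σ (n⁻¹ * σ n) = n⁻¹ * σ n := by
      obtain ⟨i, hi⟩ := h3
      rw [← hi]
      change σ (y ^ i) = y ^ i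
      rw [map_zpow, h]
    have h7 : σ (σ n) = n := by
      change (σ * σ) n = n
      rw [← pow_two, hσ, MulAut.one_apply]
    rw [pow_two]
    nth_rewrite 2 [← h6]
    rw [map_mul, map_inv, h7]
    group
  have h6 : n⁻¹ * σ n = 1 := by
    rw [← pow_one (n⁻¹ * σ n), ← show Nat.gcd 2 7 = 1 from rfl, pow_gcd_eq_one]
    exact ⟨h5, h4⟩
  exact (inv_mul_eq_one.1 h6).symm

theorem aut_168 (hs : IsSimpleGroup X) (hX : Nat.card X = 168) (hσ : σ ^ 2 = 1) (hy : orderOf y = 7) (h : σ y = y) :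
    σ = 1 := by
  have : Fact (Nat.Prime 7) := ⟨by norm_num⟩
  obtain ⟨P, hP⟩ := SmallSimple.Simple168.exists_sylow_zpowers 7 (SmallSimple.Simple168.card_of_sylow_seven hX) y hy
  have h1 := SmallSimple.Simple168.card_normalizer_seven hX P
  rw [hP] at h1
  have h2 := (normalizer ((zpowers y : Subgroup X) : Set X)).card_mul_index
  rw [h1, hX] at h2
  exact aut_eq_one hs (r := 7) (by norm_num) hσ (by norm_num)
    (fun _ => fix_norm hσ hy (SmallSimple.Simple168.card_centralizer_seven hX y hy) h) (by omega)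
    (le_normalizer (mem_zpowers y)) hy

theorem aut_504 (hs : IsSimpleGroup X) (hX : Nat.card X = 504) (hσ : σ ^ 2 = 1) (hy : orderOf y = 7) (h : σ y = y) :
    σ = 1 := by
  have : Fact (Nat.Prime 7) := ⟨by norm_num⟩
  have : Fact (Nat.Prime 2) := ⟨by norm_num⟩
  obtain ⟨P, hP⟩ := SmallSimple.Simple504.exists_sylow_seven_eq hX hy
  let F : Subgroup X := σ.toMonoidHom.eqLocus (MonoidHom.id X)
  have hN : normalizer (P : Set X) ≤ F := fun n hn =>
    fix_norm hσ hy (SmallSimple.Simple504.card_centralizer_of_orderOf_seven hX hy) h (hP ▸ hn)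
  have hσσ : ∀ n, σ (σ n) = n := fun n => by
    change (σ * σ) n = n
    rw [← pow_two, hσ, MulAut.one_apply]
  obtain ⟨t, ht, htN⟩ := SmallSimple.Simple504.exists_involution hX P
  obtain ⟨S, hS⟩ := (IsPGroup.of_card (p := 2) (n := 1) (G := zpowers t)
    (by rw [Nat.card_zpowers, ht, pow_one])).exists_le_sylow
  have h8 := SmallSimple.Simple504C.card_sylow_two_eq hX S
  have hSC : (S : Subgroup X) ≤ centralizer ({t} : Set X) := fun s hs => mem_centralizer_singleton_iff.2
    (SmallSimple.Simple504C.comm_of_mem hX S hs (hS (mem_zpowers t)))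
  have hSC' : (S : Subgroup X) = centralizer ({t} : Set X) := by
    refine eq_of_le_of_card_ge hSC ?_
    obtain ⟨k, hk⟩ := card_dvd_of_le hSC
    have h1 := SmallSimple.Simple504.card_centralizer_involution_le hX P ht htN
    rw [h8] at hk ⊢
    omega
  have hσS : ∀ s ∈ (S : Subgroup X), σ s ∈ (S : Subgroup X) := fun s hs => by
    rw [hSC', mem_centralizer_singleton_iff] at hs ⊢
    have h1 : σ t = t := hN htN
    rw [← h1, ← map_mul, ← map_mul, hs]
  have hc : ∀ a ∈ (S : Subgroup X), ∀ b ∈ (S : Subgroup X), a * b = b * a := fun a ha b hb =>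
    SmallSimple.Simple504C.comm_of_mem hX S ha hb
  let f : (S : Subgroup X) →* (S : Subgroup X) :=
    { toFun := fun s => ⟨s * σ s, mul_mem s.2 (hσS s s.2)⟩
      map_one' := Subtype.ext (by simp)
      map_mul' := fun a b => Subtype.ext (by
        change (a : X) * b * σ (a * b) = a * σ a * (b * σ b)
        rw [map_mul, mul_assoc, mul_assoc, ← mul_assoc (b : X), hc _ b.2 _ (hσS a a.2), mul_assoc]) }
  have h4 : 4 ∣ Nat.card F := by
    have h1 : f.ker ≤ F.subgroupOf S := fun s hs => by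
      have h2 : (s : X) * σ s = 1 := congrArg Subtype.val hs
      change σ s = s
      rw [← SmallSimple.Simple504C.mul_self_of_mem hX S s.2] at h2
      exact mul_left_cancel h2
    have h2 : f.range ≤ F.subgroupOf S := by
      rintro _ ⟨s, rfl⟩
      change σ (s * σ s) = s * σ s
      rw [map_mul, hσσ, hc _ s.2 _ (hσS s s.2)]
    have h3 := f.ker.card_mul_index
    rw [index_ker, h8] at h3
    have h5 := card_le_of_le h1
    have h6 := card_le_of_le h2
    have h7 := card_subgroup_dvd_card (F.subgroupOf S)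
    rw [h8] at h7
    have h9 : 4 ∣ Nat.card (F.subgroupOf S) := by
      have h10 := Nat.mul_le_mul h5 h6
      rw [h3] at h10
      have h11 := Nat.le_of_dvd (by norm_num) h7
      exact (by decide : ∀ m ≤ 8, m ∣ 8 → 8 ≤ m * m → 4 ∣ m) _ h11 h7 h10
    rw [card_subgroupOf] at h9
    exact h9.trans (card_dvd_of_le inf_le_left)
  have hPF : (P : Subgroup X) ≤ F := le_normalizer.trans hN
  have h1 := card_sylow_modEq_one 7 F
  rw [(P.subtype hPF).card_eq_index_normalizer] at h1
  have h2 := (normalizer (P.subtype hPF : Set F)).card_mul_index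
  have h3 : Nat.card (normalizer (P.subtype hPF : Set F)) = 14 := by
    rw [← (SmallSimple.Simple504.card_centralizer_seven hX P).1,
      ← Nat.card_congr (subgroupOfEquivOfLe hN).toEquiv]
    exact congrArg (fun A : Subgroup F => Nat.card A) (subgroupOf_normalizer_eq hPF).symm
  have h5 := card_subgroup_dvd_card F
  rw [h3] at h2
  rw [← h2] at h4
  rw [← h2, hX] at h5
  have h6 : (normalizer (P.subtype hPF : Set F)).index = 36 := by
    have h7 : (normalizer (P.subtype hPF : Set F)).index ∣ 36 := Nat.dvd_of_mul_dvd_mul_left (by norm_num) h5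
    have h11 := Nat.le_of_dvd (by norm_num) h7
    exact (by decide : ∀ m ≤ 36, m ∣ 36 → m % 7 = 1 % 7 → 4 ∣ 14 * m → m = 36) _ h11 h7 h1 h4
  have h7 : F = ⊤ := eq_top_of_card_eq _ (by rw [← h2, h6, hX])
  ext g
  exact (h7 ▸ mem_top g : g ∈ F)

end aut

section He

open Cfsg.Agent.SporadicRecognition.HeldModel
open Cfsg.Agent.KFacts.He.Lv Cfsg.Agent.KFacts.He.TwoACent
open Cfsg.Agent.LThreeMB (XX mk exists_mk mk_mul conj_comm)
open Cfsg.Agent.H715.Mon.Exact (eq_of_mk comm_of_mk card_inf)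

variable {M L : Type} [Group M] [Group L] {t : M} {π : centralizer ({t} : Set M) →* L}

theorem he_conj_v {c : Spor.He} (h : c * gn .a = gn .a * c) : c * v * c⁻¹ = v ∨ c * v * c⁻¹ = gn .a * v := by
  rcases mem_C.1 (mem_C_of_comm h) with h1 | h1
  · exact Or.inl (by rw [L_comm_v h1, mul_inv_cancel_right])
  · right
    have h2 : s * v * s⁻¹ = gn .a * v := by rw [← s_conj_v, inv_mul_cancel_right]
    calc c * v * c⁻¹ = c * s * (s⁻¹ * v * s) * (c * s)⁻¹ := by group
      _ = c * s * (gn .a * v) * (c * s)⁻¹ := by rw [← h2, s_inv]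
      _ = _ := by
        rw [← mul_assoc, L_comm_a h1, mul_assoc (gn .a), L_comm_v h1]
        group

/-- the central involution of `7 × 2.L₃(4).2` -/
theorem exists_cent7 [Finite M] (c : Cov t π) {x : centralizer ({t} : Set M)} (hx : orderOf (x : M) = 7)
    (ε : XX (x : M) ≃* Spor.He) (hε : ε (mk (x : M) (comm_t x).symm) = gn .a) :
    ∃ d : L, d ≠ 1 ∧ d * d = 1 ∧ d * π x = π x * d ∧ ∀ g, g * π x = π x * g → g * d = d * g := by
  have h7 : Odd 7 := by decide
  have hx7 : (x : M) ^ 7 = 1 := by rw [← hx, pow_orderOf_eq_one]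
  obtain ⟨g, hg, hgv⟩ := exists_mk (ε.symm v)
  have hg2 : (g * g) ^ 7 = 1 := by
    have h1 : mk (x : M) (g := g * g) (by rw [mul_assoc, hg, ← mul_assoc, hg, mul_assoc]) = 1 := by
      rw [← mk_mul hg hg, hgv, ← map_mul, v_mul_self, map_one]
    obtain ⟨i, hi⟩ := (LThreeMB.mk_eq_one _).1 h1
    rw [← hi, ← zpow_natCast, ← zpow_mul, mul_comm, zpow_mul, zpow_natCast, hx7, one_zpow]
  have hk : g ^ 7 * x = x * g ^ 7 := ((show Commute g x from hg).pow_left 7).eq
  have hkk : g ^ 7 * g ^ 7 = 1 := by rw [← (Commute.refl g).mul_pow, hg2]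
  have hkv : ε (mk (x : M) hk) = v := by
    have h1 : mk (x : M) hk = mk (x : M) hg ^ 7 := rfl
    rw [h1, hgv, map_pow, ε.apply_symm_apply, show 7 = 2 * 3 + 1 from rfl, pow_succ, pow_mul, pow_two, v_mul_self,
      one_pow, one_mul]
  generalize g ^ 7 = k at hk hkk hkv
  have hkt : k * t = t * k := comm_of_mk h7 hx c.tt (comm_t x).symm hk (ε.injective (by
    rw [map_mul, map_mul, hkv, hε, L_comm_v a_mem_L]))
  let k' : centralizer ({t} : Set M) := ⟨k, mem_centralizer_singleton_iff.2 hkt⟩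
  refine ⟨π k', fun h => ?_, ?_, ?_, fun g hg => ?_⟩
  · rcases (c.ker _).1 h with h1 | h1
    · have h2 : k = 1 := h1
      subst h2
      exact v_ne_one (hkv.symm.trans (map_one ε))
    · have h2 : k = t := h1
      subst h2
      exact v_ne_a (hkv.symm.trans hε)
  · rw [← map_mul, show k' * k' = 1 from Subtype.ext hkk, map_one]
  · rw [← map_mul, ← map_mul]
    exact congrArg π (Subtype.ext hk)
  · obtain ⟨g, rfl⟩ := c.surj g
    have h1 := c.comm h7 hx7 hg
    have h2 : ε (mk (x : M) h1) * gn .a = gn .a * ε (mk (x : M) h1) := by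
      rw [← hε, ← map_mul, ← map_mul]
      exact congrArg ε (congrArg QuotientGroup.mk (Subtype.ext (comm_t g)))
    have h3 : ε (mk (x : M) (conj_comm h1 hk)) = ε (mk (x : M) h1) * v * (ε (mk (x : M) h1))⁻¹ := by
      rw [← hkv, ← map_inv, ← map_mul, ← map_mul]
      rfl
    have h4 : (g : M) * k * (g : M)⁻¹ * (g * k * (g : M)⁻¹) = 1 := by
      calc (g : M) * k * (g : M)⁻¹ * (g * k * (g : M)⁻¹) = g * (k * k) * (g : M)⁻¹ := by group
        _ = 1 := by rw [hkk]; group
    rw [← mul_inv_eq_iff_eq_mul, ← map_inv, ← map_mul, ← map_mul, c.eq_iff]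
    rcases he_conj_v h2 with h5 | h5
    · exact Or.inl (eq_of_mk h7 hx h4 hkk _ hk (ε.injective (by rw [h3, h5, hkv])))
    · have h6 : k * t * x = x * (k * t) := by rw [mul_assoc, ← comm_t x, ← mul_assoc, hk, mul_assoc]
      refine Or.inr (eq_of_mk h7 hx h4 ?_ (conj_comm h1 hk) h6 (ε.injective ?_))
      · calc k * t * (k * t) = k * (t * k) * t := by group
          _ = 1 := by rw [← hkt, ← mul_assoc, hkk, one_mul, c.tt]
      · rw [h3, h5, ← mk_mul hk (comm_t x).symm, map_mul, hkv, hε, L_comm_v a_mem_L]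

theorem b_seven [Finite L] (h : Spor.IsoB L) {y : L} (hy : orderOf y = 7) :
    Nat.card (centralizer ({y} : Set L)) = 75264 ∨ (Nat.card (centralizer ({y} : Set L)) = 564480 ∧
      ∃ d : L, d ≠ 1 ∧ d * d = 1 ∧ d * y = y * d ∧ ∀ g, g * y = y * g → g * d = d * g) := by
  have hfin := MFive.Row.finite_model
  obtain ⟨t, ht, h2, ⟨e⟩⟩ := H436.B7.exists_cover h
  obtain ⟨π, c⟩ := exists_cov (CpAutBFive.RowB.orderOf_t ht) h2 e
  obtain ⟨x, hx, rfl⟩ := c.lift (by norm_num) (by decide) hy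
  obtain ⟨ε⟩ := H436.B7.isoHe ht hx (comm_t x)
  have h1 := c.card_cent (by decide : Odd 7) (a := x) (by rw [← hx, pow_orderOf_eq_one])
  rw [card_inf (by decide) hx c.tt (comm_t x).symm, ← H471.U33.card_equiv ε] at h1
  have h3 := H715.Mon.Exact.order_two (r := 7) (by norm_num) (by norm_num) hx c.ord (comm_t x).symm
  rw [← MulEquiv.orderOf_eq ε] at h3
  rcases BpSpor.HeThree.classes (t := ε (mk _ (comm_t x).symm)) (by rw [← pow_two, ← h3, pow_orderOf_eq_one])
    (fun h => by rw [h, orderOf_one] at h3; omega) with h4 | h4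
  · obtain ⟨g, hg⟩ := isConj_iff.1 h4
    rw [← hg, H471.U33.card_conj, KFacts.He.Classes.card_centralizer] at h1
    exact Or.inl (by omega)
  · obtain ⟨g, hg⟩ := isConj_iff.1 h4
    refine Or.inr ⟨?_, exists_cent7 c hx (ε.trans (MulAut.conj g⁻¹)) ?_⟩
    · rw [← hg, H471.U33.card_conj, H471.U33.card_cent_a] at h1
      omega
    · rw [MulEquiv.trans_apply, ← hg, MulAut.conj_apply]
      group

end He

variable {L U : Type} [Group L] [Group U] {τ α β : U →* L} {R R' : Subgroup L}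

/-- **the case `7 ∣ |U|`** -/
theorem Core.false_b7 [Finite L] [Finite U] (big : Big) (h : Spor.IsoB L) (c : Core τ α β R R') (h7 : 7 ∣ Nat.card U) :
    False := by
  obtain ⟨u, hu, hu1⟩ := Core.exists_orderOf (U := U) (r := 7) (by norm_num) h7
  have hx : orderOf (τ u) = 7 := (c.pair.orderOf_eq u).trans hu
  have h49 : ¬ 7 ^ 2 ∣ Nat.card U := fun h1 => by
    have h2 := (pow_dvd_pow_of_dvd h1 2).trans (c.pair.card_sq_dvd c.simple c.noncomm)
    rw [NotCT.Orders.b h] at h2
    norm_num at h2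
  rcases b_seven h hx with h1 | ⟨h1, d, hd1, hdd, hdx, hd⟩
  · obtain ⟨v, hv, hne⟩ := exists_norm c.simple c.noncomm (by norm_num) hu h49
    obtain ⟨φ, hφ, hφR⟩ := c.pair.copy
    have h2 : zpowers (τ u) ≤ τ.range := zpowers_le.2 ⟨u, rfl⟩
    refine c.alpha_not_mem hu1 (mem_sup_left (h2 (c.alpha_mem big (by norm_num) hu hv hne
      (Q := zpowers (τ u)) ⟨fun z hz g => ?_⟩ (Group.isSolvable_of_comm fun a b => mul_comm' a b)
      (l := [(2, 9), (3, 1), (7, 1)]) (N := 10752) (by decide +kernel)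
      (relIndex_dvd_of (by norm_num) hx (by rw [h1])) (m := 168) (by decide +kernel) (by decide +kernel) (by norm_num)
      hφ hφR).1)) rfl
    rw [mem_subgroupOf] at hz ⊢
    rw [Subgroup.coe_mul, Subgroup.coe_mul, zpowers_comm _ hz _ g.2, Subgroup.coe_inv, mul_inv_cancel_right]
    exact hz
  have hU : Nat.card U = 168 ∨ Nat.card U = 504 ∨ Nat.card U = 2520 ∨ Nat.card U = 20160 :=
    (by decide +kernel : ∀ o ∈ ords [(2, 8), (3, 2), (5, 1), (7, 1)] 80640, 7 ∣ o →
      o = 168 ∨ o = 504 ∨ o = 2520 ∨ o = 20160) _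
      (card_mem big c.simple c.noncomm (by decide +kernel) (c.card_dvd_of (by norm_num) hu (by rw [h1]))) h7
  obtain ⟨a, ha, ha'⟩ := c.pair.exists_act
  have hdR : d ∈ centralizer (R : Set L) := mem_centralizer_iff.2 fun r hr => hd r (c.pair.comm u r hr).symm
  have h2 : a ⟨d, hdR⟩ ^ 2 = 1 := by
    rw [← map_pow, pow_two, show (⟨d, hdR⟩ : centralizer (R : Set L)) * ⟨d, hdR⟩ = 1 from Subtype.ext hdd, map_one]
  have h3 : a ⟨d, hdR⟩ u = u := c.pair.inj (by
    rw [ha']
    change d * τ u * d⁻¹ = τ u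
    rw [hdx, mul_inv_cancel_right])
  have h4 : a ⟨d, hdR⟩ ≠ 1 := fun h => hd1 (congrArg Subtype.val (ha (h.trans (map_one a).symm)))
  rcases hU with h5 | h5 | h5 | h5
  · exact h4 (aut_168 c.simple h5 h2 hu h3)
  · exact h4 (aut_504 c.simple h5 h2 hu h3)
  · exact h4 (aut_seven c.simple h5 h2 (by norm_num) hu h3)
  · exact c.false_of_small hu1 (by rw [h1, hu, h5]; norm_num)

end Cfsg.Agent.Cam.Spor
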