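import Cfsg.Agent.Cam.Spor.SD

/-!
# S3689, S3690: simple quotients with solvable kernel (helper66)

* `exists_sq` : the perfect core of `C` has a simple quotient with solvable kernel;
* `Core.alpha_mem` : `α u` lies in a solvable normal subgroup `Q` of `C(τ u)` of suitable index;
* `exists_qs_of` : the numeric criterion `exists_qs` when a simple subgroup is known.
-/

set_option autoImplicit false

namespace Cfsg.Agent.Cam.Spor

open Cfsg Subgroup Cfsg.Agent.TwoFusion.PerfCore
open Cfsg.Agent.OrdDiv (glN valid cands ordN)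
open scoped commutatorElement

variable {L U X : Type} [Group L] [Group U] [Group X] {τ α β : U →* L} {R R' : Subgroup L}

/-- a maximal normal subgroup of a perfect group -/
theorem exists_max_sol (big : Big) {P : Type} [Group P] [Finite P] [Nontrivial P]
    (hP : ⁅(⊤ : Subgroup P), (⊤ : Subgroup P)⁆ = ⊤) {l : List (ℕ × ℕ)} {N : ℕ} (hv : valid l N = true)
    (hd : Nat.card P ∣ N) (hb : okB (ords l N) N = true) : ∃ (M : Subgroup P) (_ : M.Normal), IsSimpleGroup (P ⧸ M) ∧
      ¬ IsMulCommutative (P ⧸ M) ∧ Nat.card (P ⧸ M) ∈ ords l N ∧ Group.IsSolvable M := by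
  obtain ⟨M, hMn, hM⟩ := H438.MaxOrders.exists_simple_quotient P
  have hXn : ¬ IsMulCommutative (P ⧸ M) := fun h => by
    have h1 : ⁅(⊤ : Subgroup (P ⧸ M)), (⊤ : Subgroup (P ⧸ M))⁆ = ⊤ := by
      have := map_perfect hP (QuotientGroup.mk' M)
      rwa [← MonoidHom.range_eq_map, MonoidHom.range_eq_top.2 (QuotientGroup.mk'_surjective M)] at this
    exact top_ne_bot (eq_bot_of_perfect_comm h1 fun a _ b _ => h.is_comm.comm a b)
  have hXm : Nat.card (P ⧸ M) ∈ ords l N := card_mem big hM hXn hv ((card_quotient_dvd_card M).trans hd)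
  refine ⟨M, hMn, hM, hXn, hXm, ?_⟩
  by_contra h
  obtain ⟨V, _, _, h1, h2, h3⟩ := exists_simple_dvd _ M rfl h
  refine okB_spec hb hXm (card_mem big h1 h2 hv (h3.trans ((card_subgroup_dvd_card M).trans hd))) ?_
  refine Dvd.dvd.trans ?_ hd
  rw [card_eq_card_quotient_mul_card_subgroup M]
  exact Nat.mul_dvd_mul_left _ h3

theorem solvable_ker_comp {P A B : Type*} [Group P] [Group A] [Group B] (g : P →* A) (h : A →* B)
    (hg : Group.IsSolvable g.ker) (hh : Group.IsSolvable h.ker) : Group.IsSolvable (h.comp g).ker := by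
  have hle : g.ker ≤ (h.comp g).ker := fun p hp => by
    rw [MonoidHom.mem_ker] at hp ⊢
    rw [MonoidHom.comp_apply, hp, map_one]
  refine Group.isSolvable_of_ker_le_range (inclusion hle)
    ((g.comp (h.comp g).ker.subtype).codRestrict h.ker fun p => p.2) fun p hp => ?_
  exact ⟨⟨p, congrArg Subtype.val hp⟩, rfl⟩

/-- **a simple quotient with solvable kernel** -/
theorem exists_sq [Finite L] (big : Big) {C Q : Subgroup L} (hQn : (Q.subgroupOf C).Normal) (hQs : Group.IsSolvable Q)
    {l : List (ℕ × ℕ)} {N : ℕ} (hv : valid l N = true) (hd : Q.relIndex C ∣ N) (hne : perf C ≠ ⊥)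
    (hb : okB (ords l N) N = true) : ∃ (X : Type) (_ : Group X) (_ : Finite X) (f : perf C →* X), IsSimpleGroup X ∧
      ¬ IsMulCommutative X ∧ Function.Surjective f ∧ Group.IsSolvable f.ker ∧ Nat.card X ∈ ords l N := by
  let g : perf C →* C ⧸ Q.subgroupOf C := (QuotientGroup.mk' (Q.subgroupOf C)).comp (inclusion (perf_le C))
  have hP := top_perfect (perf_perfect C)
  have hgs : Group.IsSolvable g.ker :=
    Group.isSolvable_of_isSolvable_injective (f := ((perf C).subtype.comp g.ker.subtype).codRestrict Q fun p =>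
      mem_subgroupOf.1 ((QuotientGroup.eq_one_iff (inclusion (perf_le C) p)).1 p.2))
      fun a b h => Subtype.ext (Subtype.ext (congrArg (fun z : Q => (z : L)) h))
  have hgP : ⁅g.range, g.range⁆ = g.range := by
    rw [MonoidHom.range_eq_map]
    exact map_perfect hP g
  have hnt : Nontrivial g.range := by
    rw [nontrivial_iff_ne_bot]
    intro h
    refine hne (eq_bot_of_perfect_of_solvable (perf_perfect C) ?_)
    refine Group.isSolvable_of_surjective (f := g.ker.subtype) fun p => ⟨⟨p, ?_⟩, rfl⟩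
    have h1 : g p ∈ g.range := ⟨_, rfl⟩
    rwa [h, mem_bot] at h1
  obtain ⟨M, hMn, h1, h2, h3, h4⟩ := exists_max_sol big (top_perfect hgP) hv ((card_subgroup_dvd_card _).trans hd) hb
  refine ⟨g.range ⧸ M, inferInstance, inferInstance, (QuotientGroup.mk' M).comp g.rangeRestrict, h1, h2,
    (QuotientGroup.mk'_surjective M).comp g.rangeRestrict_surjective, solvable_ker_comp _ _ ?_ ?_, h3⟩
  · rwa [MonoidHom.ker_rangeRestrict]
  · rwa [QuotientGroup.ker_mk']

/-- solvable normal subgroups lie in the kernel -/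
theorem le_ker_of_sol {P : Type*} [Group P] (hs : IsSimpleGroup X) (hn : ¬ IsMulCommutative X) {f : P →* X}
    (hf : Function.Surjective f) {B : Subgroup P} (hB : B.Normal) (h : Group.IsSolvable B) : B ≤ f.ker := by
  rw [← Subgroup.map_eq_bot_iff]
  refine (hs.eq_bot_or_eq_top_of_normal _ (hB.map f hf)).resolve_right fun h1 => not_solvable hs hn ?_
  refine Group.isSolvable_of_surjective (f := f.comp B.subtype) fun y => ?_
  obtain ⟨b, hb, rfl⟩ := (h1 ▸ mem_top y : y ∈ B.map f)
  exact ⟨⟨b, hb⟩, rfl⟩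

/-- the action of the normalizer on the simple quotient -/
theorem exists_act_sol {P : Subgroup L} (hs : IsSimpleGroup X) (hn : ¬ IsMulCommutative X) {f : P →* X}
    (hf : Function.Surjective f) (hk : Group.IsSolvable f.ker) : ∃ a : normalizer (P : Set L) →* MulAut X,
      ∀ (s : normalizer (P : Set L)) (p : P), a s (f p) = f (P.normalizerMonoidHom s p) := by
  have hc : f.ker.Characteristic := characteristic_iff_map_le.2 fun θ =>
    le_ker_of_sol hs hn hf (Normal.map inferInstance _ θ.surjective)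
      (Group.isSolvable_of_surjective (θ.toMonoidHom.subgroupMap_surjective f.ker))
  let e : P ⧸ f.ker ≃* X := QuotientGroup.quotientKerEquivOfSurjective f hf
  have he : ∀ p : P, e (QuotientGroup.mk p) = f p := fun p => rfl
  let b : MulAut P →* MulAut (P ⧸ f.ker) :=
    { toFun := fun θ => QuotientGroup.congr f.ker f.ker θ (characteristic_iff_map_eq.1 hc _)
      map_one' := by
        ext v
        induction v using QuotientGroup.induction_on with
        | H q => rfl
      map_mul' := fun a b => by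
        ext v
        induction v using QuotientGroup.induction_on with
        | H q => rfl }
  refine ⟨(MulAut.congr e).toMonoidHom.comp (b.comp P.normalizerMonoidHom), fun s p => ?_⟩
  change e (b (P.normalizerMonoidHom s) (e.symm (f p))) = _
  rw [← he p, MulEquiv.symm_apply_apply]
  rfl

theorem tau_mem_norm [Finite L] [Finite U] (τ : U →* L) {u v : U} (hv : v * u * v⁻¹ ∈ zpowers u) :
    τ v ∈ normalizer ((centralizer ({τ u} : Set L) : Subgroup L) : Set L) := by
  refine mem_normalizer_of fun y hy => mem_centralizer_singleton_iff.2 ?_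
  have h1 : v⁻¹ ∈ normalizer ((zpowers u : Subgroup U) : Set U) := by
    refine inv_mem (mem_normalizer_of ?_)
    rintro _ ⟨i, rfl⟩
    change v * u ^ i * v⁻¹ ∈ _
    rw [← conj_zpow]
    exact zpow_mem hv i
  obtain ⟨i, hi⟩ := conj_mem_of_norm h1 (mem_zpowers u)
  have h2 : (τ v)⁻¹ * τ u * τ v = τ u ^ i := by
    rw [← map_zpow, show u ^ i = v⁻¹ * u * v⁻¹⁻¹ from hi, inv_inv, map_mul, map_mul, map_inv]
  have h3 : Commute y (τ u ^ i) := (show Commute y (τ u) from mem_centralizer_singleton_iff.1 hy).zpow_right i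
  calc τ v * y * (τ v)⁻¹ * τ u = τ v * (y * ((τ v)⁻¹ * τ u * τ v)) * (τ v)⁻¹ := by group
    _ = τ v * (((τ v)⁻¹ * τ u * τ v) * y) * (τ v)⁻¹ := by rw [h2, h3.eq]
    _ = _ := by group

/-- the order of a simple subgroup divides the index of a solvable normal subgroup -/
theorem card_dvd_relIndex (hs : IsSimpleGroup U) (hn : ¬ IsMulCommutative U) {C Q : Subgroup L}
    (hQn : (Q.subgroupOf C).Normal) (hQs : Group.IsSolvable Q) {φ : U →* L} (hφ : Function.Injective φ)
    (hm : ∀ w, φ w ∈ C) : Nat.card U ∣ Q.relIndex C := by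
  refine card_dvd_of_injective _ (inj_of_solvable_ker hs hn (φ := φ.codRestrict C hm)
    (fun a b h => hφ (congrArg Subtype.val h)) (π := QuotientGroup.mk' (Q.subgroupOf C)) ?_)
  rw [QuotientGroup.ker_mk']
  exact Group.isSolvable_of_isSolvable_injective
    (f := (C.subtype.comp (Q.subgroupOf C).subtype).codRestrict Q fun p => mem_subgroupOf.1 p.2)
    fun a b h => Subtype.ext (Subtype.ext (congrArg (fun z : Q => (z : L)) h))

/-- **`α u` lies in the solvable normal subgroup `Q`**, and `φ U` covers `R` modulo a solvable subgroup -/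
theorem Core.alpha_mem [Finite L] [Finite U] (big : Big) (c : Core τ α β R R') {u v : U} {r : ℕ} (hr : r.Prime)
    (hu : orderOf u = r) (hv : v * u * v⁻¹ ∈ zpowers u) (hne : v * u ≠ u * v) {Q : Subgroup L}
    (hQn : (Q.subgroupOf (centralizer ({τ u} : Set L))).Normal) (hQs : Group.IsSolvable Q)
    {l : List (ℕ × ℕ)} {N : ℕ} (hl : valid l N = true) (hd : Q.relIndex (centralizer ({τ u} : Set L)) ∣ N) {m : ℕ}
    (hm : ∀ o ∈ ords l N, o = m) (hb : okB (ords l N) N = true) (h2 : ¬ r * m ∣ N) {φ : U →* L}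
    (hφ : Function.Injective φ) (hφR : ∀ w, φ w ∈ R) :
    α u ∈ Q ∧ ∃ M : Subgroup L, Group.IsSolvable M ∧ ∀ ρ ∈ R, ∃ w, ρ * (φ w)⁻¹ ∈ M := by
  have hp : Fact r.Prime := ⟨hr⟩
  obtain ⟨X, _, _, f, hs, hn, hf, hk, hX⟩ := exists_sq big hQn hQs hl hd (c.pair.perf_ne_bot c.noncomm u) hb
  obtain ⟨a, ha⟩ := exists_act_sol hs hn hf hk
  have hRP := c.pair.le_perf_cent u
  have hφP : ∀ w, φ w ∈ perf (centralizer ({τ u} : Set L)) := fun w => hRP (hφR w)
  have hU : Nat.card U = m := hm _ (card_mem big c.simple c.noncomm hl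
    ((card_dvd_relIndex c.simple c.noncomm hQn hQs hφ fun w => perf_le _ (hφP w)).trans hd))
  have hinj := inj_of_solvable_ker c.simple c.noncomm (φ := φ.codRestrict _ hφP)
    (fun a b h => hφ (congrArg Subtype.val h)) hk
  have hsurj := (hinj.bijective_of_nat_card_le (by rw [hU, hm _ hX])).2
  refine ⟨?_, f.ker.map (Subgroup.subtype _),
    Group.isSolvable_of_surjective ((Subgroup.subtype _).subgroupMap_surjective f.ker), fun ρ hρ => ?_⟩
  swap
  · obtain ⟨w, hw⟩ := hsurj (f ⟨ρ, hRP hρ⟩)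
    refine ⟨w, ⟨ρ, hRP hρ⟩ * (⟨φ w, hφP w⟩)⁻¹, ?_, rfl⟩
    change f _ = 1
    rw [map_mul, map_inv, ← hw]
    exact mul_inv_cancel _
  have hCN : centralizer ({τ u} : Set L) ≤ normalizer ((perf (centralizer ({τ u} : Set L)) : Subgroup L) : Set L) :=
    le_normalizer.trans (normalizer_le_normalizer_perf _)
  have hsN := normalizer_le_normalizer_perf _ (tau_mem_norm τ hv)
  have hs1 : a ⟨τ v, hsN⟩ = 1 := by
    ext y
    obtain ⟨w, rfl⟩ := hsurj y
    refine (ha _ _).trans (congrArg f (Subtype.ext ?_))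
    change τ v * φ w * (τ v)⁻¹ = φ w
    rw [c.pair.comm v _ (hφR w), mul_inv_cancel_right]
  let b := a.comp (inclusion hCN)
  have hQb : Q.subgroupOf (centralizer ({τ u} : Set L)) ≤ b.ker := fun q hq => by
    have hB : ((Q.subgroupOf (centralizer ({τ u} : Set L))).comap (inclusion (perf_le _))).Normal := hQn.comap _
    have hle := le_ker_of_sol hs hn hf hB (Group.isSolvable_of_isSolvable_injective
      (f := ((Subgroup.subtype _).comp (Subgroup.subtype _)).codRestrict Q fun p => mem_subgroupOf.1 p.2)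
      fun a b h => Subtype.ext (Subtype.ext (congrArg (fun z : Q => (z : L)) h)))
    rw [MonoidHom.mem_ker]
    ext y
    obtain ⟨p, rfl⟩ := hf y
    refine (ha _ _).trans ?_
    rw [MulAut.one_apply, ← mul_inv_eq_one, ← map_inv, ← map_mul]
    refine hle ?_
    have h1 := mul_mem hq (hQn.conj_mem _ (inv_mem hq) (inclusion (perf_le _) p))
    rw [mem_comap]
    convert h1 using 1
    apply Subtype.ext
    change (q : L) * p * (q : L)⁻¹ * (p : L)⁻¹ = q * (p * (q : L)⁻¹ * (p : L)⁻¹)
    group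
  -- the element `α (v u v⁻¹ u⁻¹)`
  have hy := c.alpha_mem_cent (rfl : u * u = u * u)
  have hw : v * u * v⁻¹ * u⁻¹ ∈ zpowers u := mul_mem hv (inv_mem (mem_zpowers u))
  have hw1 : v * u * v⁻¹ * u⁻¹ ≠ 1 := fun h => hne (by
    calc v * u = v * u * v⁻¹ * u⁻¹ * (u * v) := by group
      _ = _ := by rw [h, one_mul])
  have hwr : (v * u * v⁻¹ * u⁻¹) ^ r = 1 := by
    obtain ⟨i, hi⟩ := hw
    rw [← hi, ← hu]
    change (u ^ i) ^ orderOf u = 1
    rw [← zpow_natCast, ← zpow_mul, mul_comm, zpow_mul, zpow_natCast, pow_orderOf_eq_one, one_zpow]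
  have hy' : α (v * u * v⁻¹ * u⁻¹) ∈ centralizer ({τ u} : Set L) := by
    obtain ⟨i, hi⟩ := hw
    rw [← hi]
    change α (u ^ i) ∈ _
    rw [map_zpow]
    exact zpow_mem hy i
  have hyk : (⟨_, hy'⟩ : centralizer ({τ u} : Set L)) ∈ b.ker := by
    have h1 : inclusion hCN ⟨_, hy'⟩ = ⟨τ v, hsN⟩ * ⟨α u, hCN hy⟩ * (⟨τ v, hsN⟩)⁻¹ * (⟨α u, hCN hy⟩)⁻¹ := by
      apply Subtype.ext
      change α (v * u * v⁻¹ * u⁻¹) = τ v * α u * (τ v)⁻¹ * (α u)⁻¹
      rw [c.conj_alpha, map_mul _ _ u⁻¹, map_inv]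
    change a _ = 1
    rw [h1, map_mul, map_mul, map_mul, map_inv, map_inv, hs1, one_mul, inv_one, mul_one, mul_inv_cancel]
  have hyQ : α (v * u * v⁻¹ * u⁻¹) ∈ Q := by
    by_contra hq
    apply h2
    refine Dvd.dvd.trans ?_ hd
    change _ ∣ (Q.subgroupOf (centralizer ({τ u} : Set L))).index
    rw [← relIndex_mul_index hQb]
    refine mul_dvd_mul ?_ ?_
    · haveI := hQn
      have h3 : orderOf (QuotientGroup.mk (s := (Q.subgroupOf (centralizer ({τ u} : Set L))).subgroupOf b.ker)
          ⟨_, hyk⟩) = r := by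
        refine orderOf_eq_prime ?_ fun h => hq (mem_subgroupOf.1 (mem_subgroupOf.1
          ((QuotientGroup.eq_one_iff (N := (Q.subgroupOf (centralizer ({τ u} : Set L))).subgroupOf b.ker)
            ⟨_, hyk⟩).1 h)))
        rw [← QuotientGroup.mk_pow, show (⟨_, hyk⟩ : b.ker) ^ r = 1 from Subtype.ext (Subtype.ext (by
          change α _ ^ r = 1
          rw [← map_pow, hwr, map_one]))]
        rfl
      rw [← h3]
      exact orderOf_dvd_natCard _
    · rw [index_ker, ← hU]
      refine card_dvd_of_injective (b.rangeRestrict.comp (φ.codRestrict _ fun w => perf_le _ (hφP w))) ?_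
      rw [injective_iff_map_eq_one]
      intro w h
      have h1 : a ⟨φ w, hCN (perf_le _ (hφP w))⟩ = 1 := congrArg Subtype.val h
      refine hinj ((eq_one_of_comm hs hn fun y => ?_).trans (map_one _).symm)
      obtain ⟨p, rfl⟩ := hf y
      have h3 := ha ⟨φ w, hCN (perf_le _ (hφP w))⟩ p
      rw [h1, MulAut.one_apply] at h3
      change f ⟨φ w, hφP w⟩ * f p = f p * f ⟨φ w, hφP w⟩
      nth_rewrite 2 [h3]
      rw [← map_mul, ← map_mul]
      refine congrArg f (Subtype.ext ?_)
      change φ w * p = φ w * p * (φ w)⁻¹ * φ w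
      group
  have h3 : zpowers (v * u * v⁻¹ * u⁻¹) = zpowers u := eq_of_le_of_card_ge (zpowers_le.2 hw)
    (by rw [Nat.card_zpowers, Nat.card_zpowers, hu, orderOf_eq_prime hwr hw1])
  obtain ⟨i, hi⟩ := h3.ge (mem_zpowers u)
  have h4 := zpow_mem hyQ i
  rwa [← map_zpow, show (v * u * v⁻¹ * u⁻¹) ^ i = u from hi] at h4

/-- a normal subgroup of a perfect group with a solvable supplement -/
theorem le_of_cover {K M : Subgroup L} (hR : ⁅R, R⁆ = R) (hK : ∀ ρ ∈ R, ∀ k ∈ K, ρ * k * ρ⁻¹ ∈ K)
    (hM : Group.IsSolvable M) (h : ∀ ρ ∈ R, ∃ k ∈ R, k ∈ K ∧ ρ * k⁻¹ ∈ M) : R ≤ K := by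
  have hn : (K.subgroupOf R).Normal := ⟨fun k hk ρ => hK ρ ρ.2 k hk⟩
  have h1 : Group.IsSolvable (M.subgroupOf R) := Group.isSolvable_of_isSolvable_injective
    (f := (R.subtype.comp (M.subgroupOf R).subtype).codRestrict M fun p => mem_subgroupOf.1 p.2)
    fun a b h => Subtype.ext (Subtype.ext (congrArg (fun z : M => (z : L)) h))
  have h2 : Group.IsSolvable (R ⧸ K.subgroupOf R) := by
    refine Group.isSolvable_of_surjective (f := (QuotientGroup.mk' (K.subgroupOf R)).comp (M.subgroupOf R).subtype)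
      fun y => ?_
    obtain ⟨ρ, rfl⟩ := QuotientGroup.mk'_surjective _ y
    obtain ⟨k, hk, hkK, hm⟩ := h ρ ρ.2
    refine ⟨⟨ρ * (⟨k, hk⟩)⁻¹, hm⟩, ?_⟩
    change QuotientGroup.mk' _ (ρ * (⟨k, hk⟩)⁻¹) = _
    rw [map_mul, map_inv, show QuotientGroup.mk' (K.subgroupOf R) ⟨k, hk⟩ = 1 from (QuotientGroup.eq_one_iff _).2 hkK,
      inv_one, mul_one]
  have h3 := le_ker_of_perfect (top_perfect hR) (QuotientGroup.mk' (K.subgroupOf R)) inferInstance
  rw [QuotientGroup.ker_mk'] at h3
  exact fun ρ hρ => h3 (mem_top (⟨ρ, hρ⟩ : R))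

/-- **the numeric criterion**, when a simple subgroup is known -/
theorem exists_qs_of [Finite L] [Finite U] (big : Big) (hs : IsSimpleGroup U) (hn : ¬ IsMulCommutative U)
    {C Z : Subgroup L} (hZ : ∀ z ∈ Z, ∀ c ∈ C, c * z = z * c) {l : List (ℕ × ℕ)} {N : ℕ} (hv : valid l N = true)
    (hd : Z.relIndex C ∣ N) (hb : okB (ords l N) N = true) {φ : U →* L} (hφ : Function.Injective φ)
    (hm : ∀ w, φ w ∈ perf C) {m : ℕ} (ho : ∀ o ∈ ords l N, Nat.card U ∣ o → o = m) (hq : okQ l [m] N [] = true) :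
    ∃ (X : Type) (_ : Group X) (_ : Finite X) (f : perf C →* X), QS (perf C) f ∧ Nat.card X = m := by
  have hZc : Z.subgroupOf C ≤ center C := fun z hz =>
    mem_center_iff.2 fun c => Subtype.ext (hZ z (mem_subgroupOf.1 hz) c c.2)
  have hZn : (Z.subgroupOf C).Normal := ⟨fun z hz c => by
    rw [mem_center_iff.1 (hZc hz) c, mul_inv_cancel_right]; exact hz⟩
  let g : perf C →* C ⧸ Z.subgroupOf C := (QuotientGroup.mk' (Z.subgroupOf C)).comp (inclusion (perf_le C))
  have hP := top_perfect (perf_perfect C)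
  have hgk : g.ker ≤ center (perf C) := fun p hp => by
    have h1 : inclusion (perf_le C) p ∈ Z.subgroupOf C := (QuotientGroup.eq_one_iff _).1 hp
    exact mem_center_iff.2 fun c => Subtype.ext (hZ p (mem_subgroupOf.1 h1) c (perf_le C c.2))
  have hgs : Group.IsSolvable g.ker := Group.isSolvable_of_comm fun a b =>
    Subtype.ext (mem_center_iff.1 (hgk b.2) a)
  have hgP : ⁅g.range, g.range⁆ = g.range := by
    rw [MonoidHom.range_eq_map]
    exact map_perfect hP g
  have hP' := top_perfect hgP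
  have hgN : Nat.card g.range ∣ N := (card_subgroup_dvd_card _).trans hd
  have hφ' : Function.Injective (φ.codRestrict _ hm) := fun a b h => hφ (congrArg Subtype.val h)
  have hnt : Nontrivial g.range :=
    (inj_of_solvable_ker hs hn hφ' (π := g.rangeRestrict) (by rwa [MonoidHom.ker_rangeRestrict])).nontrivial
  obtain ⟨M, hMn, hM, hXn, hXm, hMs⟩ := exists_max_sol big hP' hv hgN hb
  have hX : Nat.card (g.range ⧸ M) = m := ho _ hXm (card_dvd_of_injective _ (inj_of_solvable_ker hs hn hφ'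
    (π := (QuotientGroup.mk' M).comp g.rangeRestrict)
    (solvable_ker_comp _ _ (by rwa [MonoidHom.ker_rangeRestrict]) (by rwa [QuotientGroup.ker_mk']))))
  have hMc : M ≤ center g.range :=
    le_center_of_num hM _ g.range hP' (QuotientGroup.mk' M) (QuotientGroup.mk'_surjective M)
      (by rwa [QuotientGroup.ker_mk']) hgN M hMn (by rw [QuotientGroup.ker_mk']) rfl fun r' k hr' _ h =>
        okQ_spec hv hq (by rw [hX]; exact List.mem_singleton_self m) hr' List.not_mem_nil h
  refine ⟨g.range ⧸ M, inferInstance, inferInstance, (QuotientGroup.mk' M).comp g.rangeRestrict,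
    ⟨hM, hXn, (QuotientGroup.mk'_surjective M).comp g.rangeRestrict_surjective, ?_⟩, hX⟩
  refine le_center_of_comm hP (le_trans ?_ hgk)
  rw [Subgroup.commutator_le]
  intro p hp q _
  have h1 : g.rangeRestrict p ∈ M := (QuotientGroup.eq_one_iff _).1 hp
  have h2 := congrArg Subtype.val (mem_center_iff.1 (hMc h1) (g.rangeRestrict q))
  rw [MonoidHom.mem_ker, map_commutatorElement, commutatorElement_eq_one_iff_mul_comm]
  exact h2.symm

end Cfsg.Agent.Cam.Spor
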