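import Cfsg.Agent.Cam.Spor.SP

/-!
# S3689, S3690: normalizers `N(X) = F × K` with `C_F(X) = X`, in an overgroup of the socle (helper67)
-/

set_option autoImplicit false

namespace Cfsg.Agent.Cam.Spor

open Cfsg Subgroup Cfsg.Agent.TwoFusion.PerfCore

/-- `N(X) = F × K`, `C_F(X) = X`, `K` centralizes `X` -/
structure DP {G : Type*} [Group G] (X F K : Subgroup G) : Prop where
  inf : F ⊓ centralizer (X : Set G) = X
  disj : F ⊓ K = ⊥
  comm : ∀ a ∈ F, ∀ b ∈ K, a * b = b * a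
  sup : F ⊔ K = normalizer (X : Set G)
  le : K ≤ centralizer (X : Set G)

section
variable {G : Type*} [Group G] {X F K : Subgroup G}

theorem DP.exists_norm (d : DP X F K) {g : G} (hg : g ∈ normalizer (X : Set G)) : ∃ f ∈ F, ∃ k ∈ K, g = f * k :=
  mem_sup_of_comm d.comm (d.sup ▸ hg)

theorem DP.exists_cent (d : DP X F K) {g : G} (hg : g ∈ centralizer (X : Set G)) : ∃ f ∈ X, ∃ k ∈ K, g = f * k := by
  obtain ⟨f, hf, k, hk, rfl⟩ := d.exists_norm (centralizer_le_normalizer _ hg)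
  refine ⟨f, d.inf ▸ mem_inf.2 ⟨hf, ?_⟩, k, hk, rfl⟩
  have := mul_mem hg (inv_mem (d.le hk))
  rwa [mul_inv_cancel_right] at this

theorem DP.X_le (d : DP X F K) : X ≤ F := d.inf ▸ inf_le_left

theorem DP.eq_of (d : DP X F K) {f f' k k' : G} (hf : f ∈ F) (hf' : f' ∈ F) (hk : k ∈ K) (hk' : k' ∈ K)
    (h : f * k = f' * k') : f = f' ∧ k = k' := by
  have h1 : f'⁻¹ * f = k' * k⁻¹ := by
    calc f'⁻¹ * f = f'⁻¹ * (f * k) * k⁻¹ := by group
      _ = _ := by rw [h]; group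
  have h2 : f'⁻¹ * f ∈ F ⊓ K := mem_inf.2 ⟨mul_mem (inv_mem hf') hf, h1 ▸ mul_mem hk' (inv_mem hk)⟩
  rw [d.disj, mem_bot] at h2
  have h3 := inv_mul_eq_one.1 h2
  rw [h3] at h
  exact ⟨h3.symm, mul_left_cancel h⟩

theorem DP.pow_eq_one (d : DP X F K) {f k : G} (hf : f ∈ F) (hk : k ∈ K) {n : ℕ} (h : (f * k) ^ n = 1) : k ^ n = 1 := by
  rw [Commute.mul_pow (d.comm f hf k hk)] at h
  exact (d.eq_of (pow_mem hf n) (one_mem _) (pow_mem hk n) (one_mem _) (by rw [h, one_mul])).2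

/-- perfect subgroups of `C(X)` lie in `K` -/
theorem DP.perfect_le [Finite G] (d : DP X F K) {P : Subgroup G} (hP : ⁅P, P⁆ = P) (h : P ≤ centralizer (X : Set G)) :
    P ≤ K := by
  have h1 : P ≤ K ⊔ X := fun g hg => by
    obtain ⟨f, hf, k, hk, rfl⟩ := d.exists_cent (h hg)
    exact mul_mem (mem_sup_right hf) (mem_sup_left hk)
  have h2 := le_sup_perf (fun k hk a ha => (d.comm a (d.X_le ha) k hk).symm) hP h1
  have h3 : perf X = ⊥ := eq_bot_of_perfect_comm (perf_perfect _) fun a ha b hb => by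
    have : b ∈ F ⊓ centralizer (X : Set G) := by rw [d.inf]; exact perf_le _ hb
    exact mem_centralizer_iff.1 this.2 a (perf_le _ ha)
  rwa [h3, sup_bot_eq] at h2

theorem DP.card_cent [Finite G] (d : DP X F K) : Nat.card (centralizer (X : Set G)) ∣ Nat.card X * Nat.card K := by
  rw [← Nat.card_prod]
  let g : X × K →* centralizer (X : Set G) := MonoidHom.noncommCoprod
    (inclusion (by rw [← d.inf]; exact inf_le_right.trans (by rw [d.inf]))) (inclusion d.le)
    fun a b => Subtype.ext (d.comm a (d.X_le a.2) b b.2)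
  refine card_dvd_of_surjective g fun c => ?_
  obtain ⟨f, hf, k, hk, h⟩ := d.exists_cent c.2
  exact ⟨(⟨f, hf⟩, ⟨k, hk⟩), Subtype.ext h.symm⟩

theorem cent_zpowers (x : G) : centralizer ((zpowers x : Subgroup G) : Set G) = centralizer ({x} : Set G) := by
  rw [zpowers_eq_closure, centralizer_closure]

end

variable {L U : Type} [Group L] [Group U] {τ α β : U →* L} {R R' : Subgroup L}
variable {G : Type*} [Group G] {ι : L →* G} {F K : Subgroup G}

theorem map_mem_cent {x y : L} (h : y ∈ centralizer ({x} : Set L)) :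
    ι y ∈ centralizer ((zpowers (ι x) : Subgroup G) : Set G) := by
  rw [cent_zpowers, mem_centralizer_singleton_iff, ← map_mul, ← map_mul, mem_centralizer_singleton_iff.1 h]

theorem DP.perf_le [Finite G] {x : L} (d : DP (zpowers (ι x)) F K) {y : L}
    (hy : y ∈ perf (centralizer ({x} : Set L))) : ι y ∈ K := by
  refine d.perfect_le (map_perfect (perf_perfect (centralizer ({x} : Set L))) ι) ?_ ⟨y, hy, rfl⟩
  rintro _ ⟨z, hz, rfl⟩
  exact map_mem_cent (TwoFusion.PerfCore.perf_le _ hz)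

theorem DP.mem_cent_perf [Finite G] (hι : Function.Injective ι) {x : L} (d : DP (zpowers (ι x)) F K) {s : L}
    (hs : ι s ∈ F) : s ∈ centralizer (perf (centralizer ({x} : Set L)) : Set L) :=
  mem_centralizer_iff.2 fun y hy => hι (by rw [map_mul, map_mul]; exact (d.comm _ hs _ (d.perf_le hy)).symm)

/-- the data in `K` -/
theorem Core.exists_dp [Finite L] [Finite G] (c : Core τ α β R R') (hι : Function.Injective ι) {u v : U}
    (d : DP (zpowers (ι (τ u))) F K) {j : ℕ} (hv : v * u * v⁻¹ = u ^ j) (hne : v * u ≠ u * v) :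
    ∃ (ρ : U →* K) (k w : K), Function.Injective ρ ∧ (∀ a, k * ρ a = ρ a * k) ∧ k ≠ 1 ∧
      (∀ n : ℕ, v ^ n = 1 → k ^ n = 1) ∧ w ≠ 1 ∧ (∀ n : ℕ, u ^ n = 1 → w ^ n = 1) ∧ k * w * k⁻¹ = w ^ j := by
  obtain ⟨φ, hφ, hm⟩ := c.pair.copy
  have hρ : ∀ a, (ι.comp φ) a ∈ K := fun a => d.perf_le (c.pair.le_perf_cent u (hm a))
  have hN : ι (τ v) ∈ normalizer ((zpowers (ι (τ u)) : Subgroup G) : Set G) := mem_normalizer_of (by
    rintro _ ⟨i, rfl⟩
    change ι (τ v) * ι (τ u) ^ i * (ι (τ v))⁻¹ ∈ _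
    rw [← conj_zpow, ← map_inv, ← map_inv, ← map_mul, ← map_mul, ← map_mul, ← map_mul, hv, map_pow, map_pow]
    exact zpow_mem (pow_mem (mem_zpowers _) j) i)
  obtain ⟨f, hf, k, hk, hfk⟩ := d.exists_norm hN
  obtain ⟨a, ha, w, hw, haw⟩ := d.exists_cent (map_mem_cent (ι := ι) (c.alpha_mem_cent (rfl : u * u = u * u)))
  have hu1 : u ≠ 1 := by rintro rfl; simp at hne
  refine ⟨(ι.comp φ).codRestrict K hρ, ⟨k, hk⟩, ⟨w, hw⟩, fun a b h => hφ (hι (congrArg Subtype.val h)), fun b => ?_,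
    fun h => ?_, fun n hn => ?_, fun h => ?_, fun n hn => ?_, ?_⟩
  · apply Subtype.ext
    change k * ι (φ b) = ι (φ b) * k
    have h1 : f * k * ι (φ b) = ι (φ b) * (f * k) := by
      rw [← hfk, ← map_mul, ← map_mul, c.pair.comm v _ (hm b)]
    have h2 : f * ι (φ b) = ι (φ b) * f := d.comm f hf _ (hρ b)
    rw [← mul_assoc, ← h2, mul_assoc, mul_assoc] at h1
    exact mul_left_cancel h1
  · have h1 : k = 1 := congrArg Subtype.val h
    rw [h1, mul_one] at hfk
    exact hne (c.comm_of_cent_perf (d.mem_cent_perf hι (hfk ▸ hf)))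
  · exact Subtype.ext (d.pow_eq_one hf hk (by rw [← hfk, ← map_pow, ← map_pow, hn, map_one, map_one]))
  · have h1 : w = 1 := congrArg Subtype.val h
    rw [h1, mul_one] at haw
    obtain ⟨i, hi⟩ := ha
    refine c.alpha_not_mem hu1 (mem_sup_left ⟨u ^ i, rfl⟩) (hι ?_)
    rw [haw, ← hi, map_zpow, map_zpow]
  · exact Subtype.ext (d.pow_eq_one (d.X_le ha) hw (by rw [← haw, ← map_pow, ← map_pow, hn, map_one, map_one]))
  · apply Subtype.ext
    change k * w * k⁻¹ = w ^ j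
    have h1 := congrArg ι (c.conj_alpha u v)
    rw [hv, map_pow, map_pow, map_mul, map_mul, map_inv, hfk, haw,
      Commute.mul_pow (d.comm a (d.X_le ha) w hw)] at h1
    have h2 : f * k * (a * w) * (f * k)⁻¹ = f * a * f⁻¹ * (k * w * k⁻¹) := by
      have h3 : k * w * k⁻¹ ∈ K := mul_mem (mul_mem hk hw) (inv_mem hk)
      calc f * k * (a * w) * (f * k)⁻¹ = f * (k * a) * w * k⁻¹ * f⁻¹ := by group
        _ = f * a * ((k * w * k⁻¹) * f⁻¹) := by rw [← d.comm a (d.X_le ha) k hk]; group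
        _ = _ := by rw [← d.comm _ (inv_mem hf) _ h3]; group
    rw [h2] at h1
    exact (d.eq_of (mul_mem (mul_mem hf (d.X_le ha)) (inv_mem hf)) (pow_mem (d.X_le ha) j)
      (mul_mem (mul_mem hk hw) (inv_mem hk)) (pow_mem hw j) h1).2

end Cfsg.Agent.Cam.Spor
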