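import Cfsg.Agent.TwoFusion.PerfCore

/-!
# S3689, S3690: the local configuration inside the socle (helper67)

`Pair τ R`: the simple group `T = τ U` and a perfect group `R` commuting with `T`, containing a copy of `T`, such that
`C(R)` acts faithfully on `T`.  `Core τ α β R R'`: `τ u = α u * β u` is a diagonal of the commuting groups `α U`, `β U`,
`α U` is the image of `T` under an automorphism, and no non-trivial element of `α U` normalizes `T R`.
`Cam/Spor/Core.lean` shows that the socle of a configuration `Conf` (with `Rank7`) contains such a `Core`.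
-/

set_option autoImplicit false

namespace Cfsg.Agent.Cam.Spor

open Subgroup Cfsg.Agent.TwoFusion.PerfCore

section defs
variable {L U : Type} [Group L] [Group U]

/-- `T = τ U` and the perfect group `R` -/
structure Pair (τ : U →* L) (R : Subgroup L) : Prop where
  inj : Function.Injective τ
  perfect : ⁅R, R⁆ = R
  comm : ∀ u : U, ∀ r ∈ R, τ u * r = r * τ u
  copy : ∃ φ : U →* L, Function.Injective φ ∧ ∀ u, φ u ∈ R
  cnorm : centralizer (R : Set L) ≤ normalizer (τ.range : Set L)
  cfaith : ∀ c ∈ centralizer (R : Set L), (∀ u, c * τ u = τ u * c) → c = 1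
  rk : R = perf (centralizer (τ.range : Set L)) ∨ ∃ φ₁ φ₂ : U →* L, Function.Injective φ₁ ∧ Function.Injective φ₂ ∧
    (∀ u, φ₁ u ∈ R) ∧ (∀ u, φ₂ u ∈ R) ∧ ∀ u v, φ₁ u * φ₂ v = φ₂ v * φ₁ u

/-- the local configuration -/
structure Core (τ α β : U →* L) (R R' : Subgroup L) : Prop where
  simple : IsSimpleGroup U
  noncomm : ¬ IsMulCommutative U
  pair : Pair τ R
  pair' : Pair α R'
  eq : ∀ u, τ u = α u * β u
  bmem : ∀ u, β u ∈ R'
  anorm : ∀ u, α u ∈ normalizer ((τ.range ⊔ R : Subgroup L) : Set L) → u = 1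
  aconj : ∃ θ : MulAut L, α.range = τ.range.map θ.toMonoidHom
  hconj : ∃ θ : MulAut L, α.range ⊔ R' = (τ.range ⊔ R).map θ.toMonoidHom
  nrm : ∀ h ∈ normalizer ((τ.range ⊔ R : Subgroup L) : Set L), ∀ n ∈ normalizer ((τ.range ⊔ R : Subgroup L) : Set L),
    n ∈ normalizer ((α.range ⊔ R' : Subgroup L) : Set L) → h * n * h⁻¹ ∈ normalizer ((α.range ⊔ R' : Subgroup L) : Set L)
  max : ∀ Y : Subgroup L, Y ≠ ⊤ →
    (∀ θ : MulAut L, (τ.range ⊔ R).map θ.toMonoidHom = τ.range ⊔ R → Y.map θ.toMonoidHom = Y) →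
    Y ≤ normalizer ((τ.range ⊔ R : Subgroup L) : Set L)

end defs

/-- no local configuration in `L` -/
def NoCore (L : Type) [Group L] : Prop :=
  ∀ (U : Type) [Group U] [Finite U] (τ α β : U →* L) (R R' : Subgroup L), ¬ Core τ α β R R'

end Cfsg.Agent.Cam.Spor
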