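import Cfsg.Agent.Cam.Spor.RowSuz
import Cfsg.Agent.H971.Bender
import Cfsg.Agent.StrongEmb.Main
import Cfsg.Agent.S0205
import Cfsg.Agent.S0223
import Cfsg.Agent.S0497

/-!
# S3689, S3690: generation by Bender's theorem; data in `A₅` (helper67)
-/

set_option autoImplicit false

namespace Cfsg.Agent.Cam.Spor

open Cfsg Subgroup Cfsg.Agent.TwoFusion.PerfCore

section
variable {G : Type} [Group G]

/-- a non-solvable subgroup with one class of involutions containing their centralizers is the whole group -/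
theorem le_of_gen [Finite G] {C Y : Subgroup G} (hY : Y ≤ C) (hs : ¬ Group.IsSolvable Y) {a b t : G} (ha : a ∈ C)
    (hb : b ∈ C) (ha2 : orderOf a = 2) (hb2 : orderOf b = 2) (hab : a * b = b * a) (hne : a ≠ b)
    (h1 : ∀ y ∈ Y, orderOf y = 2 → ∃ k ∈ Y, k * t * k⁻¹ = y) (h2 : ∀ c ∈ C, c * t = t * c → c ∈ Y) : C ≤ Y := by
  by_contra hne'
  have e := subgroupOfEquivOfLe hY
  have hE : IsStronglyEmbedded (Y.subgroupOf C) := by
    refine (S0223.result _ (fun h => hne' (subgroupOf_eq_top.1 h)) ?_).2 ⟨fun y hy hy2 c hc => ?_,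
      fun y hy y' hy' hy2 hy2' _ => ?_⟩
    · rw [Nat.card_congr e.toEquiv]
      exact Nat.not_odd_iff_even.1 fun h => hs (S0205.result h)
    · obtain ⟨k, hk, hkt⟩ := h1 y hy (by rw [Subgroup.orderOf_coe, hy2])
      have h3 : (c : G) * y = y * c := congrArg Subtype.val (mem_centralizer_singleton_iff.1 hc)
      have h4 : k⁻¹ * c * k ∈ Y := h2 _ (mul_mem (mul_mem (inv_mem (hY hk)) c.2) (hY hk)) (by
        rw [← hkt] at h3
        calc k⁻¹ * c * k * t = k⁻¹ * (c * (k * t * k⁻¹)) * k := by group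
          _ = _ := by rw [h3]; group)
      have h5 := mul_mem (mul_mem hk h4) (inv_mem hk)
      rw [mem_subgroupOf]
      simpa only [mul_assoc, mul_inv_cancel_left, mul_inv_cancel, mul_one] using h5
    · obtain ⟨k, hk, hkt⟩ := h1 y hy (by rw [Subgroup.orderOf_coe, hy2])
      obtain ⟨k', hk', hkt'⟩ := h1 y' hy' (by rw [Subgroup.orderOf_coe, hy2'])
      refine ⟨⟨k' * k⁻¹, hY (mul_mem hk' (inv_mem hk))⟩, mul_mem hk' (inv_mem hk), Subtype.ext ?_⟩
      change k' * k⁻¹ * y * (k' * k⁻¹)⁻¹ = y'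
      rw [← hkt, ← hkt']
      group
  have h3 := H971.Bender.isSolvable_of_commPair (fun K _ _ => StrongEmb.Main.bender K)
    (fun K _ _ hK => S0205.result hK) hE ⟨⟨a, ha⟩, ⟨b, hb⟩, by rw [← Subgroup.orderOf_coe]; exact ha2,
      by rw [← Subgroup.orderOf_coe]; exact hb2, fun h => hne (congrArg Subtype.val h), Subtype.ext hab⟩
  exact hs (Group.isSolvable_of_surjective (f := e.toMonoidHom) e.surjective)

/-- the elements of `C(x)` that commute with `z` modulo `⟨x⟩` -/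
def Yz (x z : G) : Subgroup G where
  carrier := {c | c * x = x * c ∧ c * z * c⁻¹ * z⁻¹ ∈ zpowers x}
  one_mem' := ⟨by rw [one_mul, mul_one], by simp⟩
  mul_mem' := by
    rintro c d ⟨hc, hc'⟩ ⟨hd, hd'⟩
    refine ⟨by rw [mul_assoc, hd, ← mul_assoc, hc, mul_assoc], ?_⟩
    have h1 := zpowers_comm _ hd' c (mem_centralizer_singleton_iff.2 hc)
    have h2 : c * d * z * (c * d)⁻¹ * z⁻¹ = c * (d * z * d⁻¹ * z⁻¹) * c⁻¹ * (c * z * c⁻¹ * z⁻¹) := by group
    rw [h2, h1, mul_inv_cancel_right]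
    exact mul_mem hd' hc'
  inv_mem' := by
    rintro c ⟨hc, hc'⟩
    refine ⟨(show Commute c x from hc).inv_left.eq, ?_⟩
    have h1 := zpowers_comm _ (inv_mem hc') c (mem_centralizer_singleton_iff.2 hc)
    have h2 : c⁻¹ * z * c⁻¹⁻¹ * z⁻¹ = c⁻¹ * (c * z * c⁻¹ * z⁻¹)⁻¹ * c := by group
    rw [h2, mul_assoc, ← h1, inv_mul_cancel_left]
    exact inv_mem hc'

theorem mem_Yz {x z c : G} : c ∈ Yz x z ↔ c * x = x * c ∧ c * z * c⁻¹ * z⁻¹ ∈ zpowers x := Iff.rfl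

theorem Yz_le (x z : G) : Yz x z ≤ centralizer ({x} : Set G) := fun _ hc => mem_centralizer_singleton_iff.2 hc.1

theorem mem_Yz_of_comm {x z c : G} (h1 : c * x = x * c) (h2 : c * z = z * c) : c ∈ Yz x z :=
  ⟨h1, by rw [h2]; simp⟩

/-- changing `z` by an element commuting with `c` -/
theorem mem_Yz_mul {x z c d : G} (h : c ∈ Yz x z) (hd : c * d = d * c) : c ∈ Yz x (z * d) :=
  ⟨h.1, by
    have : c * (z * d) * c⁻¹ * (z * d)⁻¹ = c * z * (d * c⁻¹ * d⁻¹) * z⁻¹ := by group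
    rw [this, ← (show Commute c d from hd).inv_left.eq, mul_inv_cancel_right]
    exact h.2⟩

/-- an involution commuting with `z` modulo `⟨x⟩` commutes with `z` -/
theorem comm_of_mem_Yz {x z t : G} {r : ℕ} (hx : x ^ r = 1) (hr : Odd r) (h : t ∈ Yz x z) (ht : t * t = 1) :
    t * z = z * t := by
  obtain ⟨i, hi⟩ := h.2
  change x ^ i = _ at hi
  have ht' : t⁻¹ = t := inv_eq_of_mul_eq_one_left ht
  have h1 : z * t * z⁻¹ = t * x ^ i := by rw [hi, ht']; rw [← mul_assoc, ← mul_assoc, ← mul_assoc, ht, one_mul]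
  have h2 : Commute t (x ^ i) := (show Commute t x from h.1).zpow_right i
  have h3 : (x ^ i) ^ 2 = 1 := by
    have h4 : (t * x ^ i) ^ 2 = 1 := by rw [← h1, conj_pow, pow_two, ht]; group
    rwa [h2.mul_pow, pow_two t, ht, one_mul] at h4
  have h4 : (x ^ i) ^ r = 1 := by rw [← zpow_natCast, ← zpow_mul, mul_comm, zpow_mul, zpow_natCast, hx, one_zpow]
  have h5 : x ^ i = 1 := by
    rw [← pow_one (x ^ i), ← show Nat.gcd 2 r = 1 from (Nat.coprime_two_left.2 hr), pow_gcd_eq_one]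
    exact ⟨h3, h4⟩
  rw [h5, mul_one] at h1
  calc t * z = z * t * z⁻¹ * z := by rw [h1]
    _ = _ := by group

end

/-- the elements of `A₅` that are used -/
structure A5Dat {U : Type} [Group U] (u v a b r : U) : Prop where
  hu : orderOf u = 5
  hv : v * v = 1
  hvu : v * u * v⁻¹ = u⁻¹
  ha : orderOf a = 2
  hb : orderOf b = 2
  hab : a * b = b * a
  hne : a ≠ b
  ra : r * a * r⁻¹ = b
  rb : r * b * r⁻¹ = a * b

theorem A5Dat.map {U V : Type} [Group U] [Group V] {u v a b r : U} (d : A5Dat u v a b r) {f : U →* V}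
    (hf : Function.Injective f) : A5Dat (f u) (f v) (f a) (f b) (f r) :=
  ⟨by rw [orderOf_injective f hf, d.hu], by rw [← map_mul, d.hv, map_one], by
    rw [← map_inv, ← map_inv, ← map_mul, ← map_mul, d.hvu], by rw [orderOf_injective f hf, d.ha],
    by rw [orderOf_injective f hf, d.hb], by rw [← map_mul, ← map_mul, d.hab], fun h => d.hne (hf h),
    by rw [← map_inv, ← map_mul, ← map_mul, d.ra], by rw [← map_inv, ← map_mul, ← map_mul, ← map_mul, d.rb]⟩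

theorem a5Dat_alt {n : ℕ} (u v a b r : Equiv.Perm (Fin n)) (h : (Equiv.Perm.sign u = 1 ∧ Equiv.Perm.sign v = 1 ∧
    Equiv.Perm.sign a = 1 ∧ Equiv.Perm.sign b = 1 ∧ Equiv.Perm.sign r = 1) ∧ u ^ 5 = 1 ∧ u ≠ 1 ∧ v * v = 1 ∧
    v * u * v⁻¹ = u⁻¹ ∧ a ^ 2 = 1 ∧ a ≠ 1 ∧ b ^ 2 = 1 ∧ b ≠ 1 ∧ a * b = b * a ∧ a ≠ b ∧ r * a * r⁻¹ = b ∧
    r * b * r⁻¹ = a * b) : ∃ u v a b r : alternatingGroup (Fin n), A5Dat u v a b r := by
  obtain ⟨⟨s1, s2, s3, s4, s5⟩, h1, h2, h3, h4, h5, h6, h7, h8, h9, h10, h11, h12⟩ := h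
  have : Fact (Nat.Prime 5) := ⟨by norm_num⟩
  refine ⟨⟨u, s1⟩, ⟨v, s2⟩, ⟨a, s3⟩, ⟨b, s4⟩, ⟨r, s5⟩, ?_, Subtype.ext h3, Subtype.ext h4, ?_, ?_, Subtype.ext h9,
    fun h => h10 (congrArg Subtype.val h), Subtype.ext h11, Subtype.ext h12⟩
  · rw [← Subgroup.orderOf_coe]; exact orderOf_eq_prime h1 h2
  · rw [← Subgroup.orderOf_coe]; exact orderOf_eq_prime h5 h6
  · rw [← Subgroup.orderOf_coe]; exact orderOf_eq_prime h7 h8

theorem exists_a5Dat {U : Type} [Group U] [Finite U] (hs : IsSimpleGroup U) (h : Nat.card U = 60 ∨ Nat.card U = 360) :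
    ∃ u v a b r : U, A5Dat u v a b r := by
  rcases h with h | h
  · obtain ⟨e⟩ := S0494.result h
    obtain ⟨u, v, a, b, r, d⟩ := a5Dat_alt (n := 5) c[0, 1, 2, 3, 4] (c[1, 4] * c[2, 3]) (c[0, 1] * c[2, 3])
      (c[0, 2] * c[1, 3]) c[1, 2, 3] (by decide +kernel)
    exact ⟨_, _, _, _, _, d.map (f := e.symm.toMonoidHom) e.symm.injective⟩
  · obtain ⟨e⟩ := S0497.result h
    obtain ⟨u, v, a, b, r, d⟩ := a5Dat_alt (n := 6) c[0, 1, 2, 3, 4] (c[1, 4] * c[2, 3]) (c[0, 1] * c[2, 3])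
      (c[0, 2] * c[1, 3]) c[1, 2, 3] (by decide +kernel)
    exact ⟨_, _, _, _, _, d.map (f := e.symm.toMonoidHom) e.symm.injective⟩

end Cfsg.Agent.Cam.Spor
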