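import Cfsg.Agent.Cam.Spor.SD
import Cfsg.Agent.LThreeMB.Quo

/-!
# S3689, S3690: tools for the row M (helper95)
-/

set_option autoImplicit false

namespace Cfsg.Agent.Cam.Spor

open Cfsg Subgroup Cfsg.Agent.TwoFusion.PerfCore
open Cfsg.Agent.LThreeMB (XX Zx)

section gen
variable {G : Type} [Group G]

/-- the perfect core of `C(x)` when `C(x) / ⟨x⟩` is simple -/
theorem qs_of_XX [Finite G] {x : G} {K : Type} [Group K] (e : XX x ≃* K) (hs : IsSimpleGroup K)
    (hn : ¬ IsMulCommutative K) : ∃ f : perf (centralizer ({x} : Set G)) →* K, QS _ f ∧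
      ∀ p, f p = 1 → (p : G) ∈ zpowers x := by
  let π : centralizer ({x} : Set G) →* K := e.toMonoidHom.comp (QuotientGroup.mk' (Zx x))
  have hπ : Function.Surjective π := e.surjective.comp (QuotientGroup.mk'_surjective _)
  have hk : ∀ p : perf (centralizer ({x} : Set G)), π.comp (inclusion (perf_le _)) p = 1 → (p : G) ∈ zpowers x := by
    intro p hp
    have h1 : QuotientGroup.mk' (Zx x) (inclusion (perf_le _) p) = 1 := e.injective (hp.trans (map_one e).symm)
    obtain ⟨i, hi⟩ := (QuotientGroup.eq_one_iff _).1 h1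
    exact ⟨i, congrArg Subtype.val hi⟩
  refine ⟨π.comp (inclusion (perf_le _)), ⟨hs, hn, fun y => ?_, fun p hp => ?_⟩, hk⟩
  · have h1 := map_perf π ⊤
    rw [map_top_of_surjective _ hπ, perf_eq_self (commutator_top hs hn)] at h1
    obtain ⟨c, hc, rfl⟩ : y ∈ (perf ⊤).map π := h1 ▸ mem_top y
    have h2 := map_perf (centralizer ({x} : Set G)).subtype ⊤
    rw [← MonoidHom.range_eq_map, range_subtype] at h2
    exact ⟨⟨c, h2 ▸ ⟨c, hc, rfl⟩⟩, rfl⟩
  · exact mem_center_iff.2 fun c => Subtype.ext (zpowers_comm _ (hk p hp) c (perf_le _ c.2))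

/-- an element of prime power order outside a subgroup -/
theorem exists_qelt [Finite G] {C N : Subgroup G} (hle : C ≤ N) {e q : ℕ} (hq : q.Prime)
    (h : Nat.card N = Nat.card C * e) (hd : q ∣ e) : ∃ v ∈ N, v ∉ C ∧ ∃ j : ℕ, v ^ q ^ j = 1 := by
  have : Fact q.Prime := ⟨hq⟩
  obtain ⟨P⟩ : Nonempty (Sylow q N) := inferInstance
  by_contra h1
  have h2 : (P : Subgroup N) ≤ C.subgroupOf N := fun v hv => by
    by_contra h3
    obtain ⟨j, hj⟩ := P.isPGroup' ⟨v, hv⟩
    exact h1 ⟨v, v.2, h3, j, congrArg Subtype.val (congrArg Subtype.val hj)⟩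
  have h3 := card_mul_index (C.subgroupOf N)
  rw [Nat.card_congr (subgroupOfEquivOfLe hle).toEquiv, h] at h3
  have h4 : (C.subgroupOf N).index = e := Nat.eq_of_mul_eq_mul_left Nat.card_pos h3
  exact P.not_dvd_index (hd.trans (h4 ▸ index_dvd_of_le h2))

theorem cent_le_norm (x : G) : centralizer ({x} : Set G) ≤ normalizer ((zpowers x : Subgroup G) : Set G) :=
  cent_zpowers x ▸ centralizer_le_normalizer _

/-- an isolated involution is the only involution of the Sylow subgroups -/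
theorem eq_of_isolated [Finite G] {z a b : G} (hz : orderOf z = 2) (h : ∀ s, s * s = 1 → s * z = z * s → s = 1 ∨ s = z)
    (ha : orderOf a = 2) (hb : orderOf b = 2) (hab : a * b = b * a) : a = b := by
  have : Fact (Nat.Prime 2) := ⟨Nat.prime_two⟩
  have hp : ∀ y : G, orderOf y = 2 → IsPGroup 2 (zpowers y) := fun y hy =>
    IsPGroup.of_card (n := 1) (by rw [Nat.card_zpowers, hy, pow_one])
  have hsq : ∀ y : G, orderOf y = 2 → y * y = 1 ∧ y ≠ 1 := fun y hy =>
    ⟨by rw [← pow_two, ← hy, pow_orderOf_eq_one], fun h1 => by rw [h1, orderOf_one] at hy; omega⟩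
  obtain ⟨P, hP⟩ := (hp z hz).exists_le_sylow
  obtain ⟨Q, hQ⟩ := (hp a ha).exists_le_sylow
  obtain ⟨g, hg⟩ := MulAction.exists_smul_eq G Q P
  have hzP : z ∈ P := hP (mem_zpowers z)
  have hnt : Nontrivial P := ⟨⟨⟨z, hzP⟩, 1, fun h1 => (hsq z hz).2 (congrArg Subtype.val h1)⟩⟩
  have := P.isPGroup'.center_nontrivial
  obtain ⟨t, ht⟩ := exists_prime_orderOf_dvd_card' (G := center P) 2
    (((P.isPGroup'.to_subgroup (center P)).nontrivial_iff_card.1 this).elim fun n hn => by
      rw [hn.2]; exact dvd_pow_self 2 hn.1.ne')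
  have ht2 : orderOf ((t : P) : G) = 2 := by rw [Subgroup.orderOf_coe, Subgroup.orderOf_coe, ht]
  have htz : ((t : P) : G) = z :=
    (h _ (hsq _ ht2).1 (congrArg Subtype.val (mem_center_iff.1 t.2 ⟨z, hzP⟩)).symm).resolve_left (hsq _ ht2).2
  have hc : ∀ y : G, orderOf y = 2 → orderOf (g * y * g⁻¹) = 2 := fun y hy => by
    rw [← hy]
    exact (MulAut.conj g).orderOf_eq y
  have haP : g * a * g⁻¹ ∈ P := by
    rw [← hg]
    exact ⟨a, hQ (mem_zpowers a), rfl⟩
  have h1 : g * a * g⁻¹ = z := (h _ (hsq _ (hc a ha)).1 (by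
    rw [← htz]
    exact congrArg Subtype.val (mem_center_iff.1 t.2 ⟨_, haP⟩))).resolve_left (hsq _ (hc a ha)).2
  have h2 : g * b * g⁻¹ = z := (h _ (hsq _ (hc b hb)).1 (by
    rw [← h1]
    calc g * b * g⁻¹ * (g * a * g⁻¹) = g * (b * a) * g⁻¹ := by group
      _ = _ := by rw [← hab]; group)).resolve_left (hsq _ (hc b hb)).2
  exact (MulAut.conj g).injective (h1.trans h2.symm)

/-- an automorphism fixing an element of prime order `r` and a subgroup of index `r + 1` -/
theorem aut_eq_one' [Finite G] (hs : IsSimpleGroup G) {σ : MulAut G} {m r : ℕ} (hr : r.Prime) (hσ : σ ^ m = 1)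
    (hm : m.Coprime r) {D : Subgroup G} (hD : ∀ y, σ y ∈ D ↔ y ∈ D) (hi : D.index = r + 1) {y : G} (hy : σ y = y)
    (ho : orderOf y = r) : σ = 1 := by
  classical
  have := Fintype.ofFinite (G ⧸ D)
  have hc : Fintype.card (G ⧸ D) = r + 1 := by rw [← Nat.card_eq_fintype_card]; exact hi
  let ρ := MulAction.toPermHom G (G ⧸ D)
  have hρ : Function.Injective ρ := by
    rw [← MonoidHom.ker_eq_bot_iff, ← normalCore_eq_ker]
    refine (hs.eq_bot_or_eq_top_of_normal _ inferInstance).resolve_right fun h => ?_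
    have h1 : D = ⊤ := top_le_iff.1 (h ▸ normalCore_le D)
    rw [h1, index_top] at hi
    have := hr.pos
    omega
  let t : Equiv.Perm (G ⧸ D) := Quotient.congr σ.toEquiv fun a b => by
    rw [QuotientGroup.leftRel_apply, QuotientGroup.leftRel_apply]
    change _ ↔ (σ a)⁻¹ * σ b ∈ D
    rw [← map_inv, ← map_mul, hD]
  have ht : ∀ g : G, t (QuotientGroup.mk g) = QuotientGroup.mk (σ g) := fun g => rfl
  have htn : ∀ (n : ℕ) (g : G), (t ^ n) (QuotientGroup.mk g) = QuotientGroup.mk ((σ ^ n) g) := fun n => by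
    induction n with
    | zero => exact fun g => rfl
    | succ n ih => intro g; rw [pow_succ', pow_succ', Equiv.Perm.mul_apply, ih, ht]; rfl
  have h1 : t ^ m = 1 := by
    ext v
    induction v using QuotientGroup.induction_on with
    | H g => rw [htn, hσ]; rfl
  have hoy : orderOf (ρ y) = r := by rw [orderOf_injective ρ hρ, ho]
  have hct : (ρ y).cycleType = {r} := by
    have h2 := Equiv.Perm.isCycle_of_prime_order' (σ := ρ y) (by rw [hoy]; exact hr)
      (by rw [hoy, hc]; have := hr.two_le; omega)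
    rw [h2.cycleType, ← h2.orderOf, hoy]
  have hcard : Nat.card (centralizer ({ρ y} : Set (Equiv.Perm (G ⧸ D)))) = r := by
    rw [Equiv.Perm.nat_card_centralizer, hct, hc]
    simp
  have h2 : t ∈ centralizer ({ρ y} : Set (Equiv.Perm (G ⧸ D))) := by
    refine mem_centralizer_singleton_iff.2 ?_
    ext v
    induction v using QuotientGroup.induction_on with
    | H g =>
      change t (QuotientGroup.mk (y * g)) = QuotientGroup.mk (y * σ g)
      rw [ht, map_mul, hy]
  have h3 : t ^ r = 1 := by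
    have := congrArg Subtype.val (pow_card_eq_one' (x := (⟨t, h2⟩ : centralizer ({ρ y} : Set (Equiv.Perm (G ⧸ D))))))
    rwa [hcard] at this
  have h4 : t = 1 := by
    rw [← pow_one t, ← show Nat.gcd m r = 1 from hm, pow_gcd_eq_one]
    exact ⟨h1, h3⟩
  ext g
  refine hρ ?_
  ext v
  induction v using QuotientGroup.induction_on with
  | H z =>
    have h5 : (QuotientGroup.mk (σ z) : G ⧸ D) = QuotientGroup.mk z := by rw [← ht, h4]; rfl
    have h6 : (QuotientGroup.mk (σ (g * z)) : G ⧸ D) = QuotientGroup.mk (g * z) := by rw [← ht, h4]; rfl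
    change σ g • (QuotientGroup.mk z : G ⧸ D) = QuotientGroup.mk (g * z)
    rw [← h5, ← h6, map_mul]
    rfl

/-- the automorphisms of the simple group of order 168 fixing an element of order seven -/
theorem aut_168m [Finite G] (hs : IsSimpleGroup G) (hG : Nat.card G = 168) {σ : MulAut G} {m : ℕ}
    (hσ : σ ^ m = 1) (hm : m.Coprime 7) {y : G} (hy : orderOf y = 7) (h : σ y = y) : σ = 1 := by
  obtain ⟨e, -, -, h1, -, h2⟩ := H58.Cop.arith (by norm_num) hy (by rw [hG]; norm_num) (by rw [hG]; norm_num)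
  let D := normalizer ((zpowers y : Subgroup G) : Set G)
  have key : ∀ θ : MulAut G, θ y = y → ∀ g ∈ D, θ g ∈ D := fun θ hθ g hg => mem_normalizer_of (by
    rintro _ ⟨i, rfl⟩
    obtain ⟨j, hj⟩ := conj_mem_of_norm hg (⟨i, rfl⟩ : y ^ i ∈ zpowers y)
    refine ⟨j, ?_⟩
    have h3 := congrArg θ hj
    simpa only [map_zpow, map_mul, map_inv, hθ] using h3)
  refine aut_eq_one' hs (r := 7) (by norm_num) hσ hm (D := D) (fun g => ⟨fun hg => ?_, key σ h g⟩) ?_ h hy
  · have h3 := key σ⁻¹ (by rw [MulAut.inv_apply, MulEquiv.symm_apply_eq, h]) _ hg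
    rwa [MulAut.inv_apply, MulEquiv.symm_apply_apply] at h3
  have h3 := card_mul_index D
  rw [← h1, ← h3, Nat.mul_div_cancel_left _ Nat.card_pos] at h2
  have h4 : 7 ∣ Nat.card D := by
    rw [← hy, ← Nat.card_zpowers]
    exact card_dvd_of_le le_normalizer
  obtain ⟨d, hd⟩ := h4
  have h5 : D.index ∣ 24 := Dvd.intro_left d (by rw [hd, hG, mul_assoc] at h3; omega)
  have h6 : D.index ≠ 1 := fun h6 => by
    have h7 : (zpowers y).Normal := normalizer_eq_top_iff.1 (index_eq_one.1 h6)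
    have h8 := Nat.card_zpowers y
    rcases hs.eq_bot_or_eq_top_of_normal _ h7 with h9 | h9
    · rw [h9, card_bot, hy] at h8
      omega
    · rw [h9, card_top, hy, hG] at h8
      omega
  have h7 := Nat.le_of_dvd (by norm_num) h5
  generalize D.index = n at h2 h5 h6 h7
  interval_cases n <;> omega

end gen

variable {L U X : Type} [Group L] [Group U] [Group X] {τ α β : U →* L} {R R' : Subgroup L}

theorem Core.exists_rho [Finite L] (c : Core τ α β R R') {u : U} {f : perf (centralizer ({τ u} : Set L)) →* X}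
    (h : QS _ f) : ∃ ρ : U →* X, Function.Injective ρ := by
  obtain ⟨φ, hφ, hm⟩ := c.pair.copy
  exact ⟨_, h.inj c.simple c.noncomm hφ fun b => c.pair.le_perf_cent u (hm b)⟩

/-- the inner automorphism of the simple quotient induced by `τ v` -/
theorem Core.exists_inner [Finite L] (c : Core τ α β R R') {u v : U}
    (hv : v ∈ normalizer ((zpowers u : Subgroup U) : Set U)) (hne : v ∉ centralizer ({u} : Set U))
    {f : perf (centralizer ({τ u} : Set L)) →* X} (h : QS _ f) {n : ℕ} (hn : v ^ n = 1)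
    (ho : n.Coprime (Nat.card (Out X))) : ∃ (k : perf (centralizer ({τ u} : Set L))) (ρ : U →* X),
      Function.Injective ρ ∧ f k ≠ 1 ∧ f k ^ n = 1 ∧ (∀ a, ρ a * f k = f k * ρ a) ∧ (k : L) ∈ centralizer (R : Set L) := by
  obtain ⟨φ, hφ, hm⟩ := c.pair.copy
  obtain ⟨a, ha⟩ := h.exists_act
  have hN : τ v ∈ normalizer ((perf (centralizer ({τ u} : Set L)) : Subgroup L) : Set L) := by
    refine normalizer_le_normalizer_perf _ (mem_normalizer_of fun y hy => mem_centralizer_singleton_iff.2 ?_)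
    obtain ⟨i, hi⟩ := conj_mem_of_norm (inv_mem hv) (mem_zpowers u)
    have h2 : (τ v)⁻¹ * τ u * τ v = τ u ^ i := by
      rw [← map_zpow, show u ^ i = v⁻¹ * u * v⁻¹⁻¹ from hi, inv_inv, map_mul, map_mul, map_inv]
    have h3 : Commute y (τ u ^ i) := (show Commute y (τ u) from mem_centralizer_singleton_iff.1 hy).zpow_right i
    calc τ v * y * (τ v)⁻¹ * τ u = τ v * (y * ((τ v)⁻¹ * τ u * τ v)) * (τ v)⁻¹ := by group
      _ = τ v * (((τ v)⁻¹ * τ u * τ v) * y) * (τ v)⁻¹ := by rw [h2, h3.eq]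
      _ = _ := by group
  have h1 : a ⟨τ v, hN⟩ ^ n = 1 := by
    rw [← map_pow, show (⟨τ v, hN⟩ : normalizer _) ^ n = 1 from Subtype.ext (by
      change τ v ^ n = 1
      rw [← map_pow, hn, map_one]), map_one]
  have h2 : a ⟨τ v, hN⟩ ∈ Inn X := by
    rw [← QuotientGroup.eq_one_iff, ← pow_one (QuotientGroup.mk (a ⟨τ v, hN⟩) : Out X),
      ← show Nat.gcd n (Nat.card (Out X)) = 1 from ho, pow_gcd_eq_one]
    exact ⟨by rw [← QuotientGroup.mk_pow, h1, QuotientGroup.mk_one], pow_card_eq_one'⟩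
  obtain ⟨y, hy⟩ := h2
  obtain ⟨k, rfl⟩ := h.surj y
  have hkN : (k : L) ∈ normalizer ((perf (centralizer ({τ u} : Set L)) : Subgroup L) : Set L) := le_normalizer k.2
  have h3 : (k : L)⁻¹ * τ v ∈ centralizer (perf (centralizer ({τ u} : Set L)) : Set L) := by
    refine h.mem_cent (perf_perfect _) (⟨k, hkN⟩⁻¹ * ⟨τ v, hN⟩) fun p => ?_
    have h4 : a ⟨k, hkN⟩ = MulAut.conj (f k) := by
      ext z
      obtain ⟨q, rfl⟩ := h.surj z
      rw [ha, MulAut.conj_apply, ← map_inv, ← map_mul, ← map_mul]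
      rfl
    rw [← ha, map_mul, map_inv, h4, hy, inv_mul_cancel, MulAut.one_apply]
  have h4 : (k : L) ∈ centralizer (R : Set L) := by
    have h5 := mul_mem (c.pair.tau_mem_cent v) (inv_mem (centralizer_le (c.pair.le_perf_cent u) h3))
    rwa [mul_inv_rev, inv_inv, mul_inv_cancel_left] at h5
  refine ⟨k, _, h.inj c.simple c.noncomm hφ fun b => c.pair.le_perf_cent u (hm b), fun h5 => hne ?_, ?_, fun b => ?_, h4⟩
  · refine mem_centralizer_singleton_iff.2 (c.comm_of_cent_perf (h.mem_cent (perf_perfect _) ⟨τ v, hN⟩ fun p => ?_))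
    rw [← ha, ← hy, h5, map_one, MulAut.one_apply]
  · refine eq_one_of_comm h.simple h.noncomm fun z => ?_
    have h5 : MulAut.conj (f k ^ n) z = z := by rw [map_pow, hy, h1, MulAut.one_apply]
    rw [MulAut.conj_apply] at h5
    calc f k ^ n * z = f k ^ n * z * (f k ^ n)⁻¹ * f k ^ n := by group
      _ = _ := by rw [h5]
  · rw [MonoidHom.comp_apply, ← map_mul, ← map_mul]
    exact congrArg f (Subtype.ext (mem_centralizer_iff.1 h4 _ (hm b)))

end Cfsg.Agent.Cam.Spor
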