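import Cfsg.Agent.Cam.Spor.MTh
import Cfsg.Agent.TAB.M5.Loc

/-!
# S3689, S3690: the action on `5 ^ (1 + 6)` (helper67)
-/

set_option autoImplicit false

namespace Cfsg.Agent.Cam.Spor

open Cfsg Subgroup Cfsg.Agent.TAB.M5

section
variable {D : Type} [Group D] {z x : D} {S : Subgroup D} {A : Type} [Group A] {ρ : D →* A}

/-- the module `S / ⟨x⟩` -/
theorem loc_mod [Finite D] (h : Loc z x S ρ) : ∃ (W : Type) (_ : AddCommGroup W) (_ : Finite W) (act : D → W →+ W)
    (pr : S →* Multiplicative W), Nat.card W = 5 ^ 6 ∧ (∀ g g' w, act (g * g') w = act g (act g' w)) ∧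
      (∀ w, act 1 w = w) ∧ Function.Surjective pr ∧ (∀ s : S, pr s = 1 ↔ (s : D) ∈ zpowers x) ∧
      ∀ g (s : S), act g (pr s).toAdd = (pr ⟨g * s * g⁻¹, h.Sn.conj_mem _ s.2 g⟩).toAdd := by
  have hS := h.Sn
  have hZ : (zpowers x).Normal := ⟨by
    rintro _ ⟨i, rfl⟩ g
    rw [(h.xpow i g).eq, mul_inv_cancel_right]
    exact ⟨i, rfl⟩⟩
  let π := QuotientGroup.mk' (zpowers x)
  have hW : (S.map π).Normal := hS.map π (QuotientGroup.mk'_surjective _)
  have hi : ∀ p ∈ S.map π, π z * p * (π z)⁻¹ = p⁻¹ := by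
    rintro _ ⟨n, hn, rfl⟩
    obtain ⟨i, hi⟩ := h.inv n hn
    rw [← map_inv, ← map_mul, ← map_mul, hi, map_mul, map_inv,
      show π (x ^ i) = 1 from (QuotientGroup.eq_one_iff _).2 ⟨i, rfl⟩, mul_one]
  let _ : CommGroup (S.map π) := { (inferInstance : Group (S.map π)) with
    mul_comm := fun p q => Subtype.ext (inv_injective (by
      change ((p : D ⧸ zpowers x) * q)⁻¹ = ((q : D ⧸ zpowers x) * p)⁻¹
      rw [← hi _ (mul_mem p.2 q.2), mul_inv_rev, ← hi _ p.2, ← hi _ q.2]
      group)) }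
  have hk : ∀ s : S, π.subgroupMap S s = 1 ↔ (s : D) ∈ zpowers x := fun s =>
    Subtype.ext_iff.trans (QuotientGroup.eq_one_iff _)
  refine ⟨Additive (S.map π), inferInstance, inferInstance,
    fun g => MonoidHom.toAdditive (MulAut.conjNormal (π g) : MulAut (S.map π)).toMonoidHom,
    (MulEquiv.multiplicativeAdditive _).symm.toMonoidHom.comp (π.subgroupMap S), ?_, fun g g' w => ?_, fun w => ?_,
    (MulEquiv.multiplicativeAdditive _).symm.surjective.comp (π.subgroupMap_surjective S), fun s => ?_, fun g s => rfl⟩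
  · have h1 := card_mul_index (π.subgroupMap S).ker
    have h2 : (π.subgroupMap S).ker = (zpowers x).subgroupOf S := by
      ext s
      exact hk s
    rw [index_ker, MonoidHom.range_eq_top.2 (π.subgroupMap_surjective S), card_top, h2,
      Nat.card_congr (subgroupOfEquivOfLe (zpowers_le.2 h.xS)).toEquiv, Nat.card_zpowers, h.ox, h.cS] at h1
    change Nat.card (S.map π) = _
    omega
  · simp only [map_mul]; rfl
  · simp only [map_one]; rfl
  · exact (MulEquiv.map_eq_one_iff (MulEquiv.multiplicativeAdditive (S.map π)).symm).trans (hk s)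

theorem loc_comm (h : Loc z x S ρ) {g s : D} {m : ℕ} (hm : m.Coprime 5) (hg : g ^ m = 1)
    (hs : g * s * g⁻¹ * s⁻¹ ∈ zpowers x) : g * s = s * g := by
  obtain ⟨i, hi⟩ := hs
  change x ^ i = _ at hi
  have h1 : s * g⁻¹ * s⁻¹ = g⁻¹ * x ^ i := by rw [hi]; group
  have h2 : (x ^ i) ^ m = 1 := by
    have h3 := congrArg (· ^ m) h1
    simp only [conj_pow, (h.xpow i g⁻¹).mul_pow, inv_pow, hg, inv_one, mul_one, mul_inv_cancel, one_mul] at h3
    exact h3.symm
  have h3 : x ^ i = 1 := eq_one_of_coprime hm h2 (by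
    rw [← zpow_natCast, ← zpow_mul, mul_comm, zpow_mul, zpow_natCast, ← h.ox, pow_orderOf_eq_one, one_zpow])
  rw [h3] at hi
  calc g * s = g * s * g⁻¹ * s⁻¹ * (s * g) := by group
    _ = _ := by rw [← hi, one_mul]

theorem nsmul_card {W : Type} [AddCommGroup W] (hW : Nat.card W = 5 ^ 6) {w : W} {m : ℕ} (hm : m.Coprime 5)
    (h : m • w = 0) : w = 0 := by
  have h1 := addOrderOf_dvd_natCard w
  rw [hW] at h1
  exact AddMonoid.addOrderOf_eq_one_iff.1
    (Nat.eq_one_of_dvd_coprimes (Nat.Coprime.pow_right 6 hm) (addOrderOf_dvd_of_nsmul_eq_zero h) h1)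

/-- an element of order three of an `A₄` has many fixed points -/
theorem loc_a4 [Finite D] (h : Loc z x S ρ) {U : Type} [Group U] (hs : IsSimpleGroup U) (φ : U →* D) {a b r : U}
    (ha : a * a = 1) (hb : b * b = 1) (hab : a * b = b * a) (ha1 : a ≠ 1) (ra : r * a * r⁻¹ = b)
    (rb : r * b * r⁻¹ = a * b) (hr : orderOf (φ r) = 3) :
    125 ∣ Nat.card (centralizer ({φ r} : Set D) ⊓ S : Subgroup D) := by
  refine (h.fix_three hr).resolve_left fun h5 => ?_
  obtain ⟨W, _, _, act, pr, hW, hm, h1, hp, hk, he⟩ := loc_mod h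
  have hr3 : φ r ^ 3 = 1 := by rw [← hr, pow_orderOf_eq_one]
  have hS := h.Sn
  have key : ∀ g (s : S), act g (pr s).toAdd = (pr s).toAdd → g * s * g⁻¹ * (s : D)⁻¹ ∈ zpowers x := fun g s h2 => by
    rw [he] at h2
    exact (hk (⟨g * s * g⁻¹, h.Sn.conj_mem _ s.2 g⟩ * s⁻¹)).1 (by
      rw [map_mul, map_inv, Multiplicative.toAdd.injective h2, mul_inv_cancel])
  have h2 := a4_fix (fun w hw => nsmul_card hW (m := 2) (by norm_num) (by rw [two_nsmul, hw]))
    (A := act (φ a)) (B := act (φ b)) (Y := act (φ r)) (fun w => by rw [← hm, ← map_mul, ha, map_one, h1])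
    (fun w => by rw [← hm, ← map_mul, hb, map_one, h1]) (fun w => by rw [← hm, ← hm, ← map_mul, ← map_mul, hab])
    (fun w => by rw [← hm, ← hm, ← map_mul, ← map_mul, ← ra, inv_mul_cancel_right])
    (fun w => by rw [← hm, ← hm, ← hm, ← map_mul, ← map_mul, ← map_mul, ← rb, inv_mul_cancel_right])
    (fun w => by rw [← hm, ← hm, ← pow_two, ← pow_succ, hr3, h1])
    (fun w hw => by
      obtain ⟨s, hs⟩ := hp (Multiplicative.ofAdd w)
      have h3 : (pr s).toAdd = w := by rw [hs]; rfl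
      have h4 := loc_comm h (m := 3) (by norm_num) hr3 (key _ s (by rw [h3, hw]))
      have h6 : (s : D) ∈ zpowers x := by
        rw [h.eq_zpowers h5]
        exact ⟨mem_centralizer_singleton_iff.2 h4.symm, s.2⟩
      rw [← h3, (hk s).2 h6]; rfl)
  have h3 : a ∈ (centralizer (S : Set D)).comap φ := mem_centralizer_iff.2 fun s hs =>
    (loc_comm h (m := 2) (by norm_num) (by rw [pow_two, ← map_mul, ha, map_one]) (key _ ⟨s, hs⟩ (h2 _))).symm
  have h4 : (centralizer (S : Set D)).comap φ = ⊤ :=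
    (hs.eq_bot_or_eq_top_of_normal _ inferInstance).resolve_left fun h4 => ha1 (by rwa [h4, mem_bot] at h3)
  have h6 : r ∈ (centralizer (S : Set D)).comap φ := h4 ▸ mem_top r
  rw [inf_eq_right.2 fun s hs => mem_centralizer_singleton_iff.2 (mem_centralizer_iff.1 h6 s hs), h.cS] at h5
  norm_num at h5

theorem relIndex_mul_card (C S : Subgroup D) : Nat.card (C ⊓ S : Subgroup D) * C.relIndex S = Nat.card S := by
  rw [← card_mul_index (C.subgroupOf S), ← inf_subgroupOf_right,
    Nat.card_congr (subgroupOfEquivOfLe (inf_le_right : C ⊓ S ≤ S)).toEquiv, inf_subgroupOf_right]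
  rfl

/-- an involution of an `S₃` fixing the fixed points of the element of order three -/
theorem loc_s3 [Finite D] (h : Loc z x S ρ) {t y : D} (ht : t * t = 1) (hy : y ^ 3 = 1) (hty : t * y * t⁻¹ = y⁻¹)
    (h125 : 125 ∣ Nat.card (centralizer ({y} : Set D) ⊓ S : Subgroup D))
    (hc : ∀ s ∈ S, y * s = s * y → t * s = s * t) : (centralizer ({t} : Set D)).relIndex S ≤ 25 := by
  obtain ⟨W, _, _, act, pr, hW, hm, h1, hp, hk, he⟩ := loc_mod h
  have key : ∀ (g : D) (m : ℕ), m.Coprime 5 → g ^ m = 1 → ∀ s : S, act g (pr s).toAdd = (pr s).toAdd ↔ g * s = s * g := by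
    refine fun g m hm hg s => ⟨fun h2 => loc_comm h hm hg ?_, fun h2 => ?_⟩
    · rw [he] at h2
      exact (hk (⟨g * s * g⁻¹, h.Sn.conj_mem _ s.2 g⟩ * s⁻¹)).1 (by
        rw [map_mul, map_inv, Multiplicative.toAdd.injective h2, mul_inv_cancel])
    · rw [he]
      congr 2
      exact Subtype.ext (mul_inv_eq_iff_eq_mul.2 h2)
  have hi : ∀ (g : D) (m : ℕ), m.Coprime 5 → g ^ m = 1 →
      (act g - AddMonoidHom.id W).ker.index = (centralizer ({g} : Set D)).relIndex S := fun g m hm hg => by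
    rw [← AddSubgroup.index_toSubgroup, ← index_comap_of_surjective _ hp, relIndex]
    congr 1
    ext s
    rw [mem_subgroupOf, mem_centralizer_singleton_iff, eq_comm, ← key g m hm hg]
    exact sub_eq_zero
  have ht2 : t ^ 2 = 1 := by rw [pow_two, ht]
  have h2 := s3_card (fun w hw => nsmul_card hW (m := 2) (by norm_num) (by rw [two_nsmul, hw]))
    (fun w hw => nsmul_card hW (m := 3) (by norm_num) (by rw [three_nsmul, ← add_assoc, hw])) (T := act t) (Y := act y)
    (fun w => by rw [← hm, ht, h1])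
    (fun w => by
      rw [← hm, ← hm, ← hm, mul_inv_eq_iff_eq_mul.1 hty, ← pow_two,
        inv_eq_of_mul_eq_one_right (show y * y ^ 2 = 1 by rw [← pow_succ', hy])])
    (fun w => by rw [← hm, ← hm, ← pow_two, ← pow_succ, hy, h1])
    (fun w hw => by
      obtain ⟨s, hs⟩ := hp (Multiplicative.ofAdd w)
      have h3 : (pr s).toAdd = w := by rw [hs]; rfl
      rw [← h3] at hw ⊢
      exact (key t 2 (by norm_num) ht2 s).2 (hc s s.2 ((key y 3 (by norm_num) hy s).1 hw)))
  have h3 := AddSubgroup.card_mul_index (act y - AddMonoidHom.id W).ker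
  have h4 := relIndex_mul_card (centralizer ({y} : Set D)) S
  obtain ⟨m, h5⟩ := h125
  have h6 : 0 < m := Nat.pos_of_ne_zero fun h6 => by
    rw [h6, mul_zero] at h5
    exact Nat.card_pos.ne' h5
  rw [hi t 2 (by norm_num) ht2, hW] at h2
  rw [hi y 3 (by norm_num) hy, hW] at h3
  rw [h5, h.cS] at h4
  generalize (centralizer ({y} : Set D)).relIndex S = n at h3 h4
  generalize Nat.card (act y - AddMonoidHom.id W).ker = c at h2 h3
  have h7 : c = 25 * m := Nat.eq_of_mul_eq_mul_right (Nat.pos_of_ne_zero fun h7 : n = 0 => by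
    rw [h7] at h4; norm_num at h4) (by rw [h3]; nlinarith)
  by_contra h8
  have h9 : 26 ^ 2 ≤ (centralizer ({t} : Set D)).relIndex S ^ 2 := Nat.pow_le_pow_left (by omega) 2
  nlinarith

theorem relIndex_conj [S.Normal] (t g : D) :
    (centralizer ({g * t * g⁻¹} : Set D)).relIndex S = (centralizer ({t} : Set D)).relIndex S := by
  rw [← relIndex_map_map_of_injective (f := (MulAut.conj g).toMonoidHom) (centralizer ({t} : Set D)) S
    (MulAut.conj g).injective]
  congr 1
  · ext c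
    refine ⟨fun hc => ⟨g⁻¹ * c * g, mem_centralizer_singleton_iff.2 ?_, by simp [mul_assoc]⟩, ?_⟩
    · calc g⁻¹ * c * g * t = g⁻¹ * (c * (g * t * g⁻¹)) * g := by group
        _ = _ := by rw [mem_centralizer_singleton_iff.1 hc]; group
    · rintro ⟨c, hc, rfl⟩
      refine mem_centralizer_singleton_iff.2 ?_
      change g * c * g⁻¹ * _ = _ * (g * c * g⁻¹)
      rw [conj_mul, conj_mul, mem_centralizer_singleton_iff.1 hc]
  · exact (Normal.map_conj_eq S g).symm

/-- two involutions with large fixed groups -/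
theorem loc_two [Finite D] (h : Loc z x S ρ) {C C' : Subgroup D} (h1 : C.relIndex S ≤ 25) (h2 : C'.relIndex S ≤ 25) :
    125 ∣ Nat.card (C ⊓ C' : Subgroup D) := by
  have h3 := relIndex_mul_card (C ⊓ C') S
  have h4 : (C ⊓ C').relIndex S ≤ 25 * 25 := relIndex_inf_le.trans (Nat.mul_le_mul h1 h2)
  obtain ⟨i, hi, h5⟩ := (Nat.dvd_prime_pow Nat.prime_five).1 (h.card_S (C ⊓ C'))
  refine Dvd.dvd.trans ?_ (card_dvd_of_le (inf_le_left : C ⊓ C' ⊓ S ≤ _))
  rw [h5, h.cS] at h3
  rw [h5]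
  refine pow_dvd_pow 5 (show 3 ≤ i from ?_)
  by_contra h6
  interval_cases i <;> omega

end

end Cfsg.Agent.Cam.Spor
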