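import Cfsg.Agent.Cam.Spor.RowCo1
import Cfsg.Agent.SP.Mon.NL.Pass
import Cfsg.Agent.SP.Mon.NL.TwoA
import Cfsg.Agent.SP.Mon.NL.Cent
import Cfsg.Agent.TAB.M5.A

/-!
# S3689, S3690: the `2A`-involutions of the Monster inverting an element of order five (helper95)
-/

set_option autoImplicit false

namespace Cfsg.Agent.Cam.Spor

open Cfsg Subgroup
open Cfsg.Agent.H816.MSch Cfsg.Agent.H816.IMEig
open Cfsg.Agent.H816.M23.Tx Cfsg.Agent.H816.M23.Inst Cfsg.Agent.H816.M23.Main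
open Cfsg.Agent.BpSpor.MBigModel (MG)
open Cfsg.Agent.LThreeB.Row (TA)
open Cfsg.Agent.H136.M23.BWords (xu)

/-- the `2A`-involution `s` inverts the element `p` of order five -/
structure Rf (s p : MG) : Prop where
  ta : TA s
  ord : orderOf p = 5
  inv : s * p * s⁻¹ = p⁻¹

variable {s s' p : MG}

theorem Rf.sq (h : Rf s p) : s * s = 1 := SP.Mon.NL.ta_sq h.ta

theorem Rf.inv_eq (h : Rf s p) : s⁻¹ = s := inv_eq_of_mul_eq_one_left h.sq

theorem Rf.five (h : Rf s p) (i : ℤ) : (p ^ i) ^ 5 = 1 := by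
  rw [← zpow_natCast, ← zpow_mul, mul_comm, zpow_mul, zpow_natCast, ← h.ord, pow_orderOf_eq_one, one_zpow]

theorem Rf.inv_zpow (h : Rf s p) (i : ℤ) : s * p ^ i * s⁻¹ = (p ^ i)⁻¹ := by rw [← conj_zpow, h.inv, _root_.inv_zpow]

theorem Rf.conj (h : Rf s p) (g : MG) : Rf (g * s * g⁻¹) (g * p * g⁻¹) where
  ta := SP.Mon.NL.ta_conj h.ta g
  ord := h.ord ▸ (MulAut.conj g).orderOf_eq p
  inv := by
    calc g * s * g⁻¹ * (g * p * g⁻¹) * (g * s * g⁻¹)⁻¹ = g * (s * p * s⁻¹) * g⁻¹ := by group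
      _ = _ := by rw [h.inv]; group

theorem Rf.conj_eq (h : Rf s p) (i : ℤ) : p ^ i * s * (p ^ i)⁻¹ = s * p ^ (-(2 * i)) := by
  calc p ^ i * s * (p ^ i)⁻¹ = (p ^ i * s * p ^ i * s⁻¹) * s * (p ^ i)⁻¹ * (p ^ i)⁻¹ := by group
    _ = _ := by rw [mul_assoc (p ^ i), mul_assoc (p ^ i), h.inv_zpow]; group

theorem Rf.mul (h : Rf s p) (i : ℤ) : Rf (s * p ^ i) p where
  ta := by
    have h1 := SP.Mon.NL.ta_conj h.ta (p ^ (2 * i))
    rw [h.conj_eq] at h1
    have h2 : p ^ (-(2 * (2 * i))) = p ^ i := by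
      calc p ^ (-(2 * (2 * i))) = p ^ i * ((p ^ i) ^ 5)⁻¹ := by group
        _ = _ := by rw [h.five, inv_one, mul_one]
    rwa [h2] at h1
  ord := h.ord
  inv := by
    calc s * p ^ i * p * (s * p ^ i)⁻¹ = s * p * s⁻¹ := by group
      _ = _ := h.inv

theorem Rf.of_zpow (h : Rf s p) {q : MG} (hq : orderOf q = 5) {i : ℤ} (e : q = p ^ i) : Rf s q :=
  ⟨h.ta, hq, by rw [e, h.inv_zpow]⟩

theorem Rf.eq_one (h : Rf s p) {i : ℤ} (e : p ^ i * s = s * p ^ i) : p ^ i = 1 := by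
  have h1 := h.inv_zpow i
  rw [← e, mul_inv_cancel_right] at h1
  refine eq_one_of_coprime (a := 2) (b := 5) (by norm_num) ?_ (h.five i)
  rw [pow_two]
  nth_rewrite 1 [h1]
  exact inv_mul_cancel _

theorem Rf.not_comm (h : Rf s p) : p * s ≠ s * p := fun e => by
  have h1 := h.eq_one (i := 1) (by rwa [zpow_one])
  have h2 := h.ord
  rw [zpow_one] at h1
  rw [h1, orderOf_one] at h2
  omega

theorem Rf.col (h : Rf s p) : ∃ y y' : XT, s = tX y ∧ s * p = tX y' ∧ tX y * tX y' = p ∧ c y y' = 7 := by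
  obtain ⟨y, hy⟩ := (ta_iff _).1 h.ta
  obtain ⟨y', hy'⟩ := (ta_iff _).1 (h.mul 1).ta
  rw [zpow_one] at hy'
  have h1 : tX y * tX y' = p := by rw [← hy, ← hy', ← mul_assoc, h.sq, one_mul]
  refine ⟨y, y', hy, hy', h1, five_col ax (by rw [h1, ← h.ord, pow_orderOf_eq_one]) fun h2 => ?_⟩
  have h3 := h.ord
  rw [← h1, h2, orderOf_one] at h3
  omega

theorem Rf.card (h : Rf s p) : Nat.card (centralizer ({p} : Set MG)) = 5 * 273030912000000 := by
  obtain ⟨y, y', -, -, h1, h2⟩ := h.col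
  rw [← h1, cent_seven h2]

theorem Rf.sd (h : Rf s p) : SD p s (centralizer ({s} : Set MG) ⊓ centralizer ({p} : Set MG)) := by
  have := BpSpor.MBigModel.finite
  obtain ⟨y, y', hy, hy', -, h2⟩ := h.col
  have h3 := card_st y y'
  have h4 : MulAction.stabilizer MG ((y, y') : XT × XT) = centralizer ({s} : Set MG) ⊓ centralizer ({p} : Set MG) := by
    ext g
    rw [MulAction.mem_stabilizer_iff, Prod.smul_mk, Prod.mk.injEq, fix_iff, fix_iff, mem_inf,
      mem_centralizer_singleton_iff, mem_centralizer_singleton_iff, ← hy, ← hy']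
    refine and_congr_right fun h5 => ?_
    rw [← mul_assoc, h5, mul_assoc, mul_assoc, mul_right_inj]
  rw [h2, h4] at h3
  have h5 : Nat.card (centralizer ({s} : Set MG) ⊓ centralizer ({p} : Set MG) : Subgroup MG) *
    (97239461142009186000 * 30434513446055706624) = 808017424794512875886459904961710757005754368000000000 := h3
  have hc : ∀ a ∈ zpowers p, ∀ b ∈ centralizer ({s} : Set MG) ⊓ centralizer ({p} : Set MG), a * b = b * a :=
    fun a ha b hb => (zpowers_comm a ha b hb.2).symm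
  have h6 := card_mul_dvd_sup hc (by
    rintro _ ⟨i, rfl⟩ hi
    exact h.eq_one (mem_centralizer_singleton_iff.1 hi.1))
  have h7 : zpowers p ⊔ centralizer ({s} : Set MG) ⊓ centralizer ({p} : Set MG) = centralizer ({p} : Set MG) := by
    refine eq_of_le_of_card_ge (sup_le ((zpowers_le).2 (mem_centralizer_singleton_iff.2 rfl)) inf_le_right) ?_
    have h8 := Nat.le_of_dvd Nat.card_pos h6
    rw [Nat.card_zpowers, h.ord] at h8
    rw [h.card]
    omega
  refine ⟨fun g hg => ?_, inf_le_right, h.sq, h.inv, fun k hk => mem_centralizer_singleton_iff.1 hk.1⟩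
  obtain ⟨_, ⟨i, rfl⟩, k, hk, rfl⟩ := mem_sup_of_comm hc (h7 ▸ mem_centralizer_singleton_iff.2 hg)
  exact ⟨i, k, hk, rfl⟩

theorem Rf.split (h : Rf s p) {g : MG} (hg : g * p = p * g) :
    ∃ (i : ℤ) (k : MG), k * s = s * k ∧ k * p = p * k ∧ g = p ^ i * k := by
  obtain ⟨i, k, hk, e⟩ := h.sd.split g hg
  exact ⟨i, k, mem_centralizer_singleton_iff.1 hk.1, mem_centralizer_singleton_iff.1 hk.2, e⟩

theorem Rf.uniq (h : Rf s p) (h' : Rf s' p) : ∃ i : ℤ, s' = s * p ^ i := by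
  obtain ⟨y, y', hy, hy', h1, h2⟩ := h.col
  obtain ⟨z, z', hz, hz', h3, h4⟩ := h'.col
  obtain ⟨g, g1, g2⟩ := c_tr y y' z z' (h2.trans h4.symm)
  have h5 : g * p = p * g := by
    rw [← g1, ← g2, tX_smul, tX_smul] at h3
    calc g * p = g * tX y * g⁻¹ * (g * tX y' * g⁻¹) * g := by rw [← h1]; group
      _ = _ := by rw [h3]
  obtain ⟨i, k, k1, -, rfl⟩ := h.split h5
  refine ⟨-(2 * i), ?_⟩
  rw [hz, ← g1, tX_smul, ← hy, ← h.conj_eq]
  calc p ^ i * k * s * (p ^ i * k)⁻¹ = p ^ i * (k * s) * k⁻¹ * (p ^ i)⁻¹ := by group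
    _ = _ := by rw [k1]; group

theorem Rf.comm_of_sq (h : Rf s p) {g : MG} (hg : g * p = p * g) (h2 : g * g = 1) : g * s = s * g := by
  obtain ⟨i, k, k1, k2, rfl⟩ := h.split hg
  have h3 : Commute k (p ^ i) := (show Commute k p from k2).zpow_right i
  have h4 : p ^ (2 * i) = (k * k)⁻¹ := by
    refine eq_inv_of_mul_eq_one_left ?_
    calc p ^ (2 * i) * (k * k) = p ^ i * (p ^ i * k) * k := by group
      _ = 1 := by rw [← h3.eq, ← h2]; group
  have h5 : p ^ (2 * i) = 1 := h.eq_one (by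
    rw [h4]
    exact (((show Commute k s from k1).mul_left k1).inv_left).eq)
  have h6 : p ^ i = 1 := eq_one_of_coprime (a := 2) (b := 5) (by norm_num)
    (by rw [← h5, ← zpow_natCast, ← zpow_mul, mul_comm]; rfl) (h.five i)
  rw [h6, one_mul, k1]

theorem Rf.comm (h : Rf s p) (h' : Rf s' p) {g : MG} (hg : g * p = p * g) (hs : g * s = s * g) : g * s' = s' * g := by
  obtain ⟨i, rfl⟩ := h.uniq h'
  exact ((show Commute g s from hs).mul_right ((show Commute g p from hg).zpow_right i)).eq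

/-- the class `5A` by the order of the centralizer -/
theorem isConj_xu {x : MG} (hx : orderOf x = 5) (h : 38 ∣ Nat.card (centralizer ({x} : Set MG))) : IsConj (xu : MG) x := by
  obtain ⟨x₀, h1, h2⟩ := TAB.M5.exists_zero
  obtain ⟨t, ht, htx⟩ := SP.Mon.NL.exists_inv (Dvd.dvd.trans (by norm_num) h)
  refine (TAB.M5.five_cases h1 h2 hx (H58.MonThirteen.ev_five hx ht htx.symm)).resolve_right fun h3 => ?_
  rw [TAB.M5.card_cent_conj h3] at h
  exact absurd (h.trans (H58.MonFiveB.card_dvd h1 h2)) (by norm_num)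

theorem exists_rf {x : MG} (hx : IsConj (xu : MG) x) : ∃ s, Rf s x := by
  have h1 : Nat.card {y // c b0 y = 7} = 30434513446055706624 := kk b0 7
  obtain ⟨y, hy⟩ := (Nat.card_pos_iff.1 (by rw [h1]; norm_num : 0 < Nat.card {y // c b0 y = 7})).1
  have ho : orderOf (tX b0 * tX y) = 5 := ord_eq (by rw [hy]; decide) Nat.prime_five (ax.seven _ _ hy)
  have h2 : Rf (tX b0) (tX b0 * tX y) := ⟨ta_b0, ho, by
    rw [mul_inv_rev, ← mul_assoc, tX_sq, one_mul, inv_eq_of_mul_eq_one_left (tX_sq y)]⟩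
  obtain ⟨g, hg⟩ := isConj_iff.1 ((isConj_xu ho (by rw [h2.card]; norm_num)).symm.trans hx)
  exact ⟨_, hg ▸ h2.conj g⟩

end Cfsg.Agent.Cam.Spor
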