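import Cfsg.Agent.Cam.Spor.RowCo1
import Cfsg.Agent.H757.ThFinal

/-!
# S3689, S3690: no `2 × A₅` in the Thompson group; fixed points of `A₄` and `S₃` (helper67)
-/

set_option autoImplicit false

namespace Cfsg.Agent.Cam.Spor

open Cfsg Subgroup Equiv

section perm

/-- the 5-cycle -/
def f5 (p : Fin 9) : Fin 9 := if p = 4 then 0 else if p < 4 then p + 1 else p

/-- the condition for a pair of fixed points -/
def ok5 (p a q b : Fin 9) : Bool := (a != b) && (f5 a != b || b == p) && (f5 b != a || a == q) && (a != p || b != q)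

theorem nine_aux : ∀ a5 a6 a7 a8 : Fin 9, (((f5 a5 != a5 || a5 == 5) && (f5 a6 != a6 || a6 == 6) && ok5 5 a5 6 a6) &&
    ((f5 a7 != a7 || a7 == 7) && ok5 5 a5 7 a7 && ok5 6 a6 7 a7) &&
    ((f5 a8 != a8 || a8 == 8) && ok5 5 a5 8 a8 && ok5 6 a6 8 a8 && ok5 7 a7 8 a8)) = false := by
  decide +kernel

theorem f5_eq : ∀ p, (c[0, 1, 2, 3, 4] : Perm (Fin 9)) p = f5 p := by decide +kernel

/-- in a `(2, 3, 5)`-triple of `S₉` the involution has two fixed points -/
theorem nine_no {t x : Perm (Fin 9)} (ht : t * t = 1) (hx : orderOf x = 5) (h3 : (t * x) ^ 3 = 1)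
    (h8 : t.support.card = 8) : False := by
  have h5 : x.IsCycle := Perm.isCycle_of_prime_order' (by rw [hx]; norm_num) (by rw [hx]; simp)
  have h6 : (c[0, 1, 2, 3, 4] : Perm (Fin 9)).IsCycle := by
    refine Perm.isCycle_of_prime_order' ?_ ?_ <;>
      rw [show orderOf (c[0, 1, 2, 3, 4] : Perm (Fin 9)) = 5 from
        haveI : Fact (Nat.Prime 5) := ⟨by norm_num⟩; orderOf_eq_prime (by decide +kernel) (by decide +kernel)]
    · norm_num
    · simp
  obtain ⟨g, hg⟩ := isConj_iff.1 (h5.isConj h6 (by rw [← h5.orderOf, hx]; decide +kernel))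
  have e1 : (g * t * g⁻¹) * (g * t * g⁻¹) = 1 := by rw [conj_mul, ht]; group
  have e3 : ((g * t * g⁻¹) * c[0, 1, 2, 3, 4]) ^ 3 = 1 := by rw [← hg, conj_mul, conj_pow, h3]; group
  have e8 : (g * t * g⁻¹).support.card = 8 := by rw [Perm.card_support_conj, h8]
  generalize g * t * g⁻¹ = f at e1 e3 e8
  have i1 : ∀ p, f (f p) = p := fun p => by rw [← Perm.mul_apply, e1, Perm.one_apply]
  have k1 : ∀ p q : Fin 9, f5 p = p → f5 q = q → (f5 (f p) != f q || f q == p) = true := by
    intro p q hp hq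
    by_cases h : f5 (f p) = f q
    · have h1 := congrArg (fun σ : Perm (Fin 9) => σ p) e3
      simp only [pow_succ, pow_zero, one_mul, Perm.mul_apply, Perm.one_apply, f5_eq] at h1
      rw [hp, h, i1, hq] at h1
      simp [h1]
    · simp [h]
  have k2 : ∀ p q : Fin 9, f5 p = p → f5 q = q → p ≠ q → ok5 p (f p) q (f q) = true := by
    intro p q hp hq hne
    have h1 : (f p != p || f q != q) = true := by
      by_contra h
      simp only [Bool.or_eq_true, bne_iff_ne, ne_eq, not_or, not_not] at h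
      have h4 : f.support ⊆ (Finset.univ.erase p).erase q := fun a ha => by
        rw [Perm.mem_support] at ha
        simp only [Finset.mem_erase, Finset.mem_univ, and_true]
        exact ⟨fun h1 => ha (h1 ▸ h.2), fun h1 => ha (h1 ▸ h.1)⟩
      have h7 := Finset.card_le_card h4
      rw [e8, Finset.card_erase_of_mem (by simp [Ne.symm hne]), Finset.card_erase_of_mem (by simp)] at h7
      simp at h7
    rw [ok5, k1 p q hp hq, k1 q p hq hp, h1]
    simp [hne]
  have h := nine_aux (f 5) (f 6) (f 7) (f 8)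
  rw [k1 5 5 rfl rfl, k1 6 6 rfl rfl, k1 7 7 rfl rfl, k1 8 8 rfl rfl, k2 5 6 rfl rfl (by decide),
    k2 5 7 rfl rfl (by decide), k2 6 7 rfl rfl (by decide), k2 5 8 rfl rfl (by decide), k2 6 8 rfl rfl (by decide),
    k2 7 8 rfl rfl (by decide)] at h
  exact absurd h (by decide)

end perm

section th
open Cfsg.Agent.ThType.SpinData Cfsg.Agent.ThType.Squares

theorem spin_no {G : Type} [Group G] {z : G} (S : SpinAt G z) (R : ThType.SqRules.SqRules S) {v u : G}
    (hvz : v * z = z * v) (huz : u * z = z * u) (hv : v * v = 1) (hu : orderOf u = 5) (h3 : (v * u) ^ 3 = 1) : False := by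
  have : Fact (Nat.Prime 5) := ⟨by norm_num⟩
  have h1 : S.φ v * S.φ v = 1 := by rw [← S.φ_mul _ _ hvz hvz, hv, φ_one S]
  have h2 : S.φ u ^ 5 = 1 := by rw [← H757.ThF.phi_pow S huz, ← hu, pow_orderOf_eq_one, φ_one S]
  have h4 : (S.φ v * S.φ u) ^ 3 = 1 := by
    rw [← S.φ_mul _ _ hvz huz, ← H757.ThF.phi_pow S (cz_mul hvz huz), h3, φ_one S]
  have h5 : S.φ u ≠ 1 := fun h => by
    have h6 := S.sq u ((S.φ_eq_one u huz).1 h)
    have h7 : u ^ 4 = 1 := by
      rw [show u ^ 4 = (u * u) * (u * u) by rw [← pow_two, ← pow_two, ← pow_mul], h6]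
      split_ifs
      · rw [one_mul]
      · exact S.z_sq
    have h8 := orderOf_dvd_of_pow_eq_one h7
    rw [hu] at h8
    norm_num at h8
  have h6 : S.φ v ≠ 1 := fun h => by
    rw [h, one_mul] at h4
    exact h5 (eq_one_of_coprime (by norm_num) h4 h2)
  have h7 := (S.φ v : Perm (Fin 9)).sum_cycleType
  rcases type_of_invol (S.φ v) h1 h6 with h8 | h8 <;> rw [h8] at h7
  · have h9 := R.sq2 v hvz h1 h7.symm (Or.inl hv)
    rw [hv] at h9
    exact S.z_ne h9.symm
  · exact nine_no (t := (S.φ v : Perm (Fin 9))) (x := (S.φ u : Perm (Fin 9))) (congrArg Subtype.val h1)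
      (by rw [Subgroup.orderOf_coe]; exact orderOf_eq_prime h2 h5) (congrArg Subtype.val h4) h7.symm

/-- no `2 × A₅` in the Thompson group -/
theorem th_no {k v u : Spor.Th} (hk : orderOf k = 2) (hvk : v * k = k * v) (huk : u * k = k * u) (hv : v * v = 1)
    (hu : orderOf u = 5) (h3 : (v * u) ^ 3 = 1) : False := by
  have hs : IsSimpleGroup Spor.Th := Th.Main1700.isTh.1
  have hf : Finite Spor.Th := Th.Main1700.final.1
  obtain ⟨S⟩ := Sigma.ThRow.exists_spin
  obtain ⟨g, hg⟩ := isConj_iff.1 (MonsterX.ThOneClass.oneClass k _ hk MonsterX.ThOneClass.orderOf_a)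
  refine spin_no S (H757.ThF.sqRules S) (v := g * v * g⁻¹) (u := g * u * g⁻¹) ?_ ?_ ?_ ?_ ?_
  · rw [← hg, conj_mul, conj_mul, hvk]
  · rw [← hg, conj_mul, conj_mul, huk]
  · rw [conj_mul, hv]; group
  · rw [← hu]; exact MulEquiv.orderOf_eq (MulAut.conj g) u
  · rw [conj_mul, conj_pow, h3]; group

end th

section add
variable {W : Type} [AddCommGroup W]

/-- `A₄` acting without fixed points of the element of order three -/
theorem a4_fix (h2 : ∀ w : W, w + w = 0 → w = 0) {A B Y : W →+ W} (hA : ∀ w, A (A w) = w) (hB : ∀ w, B (B w) = w)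
    (hAB : ∀ w, A (B w) = B (A w)) (hYA : ∀ w, Y (A w) = B (Y w)) (hYB : ∀ w, Y (B w) = A (B (Y w)))
    (hY : ∀ w, Y (Y (Y w)) = w) (hf : ∀ w, Y w = w → w = 0) (w : W) : A w = w := by
  have N : ∀ q, q + Y q + Y (Y q) = 0 := fun q => hf _ (by rw [map_add, map_add, hY]; abel)
  have k1 : ∀ q, A q = -q → B q = q → q = 0 := fun q ha hb => by
    have b1 : B (Y q) = -Y q := by rw [← hYA, ha, map_neg]
    have a1 : A (Y q) = -Y q := by
      have h := hYB q
      rw [hb, b1, map_neg] at h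
      rw [← neg_neg (A (Y q)), ← h]
    have b2 : B (Y (Y q)) = -Y (Y q) := by rw [← hYA, a1, map_neg]
    have h := congrArg B (N q)
    rw [map_add, map_add, hb, b1, b2, map_zero] at h
    exact h2 q (by linear_combination (norm := abel1) h + N q)
  have k2 : ∀ q, A q = -q → B q = -q → q = 0 := fun q ha hb => by
    have b1 : B (Y q) = -Y q := by rw [← hYA, ha, map_neg]
    have a1 : A (Y q) = Y q := by
      have h := hYB q
      rw [hb, b1, map_neg, map_neg] at h
      exact (neg_injective h).symm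
    have b2 : B (Y (Y q)) = Y (Y q) := by rw [← hYA, a1]
    have a2 : A (Y (Y q)) = -Y (Y q) := by
      have h := hYB (Y q)
      rw [b1, b2, map_neg] at h
      exact h.symm
    have h := congrArg (fun w => A (B w)) (N q)
    simp only [map_add, hb, b1, b2, map_neg, ha, a1, a2, map_zero, neg_neg] at h
    exact h2 q (by linear_combination (norm := abel1) h + N q)
  have hp : A (w - A w) = -(w - A w) := by rw [map_sub, hA, neg_sub]
  generalize hq : w - A w = p at hp
  have e1 := k1 (p + B p) (by rw [map_add, hAB, hp, map_neg]; abel) (by rw [map_add, hB]; abel)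
  have e2 := k2 (p - B p) (by rw [map_sub, hAB, hp, map_neg]; abel) (by rw [map_sub, hB]; abel)
  have e3 : p = 0 := h2 p (by linear_combination (norm := abel1) e1 + e2)
  rw [e3] at hq
  exact (sub_eq_zero.1 hq).symm

/-- `S₃` acting such that the involution fixes the fixed points of the element of order three -/
theorem s3_card [Finite W] (h2 : ∀ w : W, w + w = 0 → w = 0) (h3 : ∀ w : W, w + w + w = 0 → w = 0) {T Y : W →+ W}
    (hT : ∀ w, T (T w) = w) (hTY : ∀ w, T (Y w) = Y (Y (T w))) (hY : ∀ w, Y (Y (Y w)) = w)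
    (hf : ∀ w, Y w = w → T w = w) :
    (T - AddMonoidHom.id W).ker.index ^ 2 * Nat.card (Y - AddMonoidHom.id W).ker ≤ Nat.card W := by
  rw [AddSubgroup.index_ker, pow_two, ← Nat.card_prod, ← Nat.card_prod]
  have hI : ∀ p : (T - AddMonoidHom.id W).range, T p = -p := by
    rintro ⟨_, w, rfl⟩
    change T (T w - w) = -(T w - w)
    rw [map_sub, hT, neg_sub]
  have hC : ∀ r : (Y - AddMonoidHom.id W).ker, Y r = r := fun r => sub_eq_zero.1 r.2
  have N : ∀ p : W, T p = -p → p + Y p + Y (Y p) = 0 := fun p hp => by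
    have h := hf (p + Y p + Y (Y p)) (by rw [map_add, map_add, hY]; abel)
    rw [map_add, map_add, hTY, hTY, hTY, hp, hY] at h
    simp only [map_neg] at h
    exact h2 _ (by linear_combination (norm := abel1) -h)
  refine Nat.card_le_card_of_injective
    ((((T - AddMonoidHom.id W).range.subtype).coprod (Y.comp (T - AddMonoidHom.id W).range.subtype)).coprod
      (Y - AddMonoidHom.id W).ker.subtype) ((injective_iff_map_eq_zero _).2 ?_)
  rintro ⟨⟨p, q⟩, r⟩ h
  change (p : W) + Y q + r = 0 at h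
  have h4 := congrArg Y h
  have h5 := congrArg Y h4
  simp only [map_add, map_zero, hC, hY] at h4 h5
  have e3 : (r : W) = 0 := h3 _ (by linear_combination (norm := abel1) h + h4 + h5 - N p (hI p) - N q (hI q))
  rw [e3, add_zero] at h
  have h6 := congrArg T h
  rw [map_add, hTY, hI, hI, map_zero, map_neg, map_neg] at h6
  have h7 : Y (q : W) = q := by
    have h8 : Y (q : W) = Y (Y q) := by linear_combination (norm := abel1) h + h6
    have h9 := congrArg (fun w => Y (Y w)) h8
    simp only [hY] at h9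
    exact h9.symm
  have e2 : (q : W) = 0 := h2 _ (by
    have h8 := hf _ h7
    rw [hI] at h8
    linear_combination (norm := abel1) -h8)
  rw [e2, map_zero, add_zero] at h
  exact Prod.ext (Prod.ext (Subtype.ext h) (Subtype.ext e2)) (Subtype.ext e3)

end add

section sd
variable {G : Type} [Group G]

theorem SD.of_card [Finite G] {x s : G} {K : Subgroup G} {r : ℕ} (hr : r.Prime) (h2 : r ≠ 2) (hx : orderOf x = r)
    (hs : s * s = 1) (hi : s * x * s⁻¹ = x⁻¹) (hK : K ≤ centralizer ({x} : Set G)) (hc : ∀ k ∈ K, k * s = s * k)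
    (h : Nat.card (centralizer ({x} : Set G)) = r * Nat.card K) : SD x s K := by
  refine ⟨fun c hc' => ?_, hK, hs, hi, hc⟩
  have h1 : ∀ a ∈ zpowers x, ∀ k ∈ K, a * k = k * a := fun a ha k hk => (zpowers_comm a ha k (hK hk)).symm
  have h3 : ∀ a ∈ zpowers x, a ∈ K → a = 1 := by
    rintro _ ⟨i, rfl⟩ ha
    have h4 : s * x ^ i * s⁻¹ = (x ^ i)⁻¹ := by rw [← conj_zpow, hi, inv_zpow]
    rw [← hc _ ha, mul_inv_cancel_right] at h4
    refine eq_one_of_coprime ((Nat.coprime_primes Nat.prime_two hr).2 h2.symm) ?_ ?_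
    · rw [pow_two]; exact mul_eq_one_iff_eq_inv.2 h4
    · rw [← hx]; exact orderOf_dvd_iff_pow_eq_one.1 (orderOf_dvd_of_mem_zpowers ⟨i, rfl⟩)
  have h4 := card_mul_dvd_sup h1 h3
  rw [Nat.card_zpowers, hx, ← h] at h4
  have h5 : zpowers x ⊔ K = centralizer ({x} : Set G) :=
    eq_of_le_of_card_ge (sup_le (zpowers_le.2 (mem_centralizer_singleton_iff.2 rfl)) hK) (Nat.le_of_dvd Nat.card_pos h4)
  obtain ⟨_, ⟨i, rfl⟩, k, hk, h6⟩ := mem_sup_of_comm h1 (h5 ▸ mem_centralizer_singleton_iff.2 hc' : c ∈ zpowers x ⊔ K)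
  exact ⟨i, k, hk, h6⟩

end sd

end Cfsg.Agent.Cam.Spor
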