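import Cfsg.Agent.Cam.Spor.Quasi
import Cfsg.Agent.Cam.Iface
import Cfsg.Agent.OrdDiv.Table
import Cfsg.Agent.Lib.Cores
import Cfsg.Agent.Schreier.ClassBase

/-!
# S3689, S3690: the perfect core of a centralizer, by orders (helper67)

`ords l N` : the orders of the non-abelian simple groups of order dividing `N`.  `QS P f` : `P` is a central extension of
the simple group `X`.  `exists_qs` : the numeric criterion.
-/

set_option autoImplicit false

namespace Cfsg.Agent.Cam.Spor

open Subgroup Cfsg.Agent.TwoFusion.PerfCore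
open Cfsg.Agent.OrdDiv (glN valid cands ordN)
open scoped commutatorElement

/-- the orders of the simple groups of order dividing `N` -/
def ords (l : List (ℕ × ℕ)) (N : ℕ) : List ℕ := (cands l N).map ordN

theorem card_mem (big : Big) {V : Type} [Group V] [Finite V] (hs : IsSimpleGroup V) (hn : ¬ IsMulCommutative V)
    {l : List (ℕ × ℕ)} {N : ℕ} (hv : valid l N = true) (hd : Nat.card V ∣ N) : Nat.card V ∈ ords l N := by
  obtain ⟨g, h1, -, h2⟩ := OrdDiv.exists_good OrdDiv.table (big.cf V) (fun h => hn ⟨⟨h⟩⟩) hv hd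
  exact List.mem_map.2 ⟨g, h1, h2.symm⟩

/-- no product of two members divides `N` -/
def okB (L : List ℕ) (N : ℕ) : Bool := L.all fun a => L.all fun b => N % (a * b) != 0

/-- for the primes `q` outside `ex`, no member `o` with `q ^ k * o ∣ N` divides the order of `GL_k(q)` -/
def okQ (l : List (ℕ × ℕ)) (L : List ℕ) (N : ℕ) (ex : List ℕ) : Bool :=
  L.all fun o => 1 % o != 0 && l.all fun x => ex.contains x.1 || (List.range (x.2 + 1)).all fun k =>
    N % (x.1 ^ k * o) != 0 || glN k x.1 % o != 0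

theorem okB_spec {L : List ℕ} {N : ℕ} (h : okB L N = true) {a b : ℕ} (ha : a ∈ L) (hb : b ∈ L) : ¬ a * b ∣ N := by
  unfold okB at h
  rw [List.all_eq_true] at h
  have h1 := h a ha
  rw [List.all_eq_true] at h1
  have h2 := h1 b hb
  intro hd
  rw [Nat.mod_eq_zero_of_dvd hd] at h2
  exact absurd h2 (by decide)

theorem okQ_spec {l : List (ℕ × ℕ)} {L : List ℕ} {N : ℕ} {ex : List ℕ} (hv : valid l N = true)
    (h : okQ l L N ex = true) {o q k : ℕ} (ho : o ∈ L) (hq : q.Prime) (hex : q ∉ ex) (hd : q ^ k * o ∣ N) :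
    ¬ o ∣ glN k q := by
  unfold okQ at h
  rw [List.all_eq_true] at h
  have h1 := h o ho
  rw [Bool.and_eq_true, List.all_eq_true] at h1
  intro hg
  rcases Nat.eq_zero_or_pos k with rfl | hk
  · have h2 := h1.1
    rw [Nat.mod_eq_zero_of_dvd (show o ∣ 1 from hg)] at h2
    exact absurd h2 (by decide)
  · obtain ⟨j, hj, hkj⟩ := OrdDiv.exists_pair hv hq hk ((Dvd.intro _ rfl).trans hd)
    have h2 := h1.2 _ hj
    rw [Bool.or_eq_true] at h2
    rcases h2 with h2 | h2
    · exact hex (by simpa using h2)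
    · rw [List.all_eq_true] at h2
      have h3 := h2 k (List.mem_range.2 (by simp only; omega))
      simp only at h3
      rw [Nat.mod_eq_zero_of_dvd hd, Nat.mod_eq_zero_of_dvd hg] at h3
      exact absurd h3 (by decide)

variable {L : Type} [Group L]

/-- `P` is a central extension of the non-abelian simple group `X` -/
structure QS (P : Subgroup L) {X : Type} [Group X] (f : P →* X) : Prop where
  simple : IsSimpleGroup X
  noncomm : ¬ IsMulCommutative X
  surj : Function.Surjective f
  ker : f.ker ≤ center P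

theorem top_perfect {G : Type*} [Group G] {P : Subgroup G} (hP : ⁅P, P⁆ = P) :
    ⁅(⊤ : Subgroup P), (⊤ : Subgroup P)⁆ = ⊤ := by
  apply Subgroup.map_injective P.subtype_injective
  rw [Subgroup.map_commutator, ← MonoidHom.range_eq_map, range_subtype, hP]

/-- **the numeric criterion** -/
theorem exists_qs [Finite L] (big : Big) {C Z : Subgroup L} (hZ : ∀ z ∈ Z, ∀ c ∈ C, c * z = z * c)
    {l : List (ℕ × ℕ)} {N : ℕ} (hv : valid l N = true) (hd : Z.relIndex C ∣ N) (hne : perf C ≠ ⊥)
    (hb : okB (ords l N) N = true) {ex : List ℕ} (hq : okQ l (ords l N) N ex = true)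
    (hex : ∀ q ∈ ex, pCore q C = ⊥) :
    ∃ (X : Type) (_ : Group X) (_ : Finite X) (f : perf C →* X), QS (perf C) f ∧ Nat.card X ∈ ords l N := by
  have hZc : Z.subgroupOf C ≤ center C := fun z hz =>
    mem_center_iff.2 fun c => Subtype.ext (hZ z (mem_subgroupOf.1 hz) c c.2)
  have hZn : (Z.subgroupOf C).Normal := ⟨fun z hz c => by
    rw [mem_center_iff.1 (hZc hz) c, mul_inv_cancel_right]; exact hz⟩
  let π := QuotientGroup.mk' (Z.subgroupOf C)
  let g : perf C →* C ⧸ Z.subgroupOf C := π.comp (inclusion (perf_le C))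
  have hP := top_perfect (perf_perfect C)
  have hgk : g.ker ≤ center (perf C) := fun p hp => by
    have h1 : inclusion (perf_le C) p ∈ Z.subgroupOf C := (QuotientGroup.eq_one_iff _).1 hp
    exact mem_center_iff.2 fun c => Subtype.ext (hZ p (mem_subgroupOf.1 h1) c (perf_le C c.2))
  have hgP : ⁅g.range, g.range⁆ = g.range := by
    rw [MonoidHom.range_eq_map]
    exact map_perfect hP g
  have hP' := top_perfect hgP
  have hgN : Nat.card g.range ∣ N := (card_subgroup_dvd_card _).trans hd
  have hgn : g.range.Normal := ⟨by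
    rintro _ ⟨p, rfl⟩ y
    obtain ⟨c, rfl⟩ := QuotientGroup.mk'_surjective _ y
    exact ⟨⟨c * p * c⁻¹, conj_mem_of_norm (normalizer_le_normalizer_perf C (le_normalizer c.2)) p.2⟩, rfl⟩⟩
  have hnt : Nontrivial g.range := by
    rw [nontrivial_iff_ne_bot]
    intro h
    apply hne
    refine eq_bot_of_perfect_comm (perf_perfect C) fun a ha b hb => ?_
    have h1 : g ⟨b, hb⟩ ∈ g.range := ⟨_, rfl⟩
    rw [h, mem_bot] at h1
    exact congrArg Subtype.val (mem_center_iff.1 (hgk h1) ⟨a, ha⟩)
  obtain ⟨M, hMn, hM⟩ := H438.MaxOrders.exists_simple_quotient g.range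
  have hXn : ¬ IsMulCommutative (g.range ⧸ M) := fun h => by
    have h1 : ⁅(⊤ : Subgroup (g.range ⧸ M)), (⊤ : Subgroup (g.range ⧸ M))⁆ = ⊤ := by
      have := map_perfect hP' (QuotientGroup.mk' M)
      rwa [← MonoidHom.range_eq_map, MonoidHom.range_eq_top.2 (QuotientGroup.mk'_surjective M)] at this
    exact top_ne_bot (eq_bot_of_perfect_comm h1 fun a _ b _ => h.is_comm.comm a b)
  have hXm : Nat.card (g.range ⧸ M) ∈ ords l N := card_mem big hM hXn hv ((card_quotient_dvd_card M).trans hgN)
  have hMs : Group.IsSolvable M := by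
    by_contra h
    obtain ⟨V, _, _, h1, h2, h3⟩ := exists_simple_dvd _ M rfl h
    refine okB_spec hb hXm (card_mem big h1 h2 hv (h3.trans ((card_subgroup_dvd_card M).trans hgN))) ?_
    refine Dvd.dvd.trans ?_ hgN
    rw [card_eq_card_quotient_mul_card_subgroup M]
    exact Nat.mul_dvd_mul_left _ h3
  have hMc : M ≤ center g.range := by
    refine le_center_of_pnormal hMs fun r hr Q hQn hQp hQM => ?_
    by_cases hre : r ∈ ex
    · have h1 : Q ≤ pCore r g.range := Lib.Cores.le_pCore hQn hQp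
      have hch := Lib.Cores.pCore_characteristic (G := g.range) r
      have h2 : (pCore r g.range).map g.range.subtype = ⊥ :=
        eq_bot_of_pCore hr (hex r hre) hZc inferInstance ((Lib.Cores.pCore_isPGroup r).map _)
      rw [Subgroup.map_eq_bot_iff, ker_subtype] at h2
      exact (h1.trans h2).trans bot_le
    · refine le_center_of_num hM _ g.range hP' (QuotientGroup.mk' M) (QuotientGroup.mk'_surjective M)
        (by rwa [QuotientGroup.ker_mk']) hgN Q hQn (by rwa [QuotientGroup.ker_mk']) rfl fun r' k hr' hd' h => ?_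
      have : Fact r.Prime := ⟨hr⟩
      obtain ⟨j, hj⟩ := IsPGroup.iff_card.1 hQp
      rw [hj] at hd'
      obtain rfl : r' = r := (Nat.prime_dvd_prime_iff_eq hr' hr).1 (hr'.dvd_of_dvd_pow hd')
      exact okQ_spec hv hq hXm hr hre h
  refine ⟨g.range ⧸ M, inferInstance, inferInstance, (QuotientGroup.mk' M).comp g.rangeRestrict,
    ⟨hM, hXn, (QuotientGroup.mk'_surjective M).comp g.rangeRestrict_surjective, ?_⟩, hXm⟩
  refine le_center_of_comm hP (le_trans ?_ hgk)
  rw [Subgroup.commutator_le]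
  intro p hp q _
  have h1 : g.rangeRestrict p ∈ M := (QuotientGroup.eq_one_iff _).1 hp
  have h2 := congrArg Subtype.val (mem_center_iff.1 (hMc h1) (g.rangeRestrict q))
  rw [MonoidHom.mem_ker, map_commutatorElement, commutatorElement_eq_one_iff_mul_comm]
  exact h2.symm

variable {U X : Type} [Group U] [Group X] {P : Subgroup L} {f : P →* X}

theorem QS.inj (h : QS P f) (hs : IsSimpleGroup U) (hn : ¬ IsMulCommutative U) {φ : U →* L}
    (hφ : Function.Injective φ) (hm : ∀ u, φ u ∈ P) : Function.Injective (f.comp (φ.codRestrict P hm)) := by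
  rw [injective_iff_map_eq_one]
  intro u hu
  refine eq_one_of_comm hs hn fun v => hφ ?_
  rw [map_mul, map_mul]
  exact (congrArg Subtype.val (mem_center_iff.1 (h.ker hu) ⟨φ v, hm v⟩)).symm

/-- a subgroup covering the simple quotient -/
theorem QS.le_of_surj (h : QS P f) (hP : ⁅P, P⁆ = P) {R : Subgroup L}
    (hR : ∀ y : X, ∃ p : P, (p : L) ∈ R ∧ f p = y) : P ≤ R := by
  have h1 : R.subgroupOf P ⊔ f.ker = ⊤ := by
    rw [eq_top_iff]
    intro p _
    obtain ⟨q, hq, hqp⟩ := hR (f p)
    have : p = q * (q⁻¹ * p) := by group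
    rw [this]
    exact mul_mem (mem_sup_left hq) (mem_sup_right (by rw [MonoidHom.mem_ker, map_mul, map_inv, hqp, inv_mul_cancel]))
  exact subgroupOf_eq_top.1 (eq_top_of_sup_center (top_perfect hP) h.ker h1)

theorem QS.le_of_card [Finite U] [Finite X] (h : QS P f) (hP : ⁅P, P⁆ = P) (hs : IsSimpleGroup U)
    (hn : ¬ IsMulCommutative U) {φ : U →* L} (hφ : Function.Injective φ) {R : Subgroup L} (hm : ∀ u, φ u ∈ R)
    (hRP : R ≤ P) (hc : Nat.card X ≤ Nat.card U) : P ≤ R := by
  have h1 := h.inj hs hn hφ fun u => hRP (hm u)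
  have h2 := (h1.bijective_of_nat_card_le hc).2
  refine h.le_of_surj hP fun y => ?_
  obtain ⟨u, rfl⟩ := h2 y
  exact ⟨⟨φ u, hRP (hm u)⟩, hm u, rfl⟩

variable {τ α β : U →* L} {R R' : Subgroup L}

theorem relIndex_dvd_of {x : L} {r N : ℕ} (hr : 0 < r) (hx : orderOf x = r)
    (hd : Nat.card (centralizer ({x} : Set L)) ∣ r * N) : (zpowers x).relIndex (centralizer ({x} : Set L)) ∣ N := by
  have hle : zpowers x ≤ centralizer ({x} : Set L) := (zpowers_le).2 (mem_centralizer_singleton_iff.2 rfl)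
  rw [← card_mul_index ((zpowers x).subgroupOf _), Nat.card_congr (subgroupOfEquivOfLe hle).toEquiv, Nat.card_zpowers,
    hx] at hd
  exact Nat.dvd_of_mul_dvd_mul_left hr hd

theorem zpowers_comm {x : L} : ∀ z ∈ zpowers x, ∀ c ∈ centralizer ({x} : Set L), c * z = z * c := by
  rintro _ ⟨k, rfl⟩ c hc
  have : Commute c x := mem_centralizer_singleton_iff.1 hc
  exact (this.zpow_right k).eq

theorem Pair.perf_ne_bot [Finite L] (p : Pair τ R) (hn : ¬ IsMulCommutative U) (u : U) :
    perf (centralizer ({τ u} : Set L)) ≠ ⊥ := fun h => by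
  obtain ⟨φ, hφ, hm⟩ := p.copy
  refine hn ⟨⟨fun a b => ?_⟩⟩
  have h1 : φ a ∈ perf (centralizer ({τ u} : Set L)) := p.le_perf_cent u (hm a)
  rw [h, mem_bot] at h1
  rw [hφ (h1.trans (map_one φ).symm), one_mul, mul_one]

/-- the structure of the perfect core of `C(τ u)` -/
theorem Core.exists_qs [Finite L] (big : Big) (c : Core τ α β R R') {u : U} {r : ℕ} (hr : 0 < r) (hu : orderOf u = r)
    {l : List (ℕ × ℕ)} {N : ℕ} (hv : valid l N = true) (hd : Nat.card (centralizer ({τ u} : Set L)) ∣ r * N)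
    (hb : okB (ords l N) N = true) {ex : List ℕ} (hq : okQ l (ords l N) N ex = true)
    (hex : ∀ q ∈ ex, pCore q (centralizer ({τ u} : Set L)) = ⊥) :
    ∃ (X : Type) (_ : Group X) (_ : Finite X) (f : perf (centralizer ({τ u} : Set L)) →* X),
      QS (perf (centralizer ({τ u} : Set L))) f ∧ Nat.card X ∈ ords l N :=
  Spor.exists_qs big zpowers_comm hv (relIndex_dvd_of hr ((c.pair.orderOf_eq u).trans hu) hd)
    (c.pair.perf_ne_bot c.noncomm u) hb hq hex

theorem Core.false_of_qs [Finite L] [Finite U] [Finite X] (c : Core τ α β R R') {u : U} (hu : u ≠ 1)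
    {f : perf (centralizer ({τ u} : Set L)) →* X} (h : QS _ f) (hc : Nat.card X ≤ Nat.card U) : False := by
  obtain ⟨φ, hφ, hm⟩ := c.pair.copy
  exact c.not_perf_le hu (h.le_of_card (perf_perfect _) c.simple c.noncomm hφ hm (c.pair.le_perf_cent u) hc)

theorem Core.card_dvd_of [Finite L] (c : Core τ α β R R') {u : U} {r N : ℕ} (hr : 0 < r) (hu : orderOf u = r)
    (hd : Nat.card (centralizer ({τ u} : Set L)) ∣ r * N) : Nat.card U ∣ N := by
  have h := c.pair.order_mul_dvd' c.simple c.noncomm u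
  rw [hu] at h
  exact Nat.dvd_of_mul_dvd_mul_left hr (h.trans hd)

/-- **one order only** -/
theorem Core.false_of_num [Finite L] [Finite U] (big : Big) (c : Core τ α β R R') {u : U} {r : ℕ} (hr : 1 < r)
    (hu : orderOf u = r) {l : List (ℕ × ℕ)} {N : ℕ} (hv : valid l N = true)
    (hd : Nat.card (centralizer ({τ u} : Set L)) ∣ r * N) {m : ℕ} (hm : ∀ o ∈ ords l N, o = m)
    (hb : okB (ords l N) N = true) {ex : List ℕ} (hq : okQ l (ords l N) N ex = true)
    (hex : ∀ q ∈ ex, pCore q (centralizer ({τ u} : Set L)) = ⊥) : False := by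
  obtain ⟨X, _, _, f, h, hX⟩ := c.exists_qs big (by omega) hu hv hd hb hq hex
  refine c.false_of_qs (fun h1 => ?_) h ?_
  · rw [h1, orderOf_one] at hu
    omega
  · rw [hm _ hX, hm _ (card_mem big c.simple c.noncomm hv (c.card_dvd_of (by omega) hu hd))]

/-- **small centralizers** -/
theorem Core.false_of_small [Finite L] (c : Core τ α β R R') {u : U} (hu : u ≠ 1)
    (h : Nat.card (centralizer ({τ u} : Set L)) < 5 * (orderOf u * Nat.card U)) : False := by
  refine c.not_perf_le hu (c.pair.le_of_le_sup u (perf_perfect _) ?_)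
  have hle : R ⊔ zpowers (τ u) ≤ centralizer ({τ u} : Set L) :=
    sup_le (c.pair.le_cent u) ((zpowers_le).2 (mem_centralizer_singleton_iff.2 rfl))
  have h1 : orderOf u * Nat.card U ∣ Nat.card (R ⊔ zpowers (τ u) : Subgroup L) := by
    refine (Nat.mul_dvd_mul_left _ c.pair.card_dvd_R).trans ?_
    rw [← Nat.card_zpowers]
    refine c.pair.card_mul_dvd c.simple c.noncomm _ ?_ le_sup_left
    rintro _ ⟨k, rfl⟩
    exact mem_sup_right ⟨k, (map_zpow τ u k).symm⟩
  have h2 := card_mul_index ((R ⊔ zpowers (τ u)).subgroupOf (centralizer ({τ u} : Set L)))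
  rw [Nat.card_congr (subgroupOfEquivOfLe hle).toEquiv] at h2
  have h3 := Nat.le_of_dvd Nat.card_pos h1
  have h4 : ((R ⊔ zpowers (τ u)).subgroupOf (centralizer ({τ u} : Set L))).index ≤ 4 := by
    by_contra h5
    nlinarith
  have h5 : ⁅(perf (centralizer ({τ u} : Set L))).subgroupOf (centralizer ({τ u} : Set L)),
      (perf (centralizer ({τ u} : Set L))).subgroupOf (centralizer ({τ u} : Set L))⁆ =
      (perf (centralizer ({τ u} : Set L))).subgroupOf (centralizer ({τ u} : Set L)) := by
    apply Subgroup.map_injective (centralizer ({τ u} : Set L)).subtype_injective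
    rw [Subgroup.map_commutator, map_subgroupOf_eq_of_le (perf_le _), perf_perfect]
  have h6 := Schreier.ClassBase.le_of_index_le_four h5 _ index_ne_zero_of_finite h4
  intro p hp
  exact mem_subgroupOf.1 (h6 (show (⟨p, perf_le _ hp⟩ : centralizer ({τ u} : Set L)) ∈ _ from hp))

end Cfsg.Agent.Cam.Spor
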