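import Cfsg.Agent.Cam.Spor.Num
import Cfsg.Agent.Cam.Spor.Core

/-!
# S3689, S3690: the candidates for `U`, and `Rank7`, by orders (helper67)
-/

set_option autoImplicit false

namespace Cfsg.Agent.Cam.Spor

open Subgroup
open Cfsg.Agent.OrdDiv (valid prodl)

/-- the factorization of the largest number whose `e`-th power divides -/
def root (l : List (ℕ × ℕ)) (e : ℕ) : List (ℕ × ℕ) := l.map fun x => (x.1, x.2 / e)

theorem dvd_root {l : List (ℕ × ℕ)} {N : ℕ} (hv : valid l N = true) {e n : ℕ} (he : 0 < e) (h : n ^ e ∣ N) :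
    n ∣ prodl (root l e) := by
  rw [Nat.dvd_iff_prime_pow_dvd_dvd]
  intro p k hp hk
  rcases Nat.eq_zero_or_pos k with rfl | hk0
  · simp
  have h1 : p ^ (k * e) ∣ N := by
    rw [pow_mul]
    exact (pow_dvd_pow_of_dvd hk e).trans h
  obtain ⟨j, hj, hle⟩ := OrdDiv.exists_pair hv hp (Nat.mul_pos hk0 he) h1
  refine (pow_dvd_pow p ((Nat.le_div_iff_mul_le he).2 hle)).trans ?_
  unfold prodl root
  rw [List.map_map]
  exact List.dvd_prod (List.mem_map.2 ⟨(p, j), hj, rfl⟩)

variable {L U : Type} [Group L] [Group U] {τ α β : U →* L} {R R' : Subgroup L}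

theorem Core.card_mem_root [Finite U] (big : Big) (c : Core τ α β R R') {l : List (ℕ × ℕ)} {N M : ℕ}
    (hL : Nat.card L = N) (hv : valid l N = true) (hv' : valid (root l 2) M = true) :
    Nat.card U ∈ ords (root l 2) M := by
  refine card_mem big c.simple c.noncomm hv' ?_
  rw [← OrdDiv.valid_prod hv']
  exact dvd_root hv (by norm_num) (hL ▸ c.pair.card_sq_dvd c.simple c.noncomm)

theorem noCore_of_card (big : Big) {l : List (ℕ × ℕ)} {N M : ℕ} (hL : Nat.card L = N) (hv : valid l N = true)
    (hv' : valid (root l 2) M = true) (h : ords (root l 2) M = []) : NoCore L := fun U _ _ τ α β R R' c => by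
  have := c.card_mem_root big hL hv hv'
  rw [h] at this
  exact List.not_mem_nil this

theorem rank7_of_card (big : Big) {l : List (ℕ × ℕ)} {N M : ℕ} (hL : Nat.card L = N) (hv : valid l N = true)
    (hv' : valid (root l 8) M = true) (h : ords (root l 8) M = []) : Rank7 L := fun U _ _ hs hn f hf => by
  have h1 := card_dvd_of_injective f hf
  rw [Nat.card_fun, Nat.card_fin, hL] at h1
  have h2 := card_mem big hs hn hv' (by rw [← OrdDiv.valid_prod hv']; exact dvd_root hv (by norm_num) h1)
  rw [h] at h2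
  exact List.not_mem_nil h2

end Cfsg.Agent.Cam.Spor
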