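import Cfsg.Agent.Cam.Spor.Lem
import Cfsg.Agent.BpNum.Num
import Cfsg.Agent.OrdDiv.Main
import Cfsg.Agent.H438.MaxOrders
import Cfsg.Agent.H380.TenRec.Tools

/-!
# S3689, S3690: perfect groups with one non-abelian composition factor (helper67)
-/

set_option autoImplicit false

namespace Cfsg.Agent.Cam.Spor

open Subgroup Cfsg.Agent.TwoFusion.PerfCore
open Cfsg.Agent.OrdDiv (glN)
open scoped commutatorElement

/-- a non-solvable group has a non-abelian simple section -/
theorem exists_simple_dvd : ∀ (n : ℕ) (Y : Type) [Group Y] [Finite Y], Nat.card Y = n → ¬ Group.IsSolvable Y →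
    ∃ (V : Type) (_ : Group V) (_ : Finite V), IsSimpleGroup V ∧ ¬ IsMulCommutative V ∧ Nat.card V ∣ Nat.card Y := by
  intro n
  induction n using Nat.strong_induction_on with
  | _ n ih =>
    intro Y _ _ hn hY
    have : Nontrivial Y := by
      by_contra h
      rw [not_nontrivial_iff_subsingleton] at h
      exact hY inferInstance
    obtain ⟨M, _, hM⟩ := H438.MaxOrders.exists_simple_quotient Y
    by_cases hc : IsMulCommutative (Y ⧸ M)
    · have hMs : ¬ Group.IsSolvable M := fun h => by
        have : Group.IsSolvable (Y ⧸ M) := Group.isSolvable_of_comm hc.is_comm.comm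
        exact hY (Group.isSolvable_of_ker_le_range M.subtype (QuotientGroup.mk' M) (by simp))
      have h1 : 1 < Nat.card (Y ⧸ M) := Finite.one_lt_card
      have h2 := card_eq_card_quotient_mul_card_subgroup M
      have h3 : 0 < Nat.card M := Nat.card_pos
      obtain ⟨V, _, _, h4, h5, h6⟩ := ih (Nat.card M) (by rw [← hn, h2]; nlinarith) M rfl hMs
      exact ⟨V, inferInstance, inferInstance, h4, h5, h6.trans (card_subgroup_dvd_card M)⟩
    · exact ⟨Y ⧸ M, inferInstance, inferInstance, hM, hc, card_quotient_dvd_card M⟩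

section general
variable {G : Type*} [Group G]

/-- Grün: a normal subgroup of a perfect group that is central modulo the centre is central -/
theorem le_center_of_comm (hP : ⁅(⊤ : Subgroup G), (⊤ : Subgroup G)⁆ = ⊤) {Q : Subgroup G}
    (h : ⁅Q, (⊤ : Subgroup G)⁆ ≤ center G) : Q ≤ center G := by
  have h1 : ⁅⁅Q, (⊤ : Subgroup G)⁆, (⊤ : Subgroup G)⁆ = ⊥ := by
    rw [commutator_eq_bot_iff_le_centralizer]
    intro a ha
    exact mem_centralizer_iff.2 fun b _ => mem_center_iff.1 (h ha) b
  have h2 : ⁅⁅(⊤ : Subgroup G), Q⁆, (⊤ : Subgroup G)⁆ = ⊥ := by rwa [commutator_comm ⊤ Q]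
  have h3 := commutator_commutator_eq_bot_of_rotate h2 h1
  rw [hP, commutator_comm, commutator_eq_bot_iff_le_centralizer] at h3
  intro a ha
  exact mem_center_iff.2 fun b => mem_centralizer_iff.1 (h3 ha) b (mem_top b)

/-- a normal subgroup which is an `r`-group modulo a central subgroup -/
theorem exists_pnormal [Finite G] {r : ℕ} (hr : r.Prime) {Z V : Subgroup G} [Z.Normal] [V.Normal] (hZ : Z ≤ center G)
    (hV : IsPGroup r (V.map (QuotientGroup.mk' Z))) :
    ∃ Q : Subgroup G, Q.Normal ∧ IsPGroup r Q ∧ Q ≤ V ∧ V ≤ Q ⊔ Z := by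
  have : Fact r.Prime := ⟨hr⟩
  obtain ⟨S⟩ : Nonempty (Sylow r V) := inferInstance
  have hle : (⊤ : Subgroup V) ≤ (S : Subgroup V) ⊔ Z.subgroupOf V := by
    have h1 : ((S : Subgroup V) ⊔ Z.subgroupOf V).index ∣ (S : Subgroup V).index := index_dvd_of_le le_sup_left
    have h2 : ((S : Subgroup V) ⊔ Z.subgroupOf V).index ∣ (Z.subgroupOf V).index := index_dvd_of_le le_sup_right
    have h3 : (Z.subgroupOf V).index = Nat.card (V.map (QuotientGroup.mk' Z)) := by
      have := relIndex_ker V (QuotientGroup.mk' Z)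
      rwa [QuotientGroup.ker_mk'] at this
    obtain ⟨k, hk⟩ := IsPGroup.iff_card.1 hV
    rw [h3, hk] at h2
    have h4 : ((S : Subgroup V) ⊔ Z.subgroupOf V).index = 1 := by
      obtain ⟨j, -, hj⟩ := (Nat.dvd_prime_pow hr).1 h2
      rcases j with _ | j
      · simpa using hj
      · exfalso
        apply S.not_dvd_index
        exact (Dvd.intro_left _ (by rw [hj, pow_succ])).trans h1
    rw [index_eq_one] at h4
    exact h4.ge
  have hc : ∀ a ∈ (S : Subgroup V), ∀ z ∈ Z.subgroupOf V, a * z = z * a := fun a _ z hz =>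
    Subtype.ext (mem_center_iff.1 (hZ (mem_subgroupOf.1 hz)) a)
  have hSn : (S : Subgroup V).Normal := ⟨fun s hs g => by
    obtain ⟨a, ha, z, hz, rfl⟩ := mem_sup_of_comm hc (hle (mem_top g))
    have : a * z * s * (a * z)⁻¹ = a * s * a⁻¹ := by
      calc a * z * s * (a * z)⁻¹ = a * (z * s) * z⁻¹ * a⁻¹ := by group
        _ = _ := by rw [← hc s hs z hz]; group
    rw [this]
    exact mul_mem (mul_mem ha hs) (inv_mem ha)⟩
  have hSc : (S : Subgroup V).Characteristic := S.characteristic_of_normal hSn
  refine ⟨(S : Subgroup V).map V.subtype, inferInstance, S.isPGroup'.map _, map_subtype_le _, fun v hv => ?_⟩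
  obtain ⟨a, ha, z, hz, h⟩ := mem_sup_of_comm hc (hle (mem_top ⟨v, hv⟩))
  have h' : v = a * z := congrArg Subtype.val h
  rw [h']
  exact mul_mem (mem_sup_left ⟨a, ha, rfl⟩) (mem_sup_right (mem_subgroupOf.1 hz))

/-- a solvable normal subgroup is central if its normal subgroups of prime power order are central -/
theorem le_center_of_pnormal [Finite G] {M : Subgroup G} [M.Normal] (hs : Group.IsSolvable M)
    (h : ∀ r : ℕ, r.Prime → ∀ Q : Subgroup G, Q.Normal → IsPGroup r Q → Q ≤ M → Q ≤ center G) : M ≤ center G := by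
  by_contra hne
  let Z := M ⊓ center G
  have hM : M.map (QuotientGroup.mk' Z) ≠ ⊥ := by
    rw [Ne, Subgroup.map_eq_bot_iff, QuotientGroup.ker_mk']
    exact fun h1 => hne (h1.trans inf_le_right)
  have hMn : (M.map (QuotientGroup.mk' Z)).Normal := Normal.map inferInstance _ (QuotientGroup.mk'_surjective Z)
  have hMs : Group.IsSolvable (M.map (QuotientGroup.mk' Z)) :=
    Group.isSolvable_of_surjective ((QuotientGroup.mk' Z).subgroupMap_surjective M)
  obtain ⟨r, W, hr, hWn, hWM, hW, -, hpow⟩ := H380.TenRec.exists_normal_elem _ hM hMs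
  have hV : (W.comap (QuotientGroup.mk' Z)).map (QuotientGroup.mk' Z) = W :=
    map_comap_eq_self_of_surjective (QuotientGroup.mk'_surjective Z) W
  have hVM : W.comap (QuotientGroup.mk' Z) ≤ M := by
    refine (comap_mono hWM).trans ?_
    rw [comap_map_eq, QuotientGroup.ker_mk']
    exact sup_le le_rfl inf_le_left
  obtain ⟨Q, hQn, hQp, hQV, hVQ⟩ := exists_pnormal hr (Z := Z) (V := W.comap (QuotientGroup.mk' Z)) inf_le_right
    (by rw [hV]; exact fun w => ⟨1, Subtype.ext (by rw [pow_one]; exact hpow w w.2)⟩)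
  apply hW
  rw [← hV, Subgroup.map_eq_bot_iff, QuotientGroup.ker_mk']
  exact hVQ.trans (sup_le (le_inf (hQV.trans hVM) (h r hr Q hQn hQp (hQV.trans hVM))) le_rfl)

/-- normal `r`-subgroups of the quotient by a central subgroup -/
theorem eq_bot_of_pCore [Finite G] {r : ℕ} (hr : r.Prime) (h : pCore r G = ⊥) {Z : Subgroup G} [Z.Normal]
    (hZ : Z ≤ center G) {W : Subgroup (G ⧸ Z)} (hWn : W.Normal) (hW : IsPGroup r W) : W = ⊥ := by
  have hV : (W.comap (QuotientGroup.mk' Z)).map (QuotientGroup.mk' Z) = W :=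
    map_comap_eq_self_of_surjective (QuotientGroup.mk'_surjective Z) W
  obtain ⟨Q, hQn, hQp, -, hVQ⟩ := exists_pnormal hr (Z := Z) (V := W.comap (QuotientGroup.mk' Z)) hZ
    (by rw [hV]; exact hW)
  have hQ : Q ≤ ⊥ := h ▸ le_sSup ⟨hQn, hQp⟩
  rw [← hV, Subgroup.map_eq_bot_iff, QuotientGroup.ker_mk']
  exact hVQ.trans (sup_le (hQ.trans bot_le) le_rfl)

theorem eq_top_of_sup_center (hP : ⁅(⊤ : Subgroup G), (⊤ : Subgroup G)⁆ = ⊤) {R M : Subgroup G} (hM : M ≤ center G)
    (h : R ⊔ M = ⊤) : R = ⊤ := by
  have hc : ∀ r ∈ R, ∀ a ∈ M, r * a = a * r := fun r _ a ha => mem_center_iff.1 (hM ha) r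
  have h1 := commutator_sup_le hc
  rw [h, hP] at h1
  have h2 : ⁅M, M⁆ = ⊥ := by
    rw [commutator_eq_bot_iff_le_centralizer]
    exact fun a ha => mem_centralizer_iff.2 fun b _ => mem_center_iff.1 (hM ha) b
  rw [h2, sup_bot_eq] at h1
  exact top_le_iff.1 h1

end general

theorem prod_eq_glN (r k : ℕ) : ∏ i : Fin k, (r ^ k - r ^ (i : ℕ)) = glN k r := by
  unfold glN
  rw [Fin.prod_univ_eq_prod_range (fun i => r ^ k - r ^ i), Finset.prod_range]
  rw [← List.prod_ofFn, List.ofFn_eq_map]
  congr 1
  rw [← List.map_coe_finRange_eq_range, List.map_map]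
  rfl

/-- normal subgroups of a perfect group with one non-abelian composition factor `X`, by orders -/
theorem le_center_of_num {X : Type} [Group X] (hX : IsSimpleGroup X) {N : ℕ} : ∀ (n : ℕ) (P : Type) [Group P] [Finite P],
    ⁅(⊤ : Subgroup P), (⊤ : Subgroup P)⁆ = ⊤ → ∀ f : P →* X, Function.Surjective f → Group.IsSolvable f.ker →
    Nat.card P ∣ N → ∀ Q : Subgroup P, Q.Normal → Q ≤ f.ker → Nat.card Q = n →
    (∀ r k : ℕ, r.Prime → r ∣ Nat.card Q → r ^ k * Nat.card X ∣ N → ¬ Nat.card X ∣ glN k r) → Q ≤ center P := by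
  intro n
  induction n using Nat.strong_induction_on with
  | _ n ih =>
    intro P _ _ hP f hf hs hN Q hQn hQ hn hnum
    by_cases hQb : Q = ⊥
    · rw [hQb]; exact bot_le
    have hQs : Group.IsSolvable Q := Group.isSolvable_of_isSolvable_injective (inclusion_injective hQ)
    obtain ⟨r, V, hr, hVn, hVQ, hV, hcomm, hpow⟩ := H380.TenRec.exists_normal_elem Q hQb hQs
    have : Fact r.Prime := ⟨hr⟩
    have hVp : IsPGroup r V := fun w => ⟨1, Subtype.ext (by rw [pow_one]; exact hpow w w.2)⟩
    obtain ⟨k, hk⟩ := IsPGroup.iff_card.1 hVp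
    have hVgt : 1 < Nat.card V := (one_lt_card_iff_ne_bot V).2 hV
    have hrQ : r ∣ Nat.card Q := by
      refine Dvd.dvd.trans ?_ (card_dvd_of_le hVQ)
      rw [hk] at hVgt ⊢
      exact dvd_pow_self r (by rintro rfl; simp at hVgt)
    -- the action on `V` is trivial
    let a : P →* MulAut V := MulAut.conjNormal
    have hVc : V ≤ center P := by
      have hKn : (a.ker.map f).Normal := Normal.map inferInstance _ hf
      rcases hX.eq_bot_or_eq_top_of_normal _ hKn with h | h
      · exfalso
        rw [Subgroup.map_eq_bot_iff] at h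
        have h1 : f.ker.index = Nat.card X := by
          rw [index_ker, MonoidHom.range_eq_top.2 hf, card_top]
        refine hnum r k hr hrQ ?_ ?_
        · refine Dvd.dvd.trans ?_ hN
          rw [← hk, ← h1, ← card_mul_index f.ker]
          exact Nat.mul_dvd_mul_right (card_dvd_of_le (hVQ.trans hQ)) _
        · rw [← prod_eq_glN, ← BpNum.card_mulAut (fun x y => Subtype.ext (hcomm x x.2 y y.2))
            (fun x => Subtype.ext (hpow x x.2)) hk, ← h1]
          refine (index_dvd_of_le h).trans ?_
          rw [index_ker]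
          exact card_subgroup_dvd_card _
      · have h1 : a.ker ⊔ f.ker = ⊤ := by
          have := congrArg (comap f) h
          rwa [comap_map_eq, comap_top] at this
        have h2 : Group.IsSolvable a.range := by
          refine Group.isSolvable_of_surjective (f := a.rangeRestrict.comp f.ker.subtype) ?_
          rintro ⟨_, g, rfl⟩
          have hg : g ∈ ((a.ker ⊔ f.ker : Subgroup P) : Set P) := by rw [h1]; exact mem_top g
          rw [normal_mul] at hg
          obtain ⟨b, hb, c, hc, rfl⟩ := hg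
          refine ⟨⟨c, hc⟩, Subtype.ext ?_⟩
          change a c = a (b * c)
          rw [map_mul, MonoidHom.mem_ker.1 hb, one_mul]
        have h3 : a.range = ⊥ := by
          refine eq_bot_of_perfect_of_solvable ?_ h2
          rw [MonoidHom.range_eq_map]
          exact map_perfect hP a
        intro v hv
        refine mem_center_iff.2 fun g => ?_
        have h4 : a g = 1 := by
          have : a g ∈ a.range := ⟨g, rfl⟩
          rwa [h3, mem_bot] at this
        have h5 : ((a g ⟨v, hv⟩ : V) : P) = v := by rw [h4]; rfl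
        have h6 : g * v * g⁻¹ = v := h5
        calc g * v = g * v * g⁻¹ * g := by group
          _ = _ := by rw [h6]
    -- the quotient
    let π := QuotientGroup.mk' V
    have hπ : Function.Surjective π := QuotientGroup.mk'_surjective V
    let f' : P ⧸ V →* X := QuotientGroup.lift V f fun x hx => hQ (hVQ hx)
    have hf' : ∀ g, f' (π g) = f g := fun g => rfl
    have hker : f'.ker = f.ker.map π := by
      ext y
      obtain ⟨g, rfl⟩ := hπ y
      constructor
      · exact fun h => ⟨g, h, rfl⟩
      · rintro ⟨g', hg', h⟩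
        rw [← h]
        exact hg'
    have hcard : Nat.card (Q.map π) * Nat.card V = Nat.card Q := by
      have h1 := relIndex_ker Q π
      rw [QuotientGroup.ker_mk'] at h1
      rw [← h1, relIndex, mul_comm, ← card_mul_index (V.subgroupOf Q),
        Nat.card_congr (subgroupOfEquivOfLe hVQ).toEquiv]
    have hpos : 0 < Nat.card (Q.map π) := Nat.card_pos
    have h1 := ih (Nat.card (Q.map π)) (by rw [← hn, ← hcard]; nlinarith) (P ⧸ V)
      (by have := map_perfect hP π; rwa [← MonoidHom.range_eq_map, MonoidHom.range_eq_top.2 hπ] at this) f'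
      (fun y => by obtain ⟨g, rfl⟩ := hf y; exact ⟨π g, rfl⟩)
      (by rw [hker]; exact Group.isSolvable_of_surjective (π.subgroupMap_surjective f.ker))
      ((card_quotient_dvd_card V).trans hN) (Q.map π) (Normal.map hQn _ hπ) (by rw [hker]; exact map_mono hQ) rfl
      (fun r' k' hr' h => hnum r' k' hr' (h.trans (Dvd.intro _ hcard)))
    refine le_center_of_comm hP (le_trans ?_ hVc)
    rw [Subgroup.commutator_le]
    intro q hq g _
    rw [← QuotientGroup.eq_one_iff, ← QuotientGroup.mk'_apply, map_commutatorElement, commutatorElement_eq_one_iff_mul_comm]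
    exact (mem_center_iff.1 (h1 ⟨q, hq, rfl⟩) _).symm

end Cfsg.Agent.Cam.Spor
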