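import Cfsg.Agent.Cam.Spor.Ord

/-!
# S3689, S3690: what the order of a sporadic group gives (helper67)
-/

set_option autoImplicit false

namespace Cfsg.Agent.Cam.Spor

open Cfsg

variable {L U : Type} [Group L] [Group U] {τ α β : U →* L} {R R' : Subgroup L}

theorem rank7_tits (big : Big) (h : Lie.IsoTits L) : Rank7 L :=
  rank7_of_card big (l := [(2, 11), (3, 3), (5, 2), (13, 1)]) (M := 2) (NotCT.Orders.tits h)
    (by decide +kernel) (by decide +kernel) (by decide +kernel)

theorem cand_tits [Finite U] (big : Big) (h : Lie.IsoTits L) (c : Core τ α β R R') : Nat.card U = 60 :=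
  (by decide +kernel : ∀ o ∈ ords (root [(2, 11), (3, 3), (5, 2), (13, 1)] 2) 480, o = 60) _
    (c.card_mem_root big (NotCT.Orders.tits h) (by decide +kernel) (by decide +kernel))

theorem rank7_m11 (big : Big) (h : Spor.IsoM11 L) : Rank7 L :=
  rank7_of_card big (l := [(2, 4), (3, 2), (5, 1), (11, 1)]) (M := 1) (NotCT.Orders.m11 h)
    (by decide +kernel) (by decide +kernel) (by decide +kernel)

theorem noCore_m11 (big : Big) (h : Spor.IsoM11 L) : NoCore L :=
  noCore_of_card big (l := [(2, 4), (3, 2), (5, 1), (11, 1)]) (M := 12) (NotCT.Orders.m11 h)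
    (by decide +kernel) (by decide +kernel) (by decide +kernel)

theorem rank7_m12 (big : Big) (h : Spor.IsoM12 L) : Rank7 L :=
  rank7_of_card big (l := [(2, 6), (3, 3), (5, 1), (11, 1)]) (M := 1) (NotCT.Orders.m12 h)
    (by decide +kernel) (by decide +kernel) (by decide +kernel)

theorem noCore_m12 (big : Big) (h : Spor.IsoM12 L) : NoCore L :=
  noCore_of_card big (l := [(2, 6), (3, 3), (5, 1), (11, 1)]) (M := 24) (NotCT.Orders.m12 h)
    (by decide +kernel) (by decide +kernel) (by decide +kernel)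

theorem rank7_m22 (big : Big) (h : Spor.IsoM22 L) : Rank7 L :=
  rank7_of_card big (l := [(2, 7), (3, 2), (5, 1), (7, 1), (11, 1)]) (M := 1) (NotCT.Orders.m22 h)
    (by decide +kernel) (by decide +kernel) (by decide +kernel)

theorem noCore_m22 (big : Big) (h : Spor.IsoM22 L) : NoCore L :=
  noCore_of_card big (l := [(2, 7), (3, 2), (5, 1), (7, 1), (11, 1)]) (M := 24) (NotCT.Orders.m22 h)
    (by decide +kernel) (by decide +kernel) (by decide +kernel)

theorem rank7_m23 (big : Big) (h : Spor.IsoM23 L) : Rank7 L :=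
  rank7_of_card big (l := [(2, 7), (3, 2), (5, 1), (7, 1), (11, 1), (23, 1)]) (M := 1) (NotCT.Orders.m23 h)
    (by decide +kernel) (by decide +kernel) (by decide +kernel)

theorem noCore_m23 (big : Big) (h : Spor.IsoM23 L) : NoCore L :=
  noCore_of_card big (l := [(2, 7), (3, 2), (5, 1), (7, 1), (11, 1), (23, 1)]) (M := 24) (NotCT.Orders.m23 h)
    (by decide +kernel) (by decide +kernel) (by decide +kernel)

theorem rank7_m24 (big : Big) (h : Spor.IsoM24 L) : Rank7 L :=
  rank7_of_card big (l := [(2, 10), (3, 3), (5, 1), (7, 1), (11, 1), (23, 1)]) (M := 2) (NotCT.Orders.m24 h)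
    (by decide +kernel) (by decide +kernel) (by decide +kernel)

theorem noCore_m24 (big : Big) (h : Spor.IsoM24 L) : NoCore L :=
  noCore_of_card big (l := [(2, 10), (3, 3), (5, 1), (7, 1), (11, 1), (23, 1)]) (M := 96) (NotCT.Orders.m24 h)
    (by decide +kernel) (by decide +kernel) (by decide +kernel)

theorem rank7_j1 (big : Big) (h : Spor.IsoJ1 L) : Rank7 L :=
  rank7_of_card big (l := [(2, 3), (3, 1), (5, 1), (7, 1), (11, 1), (19, 1)]) (M := 1) (NotCT.Orders.j1 h)
    (by decide +kernel) (by decide +kernel) (by decide +kernel)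

theorem noCore_j1 (big : Big) (h : Spor.IsoJ1 L) : NoCore L :=
  noCore_of_card big (l := [(2, 3), (3, 1), (5, 1), (7, 1), (11, 1), (19, 1)]) (M := 2) (NotCT.Orders.j1 h)
    (by decide +kernel) (by decide +kernel) (by decide +kernel)

theorem rank7_j2 (big : Big) (h : Spor.IsoJ2 L) : Rank7 L :=
  rank7_of_card big (l := [(2, 7), (3, 3), (5, 2), (7, 1)]) (M := 1) (NotCT.Orders.j2 h)
    (by decide +kernel) (by decide +kernel) (by decide +kernel)

theorem cand_j2 [Finite U] (big : Big) (h : Spor.IsoJ2 L) (c : Core τ α β R R') : Nat.card U = 60 :=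
  (by decide +kernel : ∀ o ∈ ords (root [(2, 7), (3, 3), (5, 2), (7, 1)] 2) 120, o = 60) _
    (c.card_mem_root big (NotCT.Orders.j2 h) (by decide +kernel) (by decide +kernel))

theorem rank7_j3 (big : Big) (h : Spor.IsoJ3 L) : Rank7 L :=
  rank7_of_card big (l := [(2, 7), (3, 5), (5, 1), (17, 1), (19, 1)]) (M := 1) (NotCT.Orders.j3 h)
    (by decide +kernel) (by decide +kernel) (by decide +kernel)

theorem noCore_j3 (big : Big) (h : Spor.IsoJ3 L) : NoCore L :=
  noCore_of_card big (l := [(2, 7), (3, 5), (5, 1), (17, 1), (19, 1)]) (M := 72) (NotCT.Orders.j3 h)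
    (by decide +kernel) (by decide +kernel) (by decide +kernel)

theorem rank7_j4 (big : Big) (h : Spor.IsoJ4 L) : Rank7 L :=
  rank7_of_card big (l := [(2, 21), (3, 3), (5, 1), (7, 1), (11, 3), (23, 1), (29, 1), (31, 1), (37, 1), (43, 1)]) (M := 4) (NotCT.Orders.j4 h)
    (by decide +kernel) (by decide +kernel) (by decide +kernel)

theorem noCore_j4 (big : Big) (h : Spor.IsoJ4 L) : NoCore L :=
  noCore_of_card big (l := [(2, 21), (3, 3), (5, 1), (7, 1), (11, 3), (23, 1), (29, 1), (31, 1), (37, 1), (43, 1)]) (M := 33792) (NotCT.Orders.j4 h)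
    (by decide +kernel) (by decide +kernel) (by decide +kernel)

theorem rank7_co1 (big : Big) (h : Spor.IsoCo1 L) : Rank7 L :=
  rank7_of_card big (l := [(2, 21), (3, 9), (5, 4), (7, 2), (11, 1), (13, 1), (23, 1)]) (M := 12) (NotCT.Orders.co1 h)
    (by decide +kernel) (by decide +kernel) (by decide +kernel)

theorem cand_co1 [Finite U] (big : Big) (h : Spor.IsoCo1 L) (c : Core τ α β R R') :
    7 ∣ Nat.card U ∨ Nat.card U = 60 ∨ Nat.card U = 360 ∨ Nat.card U = 25920 :=
  (by decide +kernel : ∀ o ∈ ords (root [(2, 21), (3, 9), (5, 4), (7, 2), (11, 1), (13, 1), (23, 1)] 2) 14515200, 7 ∣ o ∨ o = 60 ∨ o = 360 ∨ o = 25920) _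
    (c.card_mem_root big (NotCT.Orders.co1 h) (by decide +kernel) (by decide +kernel))

theorem rank7_co2 (big : Big) (h : Spor.IsoCo2 L) : Rank7 L :=
  rank7_of_card big (l := [(2, 18), (3, 6), (5, 3), (7, 1), (11, 1), (23, 1)]) (M := 4) (NotCT.Orders.co2 h)
    (by decide +kernel) (by decide +kernel) (by decide +kernel)

theorem cand_co2 [Finite U] (big : Big) (h : Spor.IsoCo2 L) (c : Core τ α β R R') : Nat.card U = 60 ∨ Nat.card U = 360 :=
  (by decide +kernel : ∀ o ∈ ords (root [(2, 18), (3, 6), (5, 3), (7, 1), (11, 1), (23, 1)] 2) 69120, o = 60 ∨ o = 360) _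
    (c.card_mem_root big (NotCT.Orders.co2 h) (by decide +kernel) (by decide +kernel))

theorem rank7_co3 (big : Big) (h : Spor.IsoCo3 L) : Rank7 L :=
  rank7_of_card big (l := [(2, 10), (3, 7), (5, 3), (7, 1), (11, 1), (23, 1)]) (M := 2) (NotCT.Orders.co3 h)
    (by decide +kernel) (by decide +kernel) (by decide +kernel)

theorem cand_co3 [Finite U] (big : Big) (h : Spor.IsoCo3 L) (c : Core τ α β R R') : Nat.card U = 60 ∨ Nat.card U = 360 :=
  (by decide +kernel : ∀ o ∈ ords (root [(2, 10), (3, 7), (5, 3), (7, 1), (11, 1), (23, 1)] 2) 4320, o = 60 ∨ o = 360) _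
    (c.card_mem_root big (NotCT.Orders.co3 h) (by decide +kernel) (by decide +kernel))

theorem rank7_mcl (big : Big) (h : Spor.IsoMcL L) : Rank7 L :=
  rank7_of_card big (l := [(2, 7), (3, 6), (5, 3), (7, 1), (11, 1)]) (M := 1) (NotCT.Orders.mcl h)
    (by decide +kernel) (by decide +kernel) (by decide +kernel)

theorem cand_mcl [Finite U] (big : Big) (h : Spor.IsoMcL L) (c : Core τ α β R R') : Nat.card U = 60 ∨ Nat.card U = 360 :=
  (by decide +kernel : ∀ o ∈ ords (root [(2, 7), (3, 6), (5, 3), (7, 1), (11, 1)] 2) 1080, o = 60 ∨ o = 360) _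
    (c.card_mem_root big (NotCT.Orders.mcl h) (by decide +kernel) (by decide +kernel))

theorem rank7_hs (big : Big) (h : Spor.IsoHS L) : Rank7 L :=
  rank7_of_card big (l := [(2, 9), (3, 2), (5, 3), (7, 1), (11, 1)]) (M := 2) (NotCT.Orders.hs h)
    (by decide +kernel) (by decide +kernel) (by decide +kernel)

theorem cand_hs [Finite U] (big : Big) (h : Spor.IsoHS L) (c : Core τ α β R R') : Nat.card U = 60 :=
  (by decide +kernel : ∀ o ∈ ords (root [(2, 9), (3, 2), (5, 3), (7, 1), (11, 1)] 2) 240, o = 60) _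
    (c.card_mem_root big (NotCT.Orders.hs h) (by decide +kernel) (by decide +kernel))

theorem rank7_suz (big : Big) (h : Spor.IsoSuz L) : Rank7 L :=
  rank7_of_card big (l := [(2, 13), (3, 7), (5, 2), (7, 1), (11, 1), (13, 1)]) (M := 2) (NotCT.Orders.suz h)
    (by decide +kernel) (by decide +kernel) (by decide +kernel)

theorem cand_suz [Finite U] (big : Big) (h : Spor.IsoSuz L) (c : Core τ α β R R') : Nat.card U = 60 ∨ Nat.card U = 360 :=
  (by decide +kernel : ∀ o ∈ ords (root [(2, 13), (3, 7), (5, 2), (7, 1), (11, 1), (13, 1)] 2) 8640, o = 60 ∨ o = 360) _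
    (c.card_mem_root big (NotCT.Orders.suz h) (by decide +kernel) (by decide +kernel))

theorem rank7_he (big : Big) (h : Spor.IsoHe L) : Rank7 L :=
  rank7_of_card big (l := [(2, 10), (3, 3), (5, 2), (7, 3), (17, 1)]) (M := 2) (NotCT.Orders.he h)
    (by decide +kernel) (by decide +kernel) (by decide +kernel)

theorem cand_he [Finite U] (big : Big) (h : Spor.IsoHe L) (c : Core τ α β R R') : Nat.card U = 60 ∨ Nat.card U = 168 :=
  (by decide +kernel : ∀ o ∈ ords (root [(2, 10), (3, 3), (5, 2), (7, 3), (17, 1)] 2) 3360, o = 60 ∨ o = 168) _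
    (c.card_mem_root big (NotCT.Orders.he h) (by decide +kernel) (by decide +kernel))

theorem rank7_ru (big : Big) (h : Spor.IsoRu L) : Rank7 L :=
  rank7_of_card big (l := [(2, 14), (3, 3), (5, 3), (7, 1), (13, 1), (29, 1)]) (M := 2) (NotCT.Orders.ru h)
    (by decide +kernel) (by decide +kernel) (by decide +kernel)

theorem cand_ru [Finite U] (big : Big) (h : Spor.IsoRu L) (c : Core τ α β R R') : Nat.card U = 60 :=
  (by decide +kernel : ∀ o ∈ ords (root [(2, 14), (3, 3), (5, 3), (7, 1), (13, 1), (29, 1)] 2) 1920, o = 60) _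
    (c.card_mem_root big (NotCT.Orders.ru h) (by decide +kernel) (by decide +kernel))

theorem rank7_on (big : Big) (h : Spor.IsoON L) : Rank7 L :=
  rank7_of_card big (l := [(2, 9), (3, 4), (5, 1), (7, 3), (11, 1), (19, 1), (31, 1)]) (M := 2) (NotCT.Orders.on h)
    (by decide +kernel) (by decide +kernel) (by decide +kernel)

theorem cand_on [Finite U] (big : Big) (h : Spor.IsoON L) (c : Core τ α β R R') : Nat.card U = 168 ∨ Nat.card U = 504 :=
  (by decide +kernel : ∀ o ∈ ords (root [(2, 9), (3, 4), (5, 1), (7, 3), (11, 1), (19, 1), (31, 1)] 2) 1008, o = 168 ∨ o = 504) _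
    (c.card_mem_root big (NotCT.Orders.on h) (by decide +kernel) (by decide +kernel))

theorem rank7_ly (big : Big) (h : Spor.IsoLy L) : Rank7 L :=
  rank7_of_card big (l := [(2, 8), (3, 7), (5, 6), (7, 1), (11, 1), (31, 1), (37, 1), (67, 1)]) (M := 2) (NotCT.Orders.ly h)
    (by decide +kernel) (by decide +kernel) (by decide +kernel)

theorem cand_ly [Finite U] (big : Big) (h : Spor.IsoLy L) (c : Core τ α β R R') : Nat.card U = 60 ∨ Nat.card U = 360 :=
  (by decide +kernel : ∀ o ∈ ords (root [(2, 8), (3, 7), (5, 6), (7, 1), (11, 1), (31, 1), (37, 1), (67, 1)] 2) 54000, o = 60 ∨ o = 360) _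
    (c.card_mem_root big (NotCT.Orders.ly h) (by decide +kernel) (by decide +kernel))

theorem rank7_fi22 (big : Big) (h : Spor.IsoFi22 L) : Rank7 L :=
  rank7_of_card big (l := [(2, 17), (3, 9), (5, 2), (7, 1), (11, 1), (13, 1)]) (M := 12) (NotCT.Orders.fi22 h)
    (by decide +kernel) (by decide +kernel) (by decide +kernel)

theorem cand_fi22 [Finite U] (big : Big) (h : Spor.IsoFi22 L) (c : Core τ α β R R') : Nat.card U = 60 ∨ Nat.card U = 360 ∨ Nat.card U = 25920 :=
  (by decide +kernel : ∀ o ∈ ords (root [(2, 17), (3, 9), (5, 2), (7, 1), (11, 1), (13, 1)] 2) 103680, o = 60 ∨ o = 360 ∨ o = 25920) _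
    (c.card_mem_root big (NotCT.Orders.fi22 h) (by decide +kernel) (by decide +kernel))

theorem rank7_fi23 (big : Big) (h : Spor.IsoFi23 L) : Rank7 L :=
  rank7_of_card big (l := [(2, 18), (3, 13), (5, 2), (7, 1), (11, 1), (13, 1), (17, 1), (23, 1)]) (M := 12) (NotCT.Orders.fi23 h)
    (by decide +kernel) (by decide +kernel) (by decide +kernel)

theorem cand_fi23 [Finite U] (big : Big) (h : Spor.IsoFi23 L) (c : Core τ α β R R') : Nat.card U = 60 ∨ Nat.card U = 360 ∨ Nat.card U = 25920 :=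
  (by decide +kernel : ∀ o ∈ ords (root [(2, 18), (3, 13), (5, 2), (7, 1), (11, 1), (13, 1), (17, 1), (23, 1)] 2) 1866240, o = 60 ∨ o = 360 ∨ o = 25920) _
    (c.card_mem_root big (NotCT.Orders.fi23 h) (by decide +kernel) (by decide +kernel))

theorem rank7_fi24 (big : Big) (h : Spor.IsoFi24' L) : Rank7 L :=
  rank7_of_card big (l := [(2, 21), (3, 16), (5, 2), (7, 3), (11, 1), (13, 1), (17, 1), (23, 1), (29, 1)]) (M := 36) (NotCT.Orders.fi24 h)
    (by decide +kernel) (by decide +kernel) (by decide +kernel)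

theorem cand_fi24 [Finite U] (big : Big) (h : Spor.IsoFi24' L) (c : Core τ α β R R') :
    7 ∣ Nat.card U ∨ Nat.card U = 60 ∨ Nat.card U = 360 ∨ Nat.card U = 25920 :=
  (by decide +kernel : ∀ o ∈ ords (root [(2, 21), (3, 16), (5, 2), (7, 3), (11, 1), (13, 1), (17, 1), (23, 1), (29, 1)] 2) 235146240, 7 ∣ o ∨ o = 60 ∨ o = 360 ∨ o = 25920) _
    (c.card_mem_root big (NotCT.Orders.fi24 h) (by decide +kernel) (by decide +kernel))

theorem rank7_hn (big : Big) (h : Spor.IsoHN L) : Rank7 L :=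
  rank7_of_card big (l := [(2, 14), (3, 6), (5, 6), (7, 1), (11, 1), (19, 1)]) (M := 2) (NotCT.Orders.hn h)
    (by decide +kernel) (by decide +kernel) (by decide +kernel)

theorem cand_hn [Finite U] (big : Big) (h : Spor.IsoHN L) (c : Core τ α β R R') : Nat.card U = 60 ∨ Nat.card U = 360 :=
  (by decide +kernel : ∀ o ∈ ords (root [(2, 14), (3, 6), (5, 6), (7, 1), (11, 1), (19, 1)] 2) 432000, o = 60 ∨ o = 360) _
    (c.card_mem_root big (NotCT.Orders.hn h) (by decide +kernel) (by decide +kernel))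

theorem rank7_th (big : Big) (h : Spor.IsoTh L) : Rank7 L :=
  rank7_of_card big (l := [(2, 15), (3, 10), (5, 3), (7, 2), (13, 1), (19, 1), (31, 1)]) (M := 6) (NotCT.Orders.th h)
    (by decide +kernel) (by decide +kernel) (by decide +kernel)

theorem cand_th [Finite U] (big : Big) (h : Spor.IsoTh L) (c : Core τ α β R R') :
    7 ∣ Nat.card U ∨ Nat.card U = 60 ∨ Nat.card U = 360 ∨ Nat.card U = 25920 :=
  (by decide +kernel : ∀ o ∈ ords (root [(2, 15), (3, 10), (5, 3), (7, 2), (13, 1), (19, 1), (31, 1)] 2) 1088640, 7 ∣ o ∨ o = 60 ∨ o = 360 ∨ o = 25920) _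
    (c.card_mem_root big (NotCT.Orders.th h) (by decide +kernel) (by decide +kernel))

theorem rank7_b (big : Big) (h : Spor.IsoB L) : Rank7 L :=
  rank7_of_card big (l := [(2, 41), (3, 13), (5, 6), (7, 2), (11, 1), (13, 1), (17, 1), (19, 1), (23, 1), (31, 1), (47, 1)]) (M := 96) (NotCT.Orders.b h)
    (by decide +kernel) (by decide +kernel) (by decide +kernel)

theorem cand_b [Finite U] (big : Big) (h : Spor.IsoB L) (c : Core τ α β R R') :
    7 ∣ Nat.card U ∨ Nat.card U = 60 ∨ Nat.card U = 360 ∨ Nat.card U = 25920 :=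
  (by decide +kernel : ∀ o ∈ ords (root [(2, 41), (3, 13), (5, 6), (7, 2), (11, 1), (13, 1), (17, 1), (19, 1), (23, 1), (31, 1), (47, 1)] 2) 668860416000, 7 ∣ o ∨ o = 60 ∨ o = 360 ∨ o = 25920) _
    (c.card_mem_root big (NotCT.Orders.b h) (by decide +kernel) (by decide +kernel))

theorem cand_m [Finite U] (big : Big) (h : Spor.IsoM L) (c : Core τ α β R R') :
    13 ∣ Nat.card U ∨ 11 ∣ Nat.card U ∨ 7 ∣ Nat.card U ∨ Nat.card U = 60 ∨ Nat.card U = 360 ∨ Nat.card U = 25920 :=
  (by decide +kernel : ∀ o ∈ ords (root [(2, 46), (3, 20), (5, 9), (7, 6), (11, 2), (13, 3), (17, 1), (19, 1), (23, 1), (29, 1), (31, 1), (41, 1), (47, 1), (59, 1), (71, 1)] 2) 15184923989114880000, 13 ∣ o ∨ 11 ∣ o ∨ 7 ∣ o ∨ o = 60 ∨ o = 360 ∨ o = 25920) _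
    (c.card_mem_root big (NotCT.Orders.m h) (by decide +kernel) (by decide +kernel))

end Cfsg.Agent.Cam.Spor
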