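import Cfsg.Agent.Cam.Spor.RowA
import Cfsg.Agent.CpAut.SmallP.TwoPart
import Cfsg.Agent.BpSpor.CoThreeFive
import Cfsg.Agent.H410.CopTits
import Cfsg.Agent.H736.S4095.He
import Cfsg.Agent.CpAutHe.Seven
import Cfsg.Agent.H915.S8.RuCent
import Cfsg.Agent.RuLat.Main
import Cfsg.Agent.H502.TO.Loc
import Cfsg.Agent.H468.PW.Th

/-!
# S3689, S3690: the rows J2, McL, Co3, Tits, He, Ru, Th (helper67)
-/

set_option autoImplicit false

namespace Cfsg.Agent.Cam.Spor

open Cfsg Subgroup

variable {L : Type} [Group L]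

/-- a divisor with bounded prime powers -/
theorem dvd_of_not_dvd {n N p k j : ℕ} (hp : p.Prime) (h : n ∣ p ^ k * N) (hj : ¬ p ^ (j + 1) ∣ n) : n ∣ p ^ j * N := by
  obtain ⟨a, b, ha, hb, rfl⟩ := Nat.dvd_mul.1 h
  obtain ⟨i, -, rfl⟩ := (Nat.dvd_prime_pow hp).1 ha
  refine Nat.mul_dvd_mul (pow_dvd_pow p ?_) hb
  by_contra hlt
  exact hj ((pow_dvd_pow p (by omega)).trans (Dvd.intro _ rfl))

theorem noCore_j2 [Finite L] (big : Big) (h : Spor.IsoJ2 L) : NoCore L := fun U _ _ τ α β R R' c => by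
  obtain ⟨u, hu, -⟩ := Core.exists_orderOf (U := U) (r := 5) (by norm_num) (by rw [cand_j2 big h c]; norm_num)
  have hx : orderOf (τ u) = 5 := (c.pair.orderOf_eq u).trans hu
  refine c.false_of_num big (by norm_num) hu (l := [(2, 2), (3, 3), (5, 1), (7, 1)]) (N := 3780) (by decide +kernel) ?_
    (m := 60) (by decide +kernel) (by decide +kernel) (ex := []) (by decide +kernel) (by simp)
  have h1 := card_subgroup_dvd_card (centralizer ({τ u} : Set L))
  rw [NotCT.Orders.j2 h] at h1
  exact dvd_of_not_dvd (p := 2) (k := 7) (j := 2) (N := 4725) Nat.prime_two h1 (CpAut.SmallP.J2.not_eight h hx)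

theorem noCore_mcl [Finite L] (big : Big) (h : Spor.IsoMcL L) : NoCore L := fun U _ _ τ α β R R' c => by
  have hU : 60 ∣ Nat.card U := by rcases cand_mcl big h c with h1 | h1 <;> rw [h1] <;> norm_num
  obtain ⟨u, hu, -⟩ := Core.exists_orderOf (U := U) (r := 5) (by norm_num) (Dvd.dvd.trans (by norm_num) hU)
  have hx : orderOf (τ u) = 5 := (c.pair.orderOf_eq u).trans hu
  refine CpAut.SmallP.McL.not_four h hx (Dvd.dvd.trans ?_ (c.pair.order_mul_dvd' c.simple c.noncomm u))
  exact (Dvd.dvd.trans (by norm_num) hU).mul_left _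

theorem noCore_tits [Finite L] (big : Big) (h : Lie.IsoTits L) : NoCore L := fun U _ _ τ α β R R' c => by
  have hU := cand_tits big h c
  obtain ⟨u, hu, -⟩ := Core.exists_orderOf (U := U) (r := 5) (by norm_num) (by rw [hU]; norm_num)
  have hx : orderOf (τ u) = 5 := (c.pair.orderOf_eq u).trans hu
  refine H410.CopTits.cb_five_three h _ hx (Dvd.dvd.trans ?_ (c.pair.order_mul_dvd' c.simple c.noncomm u))
  rw [hU, hu]
  norm_num

theorem noCore_co3 [Finite L] (big : Big) (h : Spor.IsoCo3 L) : NoCore L := by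
  obtain ⟨e⟩ := h
  have : Finite Spor.Co3 := Finite.of_equiv _ e.toEquiv
  refine NoCore.of_equiv (fun U _ _ τ α β R R' c => ?_) e
  have hU : 5 ∣ Nat.card U := by rcases cand_co3 big ⟨MulEquiv.refl _⟩ c with h1 | h1 <;> rw [h1] <;> norm_num
  obtain ⟨u, hu, -⟩ := Core.exists_orderOf (U := U) (r := 5) (by norm_num) hU
  have hx : orderOf (τ u) = 5 := (c.pair.orderOf_eq u).trans hu
  exact c.false_of_num big (by norm_num) hu (l := [(2, 5), (3, 1), (5, 2)]) (N := 2400) (by decide +kernel)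
    (BpSpor.CoThreeFive.card_dvd hx) (m := 60) (by decide +kernel) (by decide +kernel) (ex := []) (by decide +kernel)
    (by simp)

theorem noCore_he [Finite L] (big : Big) (h : Spor.IsoHe L) : NoCore L := by
  obtain ⟨e⟩ := h
  have : Finite Spor.He := Finite.of_equiv _ e.toEquiv
  refine NoCore.of_equiv (fun U _ _ τ α β R R' c => ?_) e
  rcases cand_he big ⟨MulEquiv.refl _⟩ c with hU | hU
  · obtain ⟨u, hu, hu1⟩ := Core.exists_orderOf (U := U) (r := 5) (by norm_num) (by rw [hU]; norm_num)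
    have hx : orderOf (τ u) = 5 := (c.pair.orderOf_eq u).trans hu
    refine c.false_of_small hu1 ?_
    have := H736.S4095.He.five hx
    rw [hu, hU]
    omega
  · obtain ⟨u, hu, hu1⟩ := Core.exists_orderOf (U := U) (r := 7) (by norm_num) (by rw [hU]; norm_num)
    have hx : orderOf (τ u) = 7 := (c.pair.orderOf_eq u).trans hu
    refine c.false_of_small hu1 ?_
    have h2 : 2 ∣ Nat.card (centralizer ({τ u} : Set Spor.He)) :=
      Dvd.dvd.trans (by rw [hu, hU]; norm_num) (c.pair.order_mul_dvd' c.simple c.noncomm u)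
    have := CpAutHe.Seven.card_le hx (Nat.not_odd_iff_even.2 (even_iff_two_dvd.2 h2))
    rw [hu, hU]
    omega

theorem noCore_ru [Finite L] (big : Big) (h : Spor.IsoRu L) : NoCore L := by
  obtain ⟨e⟩ := h
  have : Finite SporadicB.RuOrder.H := Finite.of_equiv _ (e.trans RuLat.Main.equiv).toEquiv
  refine NoCore.of_equiv (fun U _ _ τ α β R R' c => ?_) (e.trans RuLat.Main.equiv)
  have hU := cand_ru big ⟨RuLat.Main.equiv.symm⟩ c
  obtain ⟨u, hu, hu1⟩ := Core.exists_orderOf (U := U) (r := 5) (by norm_num) (by rw [hU]; norm_num)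
  have hx : orderOf (τ u) = 5 := (c.pair.orderOf_eq u).trans hu
  refine c.false_of_small hu1 ?_
  have := H915.S8.RuCent.c5 _ hx
  rw [hu, hU]
  omega

theorem noCore_th [Finite L] (big : Big) (h : Spor.IsoTh L) : NoCore L := by
  obtain ⟨e⟩ := h
  have : Finite Spor.Th := Finite.of_equiv _ e.toEquiv
  refine NoCore.of_equiv (fun U _ _ τ α β R R' c => ?_) e
  by_cases h7 : 7 ∣ Nat.card U
  · obtain ⟨u, hu, hu1⟩ := Core.exists_orderOf (U := U) (r := 7) (by norm_num) h7
    have hx : orderOf (τ u) = 7 := (c.pair.orderOf_eq u).trans hu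
    exact c.false_of_num big (by norm_num) hu (l := [(2, 3), (3, 1), (7, 1)]) (N := 168) (by decide +kernel)
      (by rw [H468.PW.ThP.card_cent hx]) (m := 168) (by decide +kernel) (by decide +kernel) (ex := [])
      (by decide +kernel) (by simp)
  · have h5 : 5 ∣ Nat.card U := by
      rcases cand_th big ⟨MulEquiv.refl _⟩ c with h1 | h1 | h1 | h1
      · exact absurd h1 h7
      all_goals rw [h1]; norm_num
    obtain ⟨u, hu, hu1⟩ := Core.exists_orderOf (U := U) (r := 5) (by norm_num) h5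
    have hx : orderOf (τ u) = 5 := (c.pair.orderOf_eq u).trans hu
    exact c.false_of_num big (by norm_num) hu (l := [(2, 3), (3, 1), (5, 2)]) (N := 600) (by decide +kernel)
      (by rw [H502.TO.card_five hx]) (m := 60) (by decide +kernel) (by decide +kernel) (ex := [])
      (by decide +kernel) (by simp)

end Cfsg.Agent.Cam.Spor
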