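import Cfsg.Agent.Cam.Spor.Gen
import Cfsg.Agent.Cam.Spor.RowFi
import Cfsg.Agent.S0984
import Cfsg.Agent.StandardComponent.AltAut

/-!
# S3689, S3690: an element inverting `x` and centralizing a complement of `⟨x⟩` in the perfect part (helper67)
-/

set_option autoImplicit false

namespace Cfsg.Agent.Cam.Spor

open Cfsg Subgroup Cfsg.Agent.TwoFusion.PerfCore
open scoped commutatorElement

section
variable {G : Type} [Group G]

/-- conjugating a `Core` -/
theorem Core.exists_conj {U : Type} [Group U] [Finite G] {τ α β : U →* G} {R R' : Subgroup G} (c : Core τ α β R R')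
    {u : U} {x : G} (h : IsConj x (τ u)) :
    ∃ (τ α β : U →* G) (R R' : Subgroup G), Core τ α β R R' ∧ τ u = x := by
  obtain ⟨g, hg⟩ := isConj_iff.1 h.symm
  exact ⟨_, _, _, _, _, c.map (MulAut.conj g), hg⟩

/-- a perfect subgroup lies in a large subgroup -/
theorem le_of_card_lt [Finite G] {C H P : Subgroup G} (hP : ⁅P, P⁆ = P) (hPC : P ≤ C) (hH : H ≤ C)
    (h : Nat.card C < 5 * Nat.card H) : P ≤ H := by
  have h2 := card_mul_index (H.subgroupOf C)
  rw [Nat.card_congr (subgroupOfEquivOfLe hH).toEquiv] at h2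
  have h4 : (H.subgroupOf C).index ≤ 4 := by
    by_contra h5
    nlinarith
  have h5 : ⁅P.subgroupOf C, P.subgroupOf C⁆ = P.subgroupOf C := by
    apply Subgroup.map_injective C.subtype_injective
    rw [Subgroup.map_commutator, map_subgroupOf_eq_of_le hPC, hP]
  have h6 := Schreier.ClassBase.le_of_index_le_four h5 _ index_ne_zero_of_finite h4
  intro p hp
  exact mem_subgroupOf.1 (h6 (show (⟨p, hPC hp⟩ : C) ∈ _ from hp))

theorem perf_zpowers [Finite G] (x : G) : perf (zpowers x) = ⊥ := by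
  refine eq_bot_of_perfect_comm (perf_perfect _) fun a ha b hb => ?_
  obtain ⟨i, rfl⟩ := perf_le _ ha
  obtain ⟨j, rfl⟩ := perf_le _ hb
  exact (Commute.zpow_zpow_self _ i j).eq

/-- a perfect subgroup of `K ⟨x⟩` lies in `K` -/
theorem le_of_le_sup_zpowers [Finite G] {x : G} {K P : Subgroup G} (hK : K ≤ centralizer ({x} : Set G))
    (hP : ⁅P, P⁆ = P) (h : P ≤ K ⊔ zpowers x) : P ≤ K := by
  have h1 := le_sup_perf (fun k hk a ha => zpowers_comm a ha k (hK hk)) hP h
  rwa [perf_zpowers, sup_bot_eq] at h1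

/-- an element commuting with a perfect group modulo `⟨x⟩` centralizes it -/
theorem mem_cent_of_le_Yz {x z : G} {P : Subgroup G} (hP : ⁅P, P⁆ = P) (h : P ≤ Yz x z) :
    z ∈ centralizer (P : Set G) := by
  let D : Subgroup G := centralizer ({z} : Set G)
  have hD : ⁅P, P⁆ ≤ D := by
    rw [Subgroup.commutator_le]
    intro p hp q hq
    obtain ⟨hpx, ha⟩ := h hp
    obtain ⟨hqx, hb⟩ := h hq
    have e1 : z * p⁻¹ * z⁻¹ = p⁻¹ * (p * z * p⁻¹ * z⁻¹) := by group
    have e2 : z * q⁻¹ * z⁻¹ = q⁻¹ * (q * z * q⁻¹ * z⁻¹) := by group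
    generalize p * z * p⁻¹ * z⁻¹ = a at ha e1
    generalize q * z * q⁻¹ * z⁻¹ = b at hb e2
    have hpa : Commute p a := zpowers_comm a ha p (mem_centralizer_singleton_iff.2 hpx)
    have hqa : Commute q a := zpowers_comm a ha q (mem_centralizer_singleton_iff.2 hqx)
    have hpb : Commute p b := zpowers_comm b hb p (mem_centralizer_singleton_iff.2 hpx)
    have hqb : Commute q b := zpowers_comm b hb q (mem_centralizer_singleton_iff.2 hqx)
    refine mem_centralizer_singleton_iff.2 ?_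
    have e3 : z * ⁅p, q⁆ * z⁻¹ = (p⁻¹ * a)⁻¹ * (q⁻¹ * b)⁻¹ * (p⁻¹ * a) * (q⁻¹ * b) := by
      rw [← e1, ← e2, commutatorElement_def]; group
    have e4 : (p⁻¹ * a)⁻¹ * (q⁻¹ * b)⁻¹ * (p⁻¹ * a) * (q⁻¹ * b) = ⁅p, q⁆ := by
      have h1 : Commute a (p * q * p⁻¹) := (hpa.symm.mul_right hqa.symm).mul_right hpa.symm.inv_right
      have h2 : Commute b (q * p⁻¹ * q⁻¹) := (hqb.symm.mul_right hpb.symm.inv_right).mul_right hqb.symm.inv_right
      have hab : Commute a b := by
        obtain ⟨i, rfl⟩ := ha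
        obtain ⟨j, rfl⟩ := hb
        exact Commute.zpow_zpow_self _ i j
      calc (p⁻¹ * a)⁻¹ * (q⁻¹ * b)⁻¹ * (p⁻¹ * a) * (q⁻¹ * b)
          = a⁻¹ * (p * b⁻¹) * q * p⁻¹ * a * q⁻¹ * b := by group
        _ = b⁻¹ * (a⁻¹ * (p * q * p⁻¹ * a)) * q⁻¹ * b := by
          rw [hpb.inv_right.eq, ← mul_assoc a⁻¹, hab.inv_inv.eq]; group
        _ = (b⁻¹ * p) * (q * p⁻¹ * q⁻¹ * b) := by rw [← h1.eq]; group
        _ = _ := by rw [← h2.eq, ← hpb.inv_right.eq, commutatorElement_def]; group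
    calc ⁅p, q⁆ * z = z * ⁅p, q⁆ * z⁻¹ * z := by rw [e3, e4]
      _ = _ := by group
  rw [hP] at hD
  exact mem_centralizer_iff.2 fun p hp => mem_centralizer_singleton_iff.1 (hD hp)

/-- `C(x) = ⟨x⟩ K`; the involution `s` inverts `x` and centralizes `K` -/
structure SD (x s : G) (K : Subgroup G) : Prop where
  split : ∀ c, c * x = x * c → ∃ i : ℤ, ∃ k ∈ K, c = x ^ i * k
  le : K ≤ centralizer ({x} : Set G)
  sq : s * s = 1
  inv : s * x * s⁻¹ = x⁻¹
  cent : ∀ k ∈ K, k * s = s * k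

theorem SD.perfect_le [Finite G] {x s : G} {K P : Subgroup G} (d : SD x s K) (hP : ⁅P, P⁆ = P)
    (h : P ≤ centralizer ({x} : Set G)) : P ≤ K := by
  refine le_of_le_sup_zpowers d.le hP fun p hp => ?_
  obtain ⟨i, k, hk, rfl⟩ := d.split p (mem_centralizer_singleton_iff.1 (h hp))
  exact mul_mem (mem_sup_right ⟨i, rfl⟩) (mem_sup_left hk)

theorem SD.mem_cent [Finite G] {x s : G} {K : Subgroup G} (d : SD x s K) :
    s ∈ centralizer (perf (centralizer ({x} : Set G)) : Set G) :=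
  mem_centralizer_iff.2 fun p hp => d.cent p (d.perfect_le (perf_perfect _) (perf_le _) hp)

variable {U : Type} [Group U] {τ α β : U →* G} {R R' : Subgroup G}

/-- the involution of `K` induced by an involution of `T` -/
theorem Core.exists_k [Finite G] (c : Core τ α β R R') {u v : U} {s : G} {K : Subgroup G} (d : SD (τ u) s K)
    (hv : v * v = 1) (hvu : v * u * v⁻¹ = u⁻¹) (hne : v * u ≠ u * v) :
    R ≤ K ∧ ∃ k ∈ K, orderOf k = 2 ∧ (∀ r ∈ R, k * r = r * k) ∧ ∃ i : ℤ, τ v = s * τ u ^ i * k := by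
  have hR : R ≤ K := d.perfect_le c.pair.perfect (c.pair.le_cent u)
  have ht : τ v * τ u * (τ v)⁻¹ = (τ u)⁻¹ := by rw [← map_inv, ← map_inv, ← map_mul, ← map_mul, hvu]
  obtain ⟨i, k, hk, h⟩ := d.split (s⁻¹ * τ v) (by
    calc s⁻¹ * τ v * τ u = s⁻¹ * (τ v * τ u * (τ v)⁻¹) * τ v := by group
      _ = _ := by rw [ht, ← d.inv]; group)
  have h1 : τ v = s * τ u ^ i * k := by rw [mul_assoc, ← h, mul_inv_cancel_left]
  have hkx : Commute k (τ u ^ i) := (show Commute k (τ u) from mem_centralizer_singleton_iff.1 (d.le hk)).zpow_right i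
  refine ⟨hR, k, hk, orderOf_eq_prime ?_ fun h2 => ?_, fun r hr => ?_, i, h1⟩
  · have h2 : τ v * τ v = 1 := by rw [← map_mul, hv, map_one]
    have h3 : s * τ u ^ i * s⁻¹ = (τ u ^ i)⁻¹ := by rw [← conj_zpow, d.inv, inv_zpow]
    rw [pow_two, ← h2, h1]
    calc k * k = (s * τ u ^ i * s⁻¹) * (s * s) * τ u ^ i * k * k := by rw [h3, d.sq]; group
      _ = s * τ u ^ i * (s * (τ u ^ i * k)) * k := by group
      _ = _ := by rw [← hkx.eq, ← mul_assoc s k, ← d.cent k hk]; group
  · rw [h2, mul_one] at h1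
    refine hne (c.comm_of_cent_perf ?_)
    rw [h1]
    exact mul_mem d.mem_cent (mem_centralizer_iff.2 fun y hy => zpowers_comm _ ⟨i, rfl⟩ y (perf_le _ hy))
  · have h2 : k = (τ u ^ i)⁻¹ * s⁻¹ * τ v := by rw [h1]; group
    have h3 : Commute (τ u) r := c.pair.comm u r hr
    have h4 : Commute s r := (d.cent r (hR hr)).symm
    rw [h2]
    exact (((h3.zpow_left i).inv_left.mul_left h4.inv_left).mul_left (c.pair.comm v r hr)).eq

/-- the automorphisms of `A₇` fixing an element of order seven -/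
theorem aut_seven {X : Type} [Group X] [Finite X] (hs : IsSimpleGroup X) (hX : Nat.card X = 2520) {σ : MulAut X} {m : ℕ}
    (hσ : σ ^ m = 1) (hm : m.Coprime 7) {y : X} (hy : orderOf y = 7) (h : σ y = y) : σ = 1 := by
  obtain ⟨e⟩ := S0984.result hX
  obtain ⟨ψ, hψ⟩ := StandardComponent.AltAut.exists_autHom 7 le_rfl
  have h2 := H220.EP.card_cent_seven (y := (e y : alternatingGroup (Fin 7)))
    (by rw [Subgroup.orderOf_coe, MulEquiv.orderOf_eq, hy])
  have h3 : ψ (MulAut.congr e σ) ∈ centralizer ({((e y : alternatingGroup (Fin 7)) : Equiv.Perm (Fin 7))} : Set _) := by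
    refine mem_centralizer_singleton_iff.2 ?_
    have h1 := hψ (MulAut.congr e σ) (e y)
    have h4 : (MulAut.congr e σ) (e y) = e y := by simp [h]
    rw [h4] at h1
    calc ψ (MulAut.congr e σ) * _ = ψ (MulAut.congr e σ) * (e y : alternatingGroup (Fin 7)) * (ψ (MulAut.congr e σ))⁻¹ *
        ψ (MulAut.congr e σ) := by group
      _ = _ := by rw [← h1]
  have h4 : ψ (MulAut.congr e σ) ^ 7 = 1 := by
    have := congrArg Subtype.val (pow_card_eq_one' (x := (⟨_, h3⟩ : centralizer _)))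
    rwa [h2] at this
  have h5 : ψ (MulAut.congr e σ) = 1 := by
    rw [← pow_one (ψ _), ← show Nat.gcd m 7 = 1 from hm, pow_gcd_eq_one]
    exact ⟨by rw [← map_pow, ← map_pow, hσ, map_one, map_one], h4⟩
  ext g
  have h1 := hψ (MulAut.congr e σ) (e g)
  rw [h5, one_mul, inv_one, mul_one] at h1
  have h6 : (MulAut.congr e σ) (e g) = e (σ g) := by simp
  exact e.injective (h6.symm.trans (Subtype.ext h1))

/-- centralizers of order dividing `7 * 2520` -/
theorem Core.false_of_seven [Finite G] [Finite U] (big : Big) (c : Core τ α β R R') {u : U} (hu : orderOf u = 7)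
    (h49 : ¬ 7 ^ 2 ∣ Nat.card U) (hd : Nat.card (centralizer ({τ u} : Set G)) ∣ 7 * 2520) : False := by
  have hu1 : u ≠ 1 := by
    rintro rfl
    rw [orderOf_one] at hu
    omega
  obtain ⟨X, _, _, f, hf, hX⟩ := c.exists_qs big (by norm_num) hu (l := [(2, 3), (3, 2), (5, 1), (7, 1)]) (N := 2520)
    (by decide +kernel) hd (by decide +kernel) (ex := []) (by decide +kernel) (by simp)
  obtain ⟨v, j, m, hv, hne, hm, hco⟩ := exists_norm' c.simple c.noncomm (by norm_num) hu h49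
  obtain ⟨σ, ρ, hρ, hσ, hσ1, hσn⟩ := c.exists_aut (hv ▸ pow_mem (mem_zpowers u) j) hne hf
  by_cases h : Nat.card X = 2520
  · exact hσ1 (aut_seven hf.simple h (hσn m hm) hco (by rw [orderOf_injective ρ hρ, hu]) (hσ u))
  have hU := card_mem big c.simple c.noncomm (l := [(2, 3), (3, 2), (5, 1), (7, 1)]) (by decide +kernel)
    (c.card_dvd_of (by norm_num) hu hd)
  have h7 : 7 ∣ Nat.card U := hu ▸ orderOf_dvd_natCard u
  have h1 : Nat.card X < 5 * Nat.card U :=
    (by decide +kernel : ∀ a ∈ ords [(2, 3), (3, 2), (5, 1), (7, 1)] 2520, ∀ b ∈ ords [(2, 3), (3, 2), (5, 1), (7, 1)] 2520,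
      a ≠ 2520 → 7 ∣ b → a < 5 * b) _ hX _ hU h h7
  have h2 := le_of_card_lt (C := ⊤) (H := ρ.range) (commutator_top hf.simple hf.noncomm) le_rfl le_top
    (by rwa [card_top, ← Nat.card_congr (MonoidHom.ofInjective hρ).toEquiv])
  apply hσ1
  ext g
  obtain ⟨a, rfl⟩ := h2 (mem_top g)
  exact hσ a

end

end Cfsg.Agent.Cam.Spor
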